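import Cfsg.Agent.TDF.U

/-! Project TDF: the cubic extension, trace form.  See `notes/TDF.md`. -/

set_option autoImplicit false
set_option linter.unusedSectionVars false

namespace Cfsg.Agent.TDF

open FK RFS
open scoped commutatorElement

variable {K : Type*} [Field K] [Tri K] {a c d r x : K}

theorem tr_add (x y : K) : tr (x + y) = tr x + tr y := by simp [tr]; ring

theorem tr_sub (x y : K) : tr (x - y) = tr x - tr y := by simp [tr]; ring

theorem tr_neg (x : K) : tr (-x) = -tr x := by simp [tr]; ring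

theorem tr_smul (t : Fx K) (x : K) : tr (t * x) = t * tr x := by simp [tr]; ring

theorem mul_sh (x : K) : x * sh x = nr x := by simp [sh, nr]; ring

theorem sh_sh (x : K) : sh (sh x) = nr x * x := by simp [sh, nr]; ring

theorem vdm (h : σ r ≠ r) : σ (σ r) ≠ r ∧ σ (σ r) ≠ σ r :=
  ⟨fun e => h (by rw [← congrArg σ e, cube]), fun e => h (σ_inj e)⟩

theorem ded {x y z : K} (h : ∀ v, x * v + y * σ v + z * σ (σ v) = 0) : x = 0 ∧ y = 0 ∧ z = 0 := by
  obtain ⟨r, hr⟩ := Tri.ne (K := K)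
  obtain ⟨h1, h2⟩ := vdm hr
  have e0 := h 1
  have e1 := h r
  have e2 := h (r * r)
  simp only [map_one, map_mul] at e0 e2
  have ex : x * ((σ r - r) * (σ (σ r) - r)) = 0 := by
    linear_combination e2 - (σ r + σ (σ r)) * e1 + σ r * σ (σ r) * e0
  have x0 := (mul_eq_zero.1 ex).resolve_right (mul_ne_zero (sub_ne_zero.2 hr) (sub_ne_zero.2 h1))
  subst x0
  have ez : z * (σ (σ r) - σ r) = 0 := by linear_combination e1 - σ r * e0
  have z0 := (mul_eq_zero.1 ez).resolve_right (sub_ne_zero.2 h2)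
  subst z0
  exact ⟨rfl, by linear_combination e0, rfl⟩

theorem indep_pow (hr : σ r ≠ r) {s t w : K} (hs : σ s = s) (ht : σ t = t) (hw : σ w = w)
    (h : s + t * r + w * r ^ 2 = 0) : s = 0 ∧ t = 0 ∧ w = 0 := by
  obtain ⟨h1, h2⟩ := vdm hr
  have e2 := congrArg σ h
  have e3 := congrArg σ e2
  simp only [map_add, map_mul, map_pow, map_zero, hs, ht, hw] at e2 e3
  have ew : w * ((σ r - r) * (σ (σ r) - r) * (σ (σ r) - σ r)) = 0 := by
    linear_combination (σ (σ r) - σ r) * h - (σ (σ r) - r) * e2 + (σ r - r) * e3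
  have w0 := (mul_eq_zero.1 ew).resolve_right
    (mul_ne_zero (mul_ne_zero (sub_ne_zero.2 hr) (sub_ne_zero.2 h1)) (sub_ne_zero.2 h2))
  subst w0
  have et : t * (σ r - r) = 0 := by linear_combination e2 - h
  have t0 := (mul_eq_zero.1 et).resolve_right (sub_ne_zero.2 hr)
  subst t0
  exact ⟨by linear_combination h, rfl, rfl⟩

namespace Fld

theorem expand (r y : K) : y * ((σ r - r) * (σ (σ r) - r)) =
    tr (y * sh r) + tr (-(y * (σ r + σ (σ r)))) * r + tr y * r ^ 2 := by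
  simp [tr, sh]; ring

theorem exists_y (hr : σ r ≠ r) (x : K) : ∃ y, x = y * ((σ r - r) * (σ (σ r) - r)) :=
  ⟨_, (div_mul_cancel₀ x (mul_ne_zero (sub_ne_zero.2 hr) (sub_ne_zero.2 (vdm hr).1))).symm⟩

/-- the vector product -/
def X (a c : K) : K := σ a * σ (σ c) - σ (σ a) * σ c

theorem exists_r (ha : a ≠ 0) (c : K) : ∃ r, c = r * a := ⟨c / a, (div_mul_cancel₀ c ha).symm⟩

theorem X_zero (ha : a ≠ 0) (h : X a c = 0) : ∃ t : Fx K, c = t * a := by
  obtain ⟨r, rfl⟩ := exists_r ha c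
  have e : sh a * (σ (σ r) - σ r) = 0 := by rw [← h]; simp [X, sh]; ring
  exact ⟨⟨r, σ_inj (sub_eq_zero.1 ((mul_eq_zero.1 e).resolve_left (by simpa using ha)))⟩, rfl⟩

theorem X_left (a c : K) : tr (a * X a c) = 0 := by simp [tr, X]; ring

theorem X_right (a c : K) : tr (c * X a c) = 0 := by simp [tr, X]; ring

theorem X_perp (hd : d ≠ 0) (h1 : tr (a * d) = 0) (h2 : tr (c * d) = 0) : ∃ t : Fx K, X a c = t * d := by
  refine X_zero hd ?_
  have : X d (X a c) = a * tr (c * d) - c * tr (a * d) := by simp [tr, X]; ring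
  rw [this, h1, h2]; ring

theorem cr_mul (a r : K) : cr a (r * a) = sh a * (σ r + σ (σ r)) := by simp [cr, sh]; ring

end Fld

open Fld

theorem span_pow (hr : σ r ≠ r) (x : K) : ∃ s t w : Fx K, x = s + t * r + w * r ^ 2 := by
  obtain ⟨y, rfl⟩ := exists_y hr x
  exact ⟨trF _, trF _, trF _, expand r y⟩

theorem finrank_K : Module.finrank (Fx K) K = 3 := by
  obtain ⟨r, hr⟩ := Tri.ne (K := K)
  have li : LinearIndependent (Fx K) ![1, r, r ^ 2] := Fintype.linearIndependent_iff.2 fun g hg i => by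
    rw [Fin.sum_univ_three] at hg
    obtain ⟨h0, h1, h2⟩ := indep_pow hr (g 0).2 (g 1).2 (g 2).2 (by
      rw [← hg, ← mul_one (g 0 : K)]; rfl)
    fin_cases i
    exacts [Subtype.ext h0, Subtype.ext h1, Subtype.ext h2]
  have sp : ⊤ ≤ Submodule.span (Fx K) (Set.range ![1, r, r ^ 2]) := fun x _ => by
    obtain ⟨s, t, w, rfl⟩ := span_pow hr x
    refine (Submodule.mem_span_range_iff_exists_fun _).2 ⟨![s, t, w], ?_⟩
    rw [Fin.sum_univ_three, ← mul_one (s : K)]; rfl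
  simpa using Module.finrank_eq_card_basis (Module.Basis.mk li sp)

theorem card_K [Finite K] : Nat.card K = Nat.card (Fx K) ^ 3 := by
  rw [← finrank_K (K := K)]
  exact Module.natCard_eq_pow_finrank

theorem tr_nondeg (h : ∀ d, tr (a * d) = 0) : a = 0 :=
  (ded (x := a) (y := σ a) (z := σ (σ a)) fun v => by simpa [tr] using h v).1

theorem tr_surj (ha : a ≠ 0) (t : Fx K) : ∃ d, tr (a * d) = t := by
  obtain ⟨d, hd⟩ := not_forall.1 fun h => ha (tr_nondeg h)
  refine ⟨(t / trF (a * d) : Fx K) * d, ?_⟩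
  rw [mul_left_comm, tr_smul]
  exact div_mul_cancel₀ (t : K) hd

theorem not_line (a : K) : ∃ x, ∀ t : Fx K, x ≠ t * a := by
  by_cases ha : a = 0
  · exact ⟨1, fun t => by simp [ha]⟩
  · obtain ⟨r, hr⟩ := Tri.ne (K := K)
    exact ⟨r * a, fun t e => hr (by rw [mul_right_cancel₀ ha e, σ_Fx])⟩

theorem perp2 (a c : K) : ∃ d, d ≠ 0 ∧ tr (a * d) = 0 ∧ tr (c * d) = 0 := by
  have k : ∀ a : K, ∃ d, d ≠ 0 ∧ tr (a * d) = 0 := fun a => by
    by_cases ha : a = 0
    · exact ⟨1, one_ne_zero, by simp [ha]⟩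
    · obtain ⟨x, hx⟩ := not_line a
      exact ⟨X a x, fun e => let ⟨t, ht⟩ := X_zero ha e; hx t ht, X_left a x⟩
  by_cases ha : a = 0
  · obtain ⟨d, h0, h1⟩ := k c
    exact ⟨d, h0, by simp [ha], h1⟩
  by_cases h : X a c = 0
  · obtain ⟨t, rfl⟩ := X_zero ha h
    obtain ⟨d, h0, h1⟩ := k a
    exact ⟨d, h0, h1, by rw [mul_assoc, tr_smul, h1, mul_zero]⟩
  · exact ⟨_, h, X_left a c, X_right a c⟩

theorem perp1 (ha : a ≠ 0) (h : ∀ d, tr (a * d) = 0 → tr (x * d) = 0) : ∃ t : Fx K, x = t * a := by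
  refine X_zero ha (tr_nondeg fun y => ?_)
  have : tr (X a x * y) = -tr (x * X a y) := by simp [tr, X]; ring
  rw [this, h _ (X_left a y), neg_zero]

theorem perp_span (ha : a ≠ 0) (hc : ∀ t : Fx K, c ≠ t * a) (hd : d ≠ 0) (h1 : tr (a * d) = 0)
    (h2 : tr (c * d) = 0) (hx : tr (x * d) = 0) : ∃ s t : Fx K, x = s * a + t * c := by
  obtain ⟨m, em⟩ := X_perp hd h1 h2
  obtain ⟨s, es⟩ := X_perp hd hx h2
  obtain ⟨t, et⟩ := X_perp hd h1 hx
  have m0 : (m : K) ≠ 0 := fun e =>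
    let ⟨t, ht⟩ := X_zero ha (c := c) (by rw [em, e, zero_mul])
    hc t ht
  have e : x * X a c - a * X x c - c * X a x = tr (x * X a c) := by simp [tr, X]; ring
  rw [es, et, em, mul_left_comm x, tr_smul, hx] at e
  refine ⟨s / m, t / m, mul_right_cancel₀ hd ?_⟩
  push_cast
  field_simp
  refine mul_right_cancel₀ hd ?_
  linear_combination e

theorem not_plane (a c : K) : ∃ x, ∀ s t : Fx K, x ≠ s * a + t * c := by
  obtain ⟨d, h0, h1, h2⟩ := perp2 a c
  obtain ⟨x, hx⟩ := tr_surj h0 1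
  refine ⟨x, fun s t e => ?_⟩
  rw [e, mul_comm, add_mul, tr_add, mul_assoc, mul_assoc, tr_smul, tr_smul, h1, h2] at hx
  simp at hx

theorem perp_not_line (d a : K) : ∃ h, tr (h * d) = 0 ∧ ∀ t : Fx K, h ≠ t * a := by
  by_contra k
  push Not at k
  obtain ⟨h, h0, h1, -⟩ := perp2 d d
  obtain ⟨m, hm⟩ := tr_surj h0 1
  obtain ⟨h', h0', h1', h2'⟩ := perp2 d m
  obtain ⟨t, rfl⟩ := k h (by rwa [mul_comm])
  obtain ⟨t', rfl⟩ := k h' (by rwa [mul_comm])
  rw [mul_left_comm, tr_smul, mul_comm m] at h2'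
  rw [mul_assoc, tr_smul, (mul_eq_zero.1 h2').resolve_left (left_ne_zero_of_mul h0')] at hm
  simp at hm

theorem tr_rep {l : K → K} (h1 : ∀ x y, l (x + y) = l x + l y) (h2 : ∀ (t : Fx K) x, l (t * x) = t * l x)
    (h3 : ∀ x, σ (l x) = l x) : ∃ m, ∀ x, l x = tr (m * x) := by
  obtain ⟨r, hr⟩ := Tri.ne (K := K)
  obtain ⟨m, hm⟩ := exists_y hr (sh r * l 1 - (σ r + σ (σ r)) * l r + l (r ^ 2))
  refine ⟨m, fun x => ?_⟩
  obtain ⟨y, rfl⟩ := exists_y hr x
  rw [mul_left_comm m, ← hm, expand, ← mul_one (tr (y * sh r)), h1, h1]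
  refine (congrArg₂ (· + ·) (congrArg₂ (· + ·) (h2 (trF _) _) (h2 (trF _) _)) (h2 (trF _) _)).trans ?_
  simp [tr, h3]; ring

theorem exists_dual [Finite K] (W : AddSubgroup K) :
    ∃ δ : W → K, ∀ i j, (∀ w ∈ W, tr (w * (δ i - δ j)) = 0) → i = j := by
  let U := Submodule.span (Fx K) (W : Set K)
  let φ := (Module.finBasis (Fx K) U).toDualEquiv
  have k : ∀ i : W, ∃ (g : K →ₗ[Fx K] Fx K) (m : K), g.comp U.subtype = φ ⟨i, Submodule.subset_span i.2⟩ ∧
      ∀ x, (g x : K) = tr (m * x) := fun i => by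
    obtain ⟨g, hg⟩ := LinearMap.exists_extend (φ ⟨i, Submodule.subset_span i.2⟩)
    obtain ⟨m, hm⟩ := tr_rep (l := fun x => (g x : K)) (fun x y => by simp)
      (fun t x => congrArg Subtype.val (g.map_smul t x)) fun x => σ_Fx _
    exact ⟨g, m, hg, hm⟩
  choose g m h1 h2 using k
  refine ⟨m, fun i j h => ?_⟩
  have e : Set.EqOn (g i) (g j) W := fun w hw => Subtype.ext (by
    have := h w hw
    rw [mul_sub, tr_sub, mul_comm w, mul_comm w, ← h2, ← h2] at this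
    exact sub_eq_zero.1 this)
  have e2 := φ.injective ((h1 i).symm.trans ((LinearMap.ext fun u : U =>
    (LinearMap.eqOn_span e u.2 : g i u = g j u)).trans (h1 j)))
  exact Subtype.ext (congrArg (fun u : U => (u : K)) e2)

theorem cr_eq_zero (ha : a ≠ 0) (h : cr a c = 0) : ∃ t : Fx K, c = t * a ∧ 2 * (t : K) = 0 := by
  obtain ⟨r, rfl⟩ := exists_r ha c
  rw [cr_mul] at h
  have e1 := (mul_eq_zero.1 h).resolve_left (by simpa using ha)
  have e2 := congrArg σ e1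
  have e3 := congrArg σ e2
  simp only [map_add, cube, map_zero] at e2 e3
  exact ⟨⟨r, show σ r = r by linear_combination e1 - e2⟩, rfl, by linear_combination e2 + e3 - e1⟩

theorem cr_inj (h2 : (2 : K) ≠ 0) (ha : a ≠ 0) (h : cr a c = 0) : c = 0 := by
  obtain ⟨t, rfl, e⟩ := cr_eq_zero ha h
  rw [(mul_eq_zero.1 e).resolve_left h2, zero_mul]

theorem cr_surj (h2 : (2 : K) ≠ 0) (ha : a ≠ 0) (x : K) : ∃ c, cr a c = x := by
  obtain ⟨y, rfl⟩ := exists_r (a := sh a) (by simpa using ha) x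
  refine ⟨(tr y / 2 - y) * a, ?_⟩
  rw [cr_mul]
  simp only [map_sub, map_div₀, σ_tr, map_ofNat]
  field_simp
  rw [tr]; ring

theorem cr_line (h2 : (2 : K) = 0) (a : K) (t : Fx K) : cr a (t * a) = 0 := by
  rw [cr_mul, σ_Fx, σ_Fx]
  linear_combination sh a * t * h2

theorem cr_surj_two (h2 : (2 : K) = 0) (ha : a ≠ 0) (h : tr (a * x) = 0) : ∃ c, cr a c = x := by
  obtain ⟨y, rfl⟩ := exists_r (a := sh a) (by simpa using ha) x
  refine ⟨y * a, ?_⟩
  rw [mul_left_comm, mul_sh, mul_comm] at h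
  have e := (mul_eq_zero.1 ((tr_smul (nrF a) y).symm.trans h)).resolve_left (by simpa using ha)
  rw [tr] at e
  rw [cr_mul]
  linear_combination sh a * e - sh a * y * h2

theorem cr_span (x : K) : ∃ a c a' c', x = cr a c + cr a' c' := by
  by_cases h2 : (2 : K) = 0
  · obtain ⟨r, hr⟩ := Tri.ne (K := K)
    have r0 : r ≠ 0 := fun e => hr (by simp [e])
    obtain ⟨h, k⟩ := not_forall.1 fun h => (perp1 r0 (x := 1) h).elim fun t e => hr (by
      have := congrArg σ e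
      rw [map_one, map_mul, σ_Fx, e] at this
      exact (mul_left_cancel₀ (left_ne_zero_of_mul_eq_one e.symm) this).symm)
    obtain ⟨k1, k2⟩ := Classical.not_imp.1 k
    rw [one_mul] at k2
    obtain ⟨c, e⟩ := cr_surj_two h2 one_ne_zero (x := x - (trF x / trF h : Fx K) * h) (by
      rw [one_mul, tr_sub, tr_smul]
      exact sub_eq_zero.2 (div_mul_cancel₀ (tr x) k2).symm)
    obtain ⟨c', e'⟩ := cr_surj_two h2 r0 (x := (trF x / trF h : Fx K) * h) (by
      rw [mul_left_comm, tr_smul, k1, mul_zero])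
    exact ⟨1, c, r, c', by rw [e, e', sub_add_cancel]⟩
  · obtain ⟨c, e⟩ := cr_surj h2 one_ne_zero x
    exact ⟨1, c, 0, 0, by rw [e, cr_zero, add_zero]⟩

theorem indep3 (ha : a ≠ 0) (hc : ∀ t : Fx K, c ≠ t * a) {x y z : K} (hx : σ x = x) (hy : σ y = y) (hz : σ z = z)
    (h : x * sh a + y * cr a c + z * sh c = 0) : x = 0 ∧ y = 0 ∧ z = 0 := by
  obtain ⟨r, rfl⟩ := exists_r ha c
  have hr : σ r ≠ r := fun e => hc ⟨r, e⟩ rfl
  have r0 : r ≠ 0 := fun e => hr (by simp [e])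
  have e : sh a * (z * nr r + (x + y * tr r) * r + -y * r ^ 2) = 0 := by
    rw [← mul_zero r, ← h]
    simp [sh, cr, nr, tr]; ring
  obtain ⟨h1, h2, h3⟩ := indep_pow hr (by simp [hz]) (by simp [hx, hy]) (by simp [hy])
    ((mul_eq_zero.1 e).resolve_left (by simpa using ha))
  have y0 := neg_eq_zero.1 h3
  exact ⟨by simpa [y0] using h2, y0, by simpa [r0] using h1⟩

theorem theta (h2 : (2 : K) ≠ 0) {θ : K → K} (h : ∀ a a', cr a' (θ a) = cr a (θ a')) :
    ∃ t : Fx K, ∀ a, θ a = t * a := by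
  obtain ⟨r, hr⟩ := Tri.ne (K := K)
  obtain ⟨n1, n2⟩ := vdm hr
  have e := h r (r * r)
  have a1 := h r 1
  have a2 := congrArg σ a1
  have a3 := congrArg σ a2
  have b1 := h (r * r) 1
  have b2 := congrArg σ b1
  have b3 := congrArg σ b2
  simp only [cr, map_add, map_mul, map_one, cube] at e a1 a2 a3 b1 b2 b3
  have k : (σ (σ (θ 1)) - σ (θ 1)) * ((σ r - r) * (σ (σ r) - r) * (σ (σ r) - σ r)) = 0 := by
    linear_combination 2 * e - (σ r * σ r * (a1 + a2 - a3) + σ (σ r) * σ (σ r) * (a3 + a1 - a2)) +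
      (σ r * (b1 + b2 - b3) + σ (σ r) * (b3 + b1 - b2))
  have hc : σ (θ 1) = θ 1 := σ_inj (sub_eq_zero.1 ((mul_eq_zero.1 k).resolve_right
    (mul_ne_zero (mul_ne_zero (sub_ne_zero.2 hr) (sub_ne_zero.2 n1)) (sub_ne_zero.2 n2))))
  refine ⟨⟨θ 1, hc⟩, fun a => sub_eq_zero.1 (cr_inj h2 one_ne_zero ?_)⟩
  have := h a 1
  simp only [cr, map_sub, map_mul, map_one, hc] at this ⊢
  linear_combination this

theorem two_ne {p : ℕ} [Fact p.Prime] [CharP K p] (hp : p ≠ 2) : (2 : K) ≠ 0 := fun e =>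
  hp ((Nat.prime_dvd_prime_iff_eq Fact.out Nat.prime_two).1 ((CharP.cast_eq_zero_iff K p 2).1 (by exact_mod_cast e)))

theorem eq_two {p : ℕ} [Fact p.Prime] [CharP K p] (h : (2 : K) = 0) : p = 2 := by_contra fun hp => two_ne hp h

end Cfsg.Agent.TDF
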