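import Cfsg.Agent.TDF.Defs
import Cfsg.Agent.TDF.Fld

/-! Project TDF: Galois theory, norms, quadratic forms.  See `notes/TDF.md`. -/

set_option autoImplicit false
set_option linter.unusedSectionVars false

namespace Cfsg.Agent.TDF

open FK RFS
open scoped commutatorElement

variable {K : Type*} [Field K] [Tri K]

theorem exists_σA : ∃ φ : RingAut K, ∀ x, φ x = σ x :=
  ⟨RingEquiv.ofBijective (Tri.σ : K →+* K) ⟨σ_inj, fun x => ⟨_, cube x⟩⟩, fun _ => rfl⟩

theorem gal_cases {φ : RingAut K} (h : Gal φ) : (∀ x, φ x = x) ∨ (∀ x, φ x = σ x) ∨ ∀ x, φ x = σ (σ x) := by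
  obtain ⟨r, hr⟩ := Tri.ne (K := K)
  have e : r ^ 3 - tr r * r ^ 2 + tr (sh r) * r - nr r = 0 := by simp [tr, nr, sh]; ring
  have e1 : φ (tr r) = tr r := h (trF r)
  have e2 : φ (tr (sh r)) = tr (sh r) := h (trF _)
  have e3 : φ (nr r) = nr r := h (nrF r)
  have e' := congrArg φ e
  simp only [map_sub, map_add, map_mul, map_pow, map_zero, e1, e2, e3] at e'
  have k : (φ r - r) * ((φ r - σ r) * (φ r - σ (σ r))) = 0 := by
    rw [← e']; simp [tr, nr, sh]; ring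
  simp only [mul_eq_zero, sub_eq_zero] at k
  refine k.imp (fun k x => ?_) (Or.imp (fun k x => ?_) fun k x => ?_) <;>
    obtain ⟨s, t, w, rfl⟩ := span_pow hr x <;> simp [k, h s, h t, h w]

theorem gal_quad {φ : RingAut K} (h : Gal φ) {β m n : K} (hβ : β ≠ 0) (hn : n ≠ 0)
    (e : ∀ d, β * φ (β * φ d) + m * (β * φ d) + n * d = 0) : ∀ x, φ x = x := by
  have _ := hβ
  rcases gal_cases h with k | k | k
  · exact k
  · refine absurd (ded (x := n) (y := m * β) (z := β * σ β) fun d => ?_).1 hn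
    rw [← e d, k, k, map_mul]; ring
  · refine absurd (ded (x := n) (y := β * σ (σ β)) (z := m * β) fun d => ?_).1 hn
    rw [← e d, k, k, map_mul, map_mul, cube]; ring

theorem poly_rep {B : K → K} (h1 : ∀ x y, B (x + y) = B x + B y) (h2 : ∀ (t : Fx K) x, B (t * x) = t * B x) :
    ∃ β₀ β₁ β₂, ∀ v, B v = β₀ * v + β₁ * σ v + β₂ * σ (σ v) := by
  obtain ⟨r, hr⟩ := Tri.ne (K := K)
  obtain ⟨k1, k2⟩ := vdm hr
  have a1 := sub_ne_zero.2 hr
  have a2 := sub_ne_zero.2 k1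
  have a3 := sub_ne_zero.2 k2
  refine ⟨(B (r ^ 2) - (σ r + σ (σ r)) * B r + σ r * σ (σ r) * B 1) / ((σ r - r) * (σ (σ r) - r)),
    -(B (r ^ 2) - (r + σ (σ r)) * B r + r * σ (σ r) * B 1) / ((σ r - r) * (σ (σ r) - σ r)),
    (B (r ^ 2) - (r + σ r) * B r + r * σ r * B 1) / ((σ (σ r) - r) * (σ (σ r) - σ r)), fun v => ?_⟩
  obtain ⟨s, t, w, rfl⟩ := span_pow hr v
  have e : B s = s * B 1 := by rw [← h2, mul_one]
  rw [h1, h1, h2, h2, e]
  simp only [map_add, map_mul, map_pow, σ_Fx]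
  field_simp
  ring

theorem Fld2.quad {a b c d e f : K} (h : ∀ v, a * v ^ 2 + b * σ v ^ 2 + c * σ (σ v) ^ 2 + d * (v * σ v)
    + e * (v * σ (σ v)) + f * (σ v * σ (σ v)) = 0) : a = 0 ∧ b = 0 ∧ c = 0 := by
  have p : ∀ v, 2 * a * v + d * σ v + e * σ (σ v) = 0 ∧ d * v + 2 * b * σ v + f * σ (σ v) = 0 ∧
      e * v + f * σ v + 2 * c * σ (σ v) = 0 := fun v => ded fun w => by
    have k := h (v + w)
    simp only [map_add] at k
    linear_combination k - h v - h w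
  obtain ⟨a2, rfl, rfl⟩ := ded fun v => (p v).1
  obtain ⟨-, b2, rfl⟩ := ded fun v => (p v).2.1
  obtain ⟨-, -, c2⟩ := ded fun v => (p v).2.2
  by_cases h2 : (2 : K) = 0
  · obtain ⟨r, hr⟩ := Tri.ne (K := K)
    obtain ⟨k1, k2⟩ := vdm hr
    have q : ∀ {x y : K}, x ≠ y → x ^ 2 - y ^ 2 ≠ 0 := fun {x y} n e => n (sub_eq_zero.1
      (pow_eq_zero_iff two_ne_zero |>.1 (by linear_combination e + (y ^ 2 - x * y) * h2)))
    have e0 := h 1
    have e1 := h r
    have e2 := h (r ^ 2)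
    simp only [map_one, map_pow] at e0 e2
    refine ⟨(mul_eq_zero.1 ?_).resolve_right (mul_ne_zero (q hr) (q k1)),
      (mul_eq_zero.1 ?_).resolve_right (mul_ne_zero (q hr) (q k2)),
      (mul_eq_zero.1 ?_).resolve_right (mul_ne_zero (q k1) (q k2))⟩
    · linear_combination e2 - (σ r ^ 2 + σ (σ r) ^ 2) * e1 + σ r ^ 2 * σ (σ r) ^ 2 * e0
    · linear_combination -e2 + (r ^ 2 + σ (σ r) ^ 2) * e1 - r ^ 2 * σ (σ r) ^ 2 * e0
    · linear_combination e2 - (r ^ 2 + σ r ^ 2) * e1 + r ^ 2 * σ r ^ 2 * e0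
  · exact ⟨(mul_eq_zero.1 a2).resolve_left h2, (mul_eq_zero.1 b2).resolve_left h2,
      (mul_eq_zero.1 c2).resolve_left h2⟩

theorem sharp_rigid {A B : K → K} (a1 : ∀ x y, A (x + y) = A x + A y) (a2 : ∀ (t : Fx K) x, A (t * x) = t * A x)
    (b1 : ∀ x y, B (x + y) = B x + B y) (b2 : ∀ (t : Fx K) x, B (t * x) = t * B x) (hB : ∃ v, B v ≠ 0)
    (h : ∀ v, A (sh v) = sh (B v)) : ∃ β, β ≠ 0 ∧ ∃ φ : RingAut K, Gal φ ∧ ∀ v, B v = β * φ v := by
  obtain ⟨α₀, α₁, α₂, hA⟩ := poly_rep a1 a2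
  obtain ⟨β₀, β₁, β₂, hb⟩ := poly_rep b1 b2
  obtain ⟨s, hs⟩ := exists_σA (K := K)
  obtain ⟨m1, m2, m3⟩ := Fld2.quad (a := σ β₂ * σ (σ β₁)) (b := σ β₀ * σ (σ β₂)) (c := σ β₁ * σ (σ β₀))
    (d := σ β₂ * σ (σ β₂) + σ β₀ * σ (σ β₁) - α₂) (e := σ β₂ * σ (σ β₀) + σ β₁ * σ (σ β₁) - α₁)
    (f := σ β₀ * σ (σ β₀) + σ β₁ * σ (σ β₂) - α₀) fun v => by
      have k := h v
      simp only [hA, hb, sh, map_add, map_mul, cube] at k
      linear_combination -k
  simp only [mul_eq_zero, map_eq_zero] at m1 m2 m3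
  obtain ⟨v, hv⟩ := hB
  by_cases h0 : β₀ = 0
  · by_cases h1 : β₁ = 0
    · exact ⟨β₂, fun e => hv (by simp [hb, h0, h1, e]), s * s, fun t => by simp [hs], fun v => by simp [hb, hs, h0, h1]⟩
    · exact ⟨β₁, h1, s, fun t => by simp [hs], fun v => by simp [hb, hs, h0, m1.resolve_right h1]⟩
  · exact ⟨β₀, h0, 1, fun t => rfl, fun v => by simp [hb, m2.resolve_left h0, m3.resolve_right h0]⟩

theorem exists_norm_one : ∃ α : Kˣ, nr (α : K) = 1 ∧ (α : K) ≠ 1 ∧ sh (α : K) ≠ 1 := by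
  obtain ⟨r, hr⟩ := Tri.ne (K := K)
  have r0 : r ≠ 0 := fun e => hr (by simp [e])
  have r1 : σ r ≠ 0 := (map_ne_zero _).2 r0
  have r2 : σ (σ r) ≠ 0 := (map_ne_zero _).2 r1
  have n : nr (r / σ r) = 1 := by simp only [nr, map_div₀, cube]; field_simp
  have k : r / σ r ≠ 1 := fun e => hr (div_eq_one_iff_eq r1 |>.1 e).symm
  exact ⟨Units.mk0 _ (div_ne_zero r0 r1), n, k, fun e => k (by
    have := mul_sh (r / σ r)
    rwa [show sh (r / σ r) = 1 from e, n, mul_one] at this)⟩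

theorem not_big (h : ¬ Big K) (t : Fx K) : t = 0 ∨ t = 1 := by
  by_contra n
  exact h ⟨t, not_or.1 n⟩

theorem two_zero (h : ¬ Big K) : (2 : K) = 0 := by
  rcases not_big h (1 + 1) with e | e
  · rw [← one_add_one_eq_two]
    exact congrArg Subtype.val e
  · simp at e

theorem big_of_two_ne (h : (2 : K) ≠ 0) : Big K := by
  by_contra n
  exact h (two_zero n)

theorem Fld2.two (h : (2 : K) ≠ 0) : (2 : Fx K) ≠ 0 := fun e => h (by
  rw [← one_add_one_eq_two] at e ⊢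
  exact congrArg Subtype.val e)

theorem Fld2.univ {F : Type*} [Field F] [Finite F] (h2 : (2 : F) ≠ 0) {A B C : F} (hA : A ≠ 0)
    (hD : 4 * A * C - B ^ 2 ≠ 0) (t : F) : ∃ x y, A * x ^ 2 + B * x * y + C * y ^ 2 = t := by
  have := Fintype.ofFinite F
  have c : ringChar F ≠ 2 := fun e => h2 (by simpa [e] using ringChar.Nat.cast_ringChar (R := F))
  obtain ⟨a, b, e⟩ := FiniteField.exists_root_sum_quadratic (R := F) (f := Polynomial.X ^ 2)
    (g := Polynomial.C (4 * A * C - B ^ 2) * Polynomial.X ^ 2 + Polynomial.C 0 * Polynomial.X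
      + Polynomial.C (-(4 * A * t))) (by simp) (Polynomial.degree_quadratic hD)
    (FiniteField.odd_card_of_char_ne_two c)
  simp only [Polynomial.eval_add, Polynomial.eval_mul, Polynomial.eval_C, Polynomial.eval_pow,
    Polynomial.eval_X] at e
  refine ⟨(a - B * b) / (2 * A), b, ?_⟩
  field_simp
  linear_combination e

variable [Finite K]

theorem card_eight (h : ¬ Big K) : Nat.card K = 8 := by
  have : Nat.card (Fx K) = 2 := Nat.card_eq_two_iff.2 ⟨0, 1, zero_ne_one, Set.eq_univ_of_forall (not_big h)⟩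
  rw [card_K, this]; rfl

theorem nr_surj (t : Fx K) : ∃ x : K, nr x = t := by
  classical
  obtain ⟨x, rfl⟩ := FiniteField.norm_surjective (Fx K) K t
  obtain ⟨s, hs⟩ := exists_σA (K := K)
  obtain ⟨r, hr⟩ := Tri.ne (K := K)
  obtain ⟨k1, k2⟩ := vdm hr
  let g : K ≃ₐ[Fx K] K := AlgEquiv.ofRingEquiv (f := s) fun t => (hs _).trans (σ_Fx t)
  have hg : ∀ y, g y = σ y := hs
  have u : (Finset.univ : Finset (K ≃ₐ[Fx K] K)) = {1, g, g * g} := Finset.ext fun φ => by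
    have := gal_cases (φ := φ.toRingEquiv) φ.commutes
    simp only [Finset.mem_univ, Finset.mem_insert, Finset.mem_singleton, true_iff, AlgEquiv.ext_iff,
      AlgEquiv.mul_apply, hg]
    exact this
  have n : ∀ {a b : K ≃ₐ[Fx K] K}, a r ≠ b r → a ≠ b := fun k e => k (e ▸ rfl)
  refine ⟨x, Eq.trans ?_ (Algebra.norm_eq_prod_automorphisms (Fx K) x).symm⟩
  rw [u, Finset.prod_insert (by simp [n (a := 1) (b := g) (hg r ▸ hr.symm), n (a := 1) (b := g * g) (by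
    simpa [hg] using k1.symm)]), Finset.prod_pair (n (by simpa [hg] using k2.symm))]
  simp [nr, hg, mul_assoc]

theorem sq_surj (h2 : (2 : K) = 0) (t : Fx K) : ∃ s : Fx K, s ^ 2 = t :=
  Finite.surjective_of_injective (f := fun s : Fx K => s ^ 2) (fun x y e => Subtype.ext (sub_eq_zero.1
    (pow_eq_zero_iff two_ne_zero |>.1 (by
      have e' : (x : K) ^ 2 = (y : K) ^ 2 := congrArg Subtype.val e
      linear_combination e' + ((y : K) ^ 2 - x * y) * h2)))) t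

theorem tr_sq_univ (h2 : (2 : K) ≠ 0) (t : Fx K) : ∃ ρ : K, tr (ρ ^ 2) = t := by
  have pol : ∀ x y : K, tr (x ^ 2) = 0 → tr (y ^ 2) = 0 → tr ((x + y) ^ 2) = 0 → tr (x * y) = 0 := fun x y a b c =>
    (mul_eq_zero.1 (by
      simp only [tr, map_add, map_mul, map_pow] at a b c ⊢
      linear_combination c - a - b)).resolve_left h2
  obtain ⟨a, ha⟩ : ∃ a : K, tr (a ^ 2) ≠ 0 := by
    by_contra! n
    exact one_ne_zero (tr_nondeg (a := (1 : K)) fun d => pol _ _ (n _) (n _) (n _))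
  obtain ⟨c, hc, hc'⟩ : ∃ c : K, tr (c * a) = 0 ∧ tr (c ^ 2) ≠ 0 := by
    by_contra! n
    obtain ⟨x, hx, k⟩ := perp_not_line a a
    obtain ⟨s, e⟩ := perp1 (a := a) (x := x) (fun e => ha (by simp [e])) fun d hd =>
      pol _ _ (n _ hx) (n _ (mul_comm a d ▸ hd)) (n _ (by rw [add_mul, tr_add, hx, mul_comm d, hd, add_zero]))
    exact k s e
  have a0 : trF (a ^ 2) ≠ 0 := fun e => ha (congrArg Subtype.val e)
  have c0 : trF (c ^ 2) ≠ 0 := fun e => hc' (congrArg Subtype.val e)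
  have h4 : (4 : Fx K) ≠ 0 := by
    rw [show (4 : Fx K) = 2 * 2 by norm_num]
    exact mul_ne_zero (Fld2.two h2) (Fld2.two h2)
  obtain ⟨x, y, rfl⟩ := Fld2.univ (Fld2.two h2) (B := 0) (C := trF (c ^ 2)) a0 (by simp [a0, c0, h4]) t
  refine ⟨x * a + y * c, ?_⟩
  simp only [tr, map_add, map_mul, map_pow, σ_Fx] at hc ⊢
  simp [tr]
  linear_combination 2 * x * y * hc

theorem cubic_root (h2 : (2 : K) ≠ 0) {w : K} (hw : w ≠ 0) : ∃ u, u ≠ 0 ∧ nr u + tr (u * w) = 0 := by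
  obtain ⟨ρ, h⟩ := tr_sq_univ h2 (-nrF w)
  replace h : tr (ρ ^ 2) = -nr w := h
  have r0 : ρ ≠ 0 := fun e => hw (by simpa [e] using h)
  have n1 : nr w ≠ 0 := by simpa using hw
  have n2 : nr ρ ≠ 0 := by simpa using r0
  refine ⟨nr w / nr ρ * (ρ ^ 2 / w), mul_ne_zero (div_ne_zero n1 n2) (div_ne_zero (pow_ne_zero _ r0) hw), ?_⟩
  have e1 : tr (nr w / nr ρ * (ρ ^ 2 / w) * w) = nr w / nr ρ * tr (ρ ^ 2) := by
    rw [mul_assoc, div_mul_cancel₀ _ hw]
    exact tr_smul (nrF w / nrF ρ) _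
  have e2 : nr (nr w / nr ρ * (ρ ^ 2 / w)) = (nr w / nr ρ) ^ 3 * (nr ρ ^ 2 / nr w) := by
    generalize ht : nr w / nr ρ = t
    have : σ t = t := by simp [← ht]
    simp only [nr, map_mul, map_div₀, map_pow, this]
    ring
  rw [e1, e2, h]
  field_simp
  ring

theorem aniso_univ (h2 : (2 : K) ≠ 0) {v : K} (hv : v ≠ 0)
    (h : ∀ u, u ≠ 0 → tr (u * sh v) = 0 → tr (sh u * v) ≠ 0) (t : Fx K) :
    ∃ u, tr (u * sh v) = 0 ∧ tr (sh u * v) = t := by
  have _ := hv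
  obtain ⟨a, ha, a0⟩ := perp_not_line (sh v) 0
  obtain ⟨c, hc, c0⟩ := perp_not_line (sh v) a
  have p : ∀ x y : Fx K, tr ((x * a + y * c) * sh v) = 0 := fun x y => by
    rw [add_mul, tr_add, mul_assoc, mul_assoc, tr_smul, tr_smul, ha, hc]; simp
  have q : ∀ x y : Fx K, tr (sh (x * a + y * c) * v) =
      (trF (sh a * v) * x ^ 2 + trF (cr a c * v) * x * y + trF (sh c * v) * y ^ 2 : Fx K) := fun x y => by
    simp [tr, sh, cr]; ring
  have A0 : trF (sh a * v) ≠ 0 := fun e => h a (by simpa using a0 0) ha (congrArg Subtype.val e)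
  obtain ⟨x, y, rfl⟩ := Fld2.univ (Fld2.two h2) (B := trF (cr a c * v)) (C := trF (sh c * v)) A0 (fun e => by
    have k := mul_ne_zero (Fld2.two h2) A0
    refine h _ (fun e' => c0 (trF (cr a c * v) / (2 * trF (sh a * v))) ?_)
      (p (-trF (cr a c * v)) (2 * trF (sh a * v))) ?_
    · rw [Subfield.coe_div, div_mul_eq_mul_div, eq_div_iff fun l => k (Subtype.ext l)]
      rw [Subfield.coe_neg] at e'
      linear_combination e'
    · rw [q, ZeroMemClass.coe_eq_zero]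
      linear_combination trF (sh a * v) * e) t
  exact ⟨_, p x y, q x y⟩

theorem tor_surj (k : Tor K) : ∃ β l, k = ha β * hb l := by
  let f : Tor K →* Tor K := MonoidHom.mk' (fun k => ha k.1 * hb k.2) fun k k' =>
    Tor.ext' (by simp; ring) (by simp [nr]; ring)
  have i : Function.Injective f := (injective_iff_map_eq_one f).2 fun k e => by
    have e1 : k.α ^ 2 * k.μ⁻¹ = 1 := by simpa [f] using congrArg Tor.α e
    have e2 : (nr k.α)⁻¹ * k.μ ^ 2 = 1 := by simpa [f] using congrArg Tor.μ e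
    rw [mul_inv_eq_one₀ k.μ_ne] at e1
    rw [inv_mul_eq_one₀ (by simpa using k.α_ne)] at e2
    have e3 : nr k.α ^ 2 = k.μ ^ 3 := by
      have := congrArg nr e1
      simp only [nr, map_pow, Tor.σ_μ] at this ⊢
      linear_combination this
    have m : k.μ = 1 := mul_left_cancel₀ (pow_ne_zero 3 k.μ_ne) (by rw [e2] at e3; linear_combination e3)
    refine Tor.ext' ?_ m
    rw [m] at e1 e2
    rcases sq_eq_one_iff.1 e1 with l | l
    · exact l
    · rw [l] at e2 ⊢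
      simpa [nr] using e2
  obtain ⟨j, rfl⟩ := Finite.surjective_of_injective i k
  exact ⟨_, _, rfl⟩

theorem ext_aut (φ₀ : Fx K →+* Fx K) : ∃ φ : RingAut K, ∀ t : Fx K, φ t = φ₀ t := by
  obtain ⟨p, hp⟩ := CharP.exists K
  have : Fact p.Prime := ⟨CharP.char_is_prime K p⟩
  let _ : Algebra (ZMod p) (Fx K) := ZMod.algebra _ p
  obtain ⟨j, hj⟩ := FiniteField.exists_forall_apply_eq_pow (ZMod p) p (Fx K)
    (AlgEquiv.ofRingEquiv (f := RingEquiv.ofBijective φ₀ (Finite.injective_iff_bijective.1 φ₀.injective)) fun x =>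
      DFunLike.congr_fun (Subsingleton.elim (φ₀.comp (algebraMap (ZMod p) (Fx K))) (algebraMap _ _)) x)
  refine ⟨iterateFrobeniusEquiv K p j, fun t => ?_⟩
  have : ((φ₀ t : Fx K) : K) = _ := congrArg Subtype.val (hj t)
  simpa [iterateFrobenius_def] using this.symm

end Cfsg.Agent.TDF
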