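import Cfsg.Agent.TDF.Bas
import Cfsg.Agent.TDF.Fld2

/-! Project TDF: automorphisms of `S` for `q > 2`.  See `notes/TDF.md`. -/

set_option autoImplicit false
set_option linter.unusedSectionVars false

namespace Cfsg.Agent.TDF

open FK RFS
open scoped commutatorElement

variable {K : Type*} [Field K] [Tri K] [Finite K]

namespace AuS

theorem ea (α : MulAut (DU K)) {g h : DU K} (e : g.a = h.a) : (α g).a = (α h).a := by
  have : (α (g * h⁻¹)).a = 0 := (chS (Au.equiv α)).2.2.2.2.1 _ (by simp [e])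
  rw [map_mul, map_inv, DU.mul_a, DU.inv_a] at this
  linear_combination this

theorem eb (α : MulAut (DU K)) {g h : DU K} (e : g.b = h.b) : (α g).b = (α h).b := by
  have : (α (g * h⁻¹)).b = 0 := (chS (Au.equiv α)).2.2.2.2.2 _ (by simp [e])
  rw [map_mul, map_inv, DU.mul_b, DU.inv_b] at this
  linear_combination this

theorem ec (α : MulAut (DU K)) {g h : DU K} (hg : g ∈ (sZ4 : Subgroup (DU K))) (hh : h ∈ (sZ4 : Subgroup (DU K)))
    (e : g.c = h.c) : (α g).c = (α h).c := by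
  obtain ⟨-, -, c3, c4, -⟩ := chS (Au.equiv α)
  have := (c3 (g * h⁻¹) (by simp [e, hg.1, hg.2, hh.1, hh.2])).2.2
  rw [map_mul, map_inv, DU.mul_c, DU.inv_c, (c4 g hg).2, (c4 h hh).2] at this
  linear_combination this

theorem ed (α : MulAut (DU K)) {g h : DU K} (hg : g ∈ (sZ4 : Subgroup (DU K))) (hh : h ∈ (sZ4 : Subgroup (DU K)))
    (e : g.c = h.c) (e' : g.d = h.d) : (α g).d = (α h).d := by
  obtain ⟨-, cY, -, c4, -⟩ := chS (Au.equiv α)
  have := (cY (g * h⁻¹) (by simp [e, e', hg.1, hg.2, hh.1, hh.2])).2.2.2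
  rw [map_mul, map_inv, DU.mul_d, DU.inv_d, DU.inv_a, (c4 g hg).2, (c4 h hh).2, (c4 h hh).1, neg_zero, zero_cr,
    zero_cr] at this
  linear_combination this

theorem md {g h : DU K} (hh : h.a = 0) : (g * h).d = g.d + h.d := by simp [hh]

theorem cr_smul (t : Fx K) (x y : K) : cr x (t * y) = t * cr x y := by simp [cr]; ring

theorem smul_cr (t : Fx K) (x y : K) : cr (t * x) y = t * cr x y := by simp [cr]; ring

theorem sh_smul (t : Fx K) (x : K) : sh (t * x) = t * (t * sh x) := by simp [sh]; ring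

theorem sh_add (x y : K) : sh (x + y) = sh x + sh y + cr x y := by simp [sh, cr]; ring

end AuS

open AuS

/-- the maps induced on the factors of the central series -/
theorem aut_pre (α : MulAut (DU K)) : ∃ (f j : K → K) (μ : Fx K) (φ₀ : Fx K →+* Fx K), μ ≠ 0 ∧
    Function.Bijective f ∧ (∀ g, (α g).a = f g.a) ∧ (∀ (g : DU K) (t : Fx K), g.b = t → (α g).b = μ * φ₀ t) ∧
    (∀ g ∈ (sZ4 : Subgroup (DU K)), (α g).c = μ * f g.c) ∧ (∀ g ∈ (sZ3 : Subgroup (DU K)), (α g).d = j g.d) ∧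
    (∀ x y, f (x + y) = f x + f y) ∧ (∀ (t : Fx K) x, f (t * x) = φ₀ t * f x) ∧
    (∀ x y, j (x + y) = j x + j y) ∧ (∀ (t : Fx K) x, j (t * x) = φ₀ t * j x) ∧
    ∀ x y, j (cr x y) = μ * cr (f x) (f y) := by
  obtain ⟨-, -, c3, c4, cQ, cT⟩ := chS (Au.equiv α)
  obtain ⟨-, -, -, -, dQ, dT⟩ := chS (Au.equiv α.symm)
  obtain ⟨f, fa⟩ : ∃ f : K → K, ∀ g, (α g).a = f g.a := ⟨fun x => (α (XA x)).a, fun g => ea α rfl⟩
  obtain ⟨G, gb⟩ : ∃ G : Fx K → Fx K, ∀ (g : DU K) (t : Fx K), g.b = t → (α g).b = G t :=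
    ⟨fun t => ⟨(α (XB t)).b, DU.hb _⟩, fun g t e => eb α e⟩
  obtain ⟨h, hc⟩ : ∃ h : K → K, ∀ g ∈ (sZ4 : Subgroup (DU K)), (α g).c = h g.c :=
    ⟨fun x => (α (XC x)).c, fun g hg => ec α hg ⟨rfl, rfl⟩ rfl⟩
  obtain ⟨j, jd⟩ : ∃ j : K → K, ∀ g ∈ (sZ3 : Subgroup (DU K)), (α g).d = j g.d :=
    ⟨fun x => (α (XD x)).d, fun g hg => ed α ⟨hg.1, hg.2.1⟩ ⟨rfl, rfl⟩ hg.2.2 rfl⟩
  have f1 : ∀ x y, f (x + y) = f x + f y := fun x y => by
    have := fa (XA x * XA y)
    rw [map_mul, DU.mul_a, fa, fa] at this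
    exact this.symm
  have f0 : ∀ x, f x = 0 → x = 0 := fun x e => by
    have := dQ (α (XA x)) ((fa _).trans e)
    rwa [α.symm_apply_apply] at this
  have g1 : ∀ s t, G (s + t) = G s + G t := fun s t => Subtype.ext (by
    have := gb (XB s * XB t) (s + t) rfl
    rw [map_mul, DU.mul_b, gb _ s rfl, gb _ t rfl] at this
    exact this.symm)
  have g0 : G 1 ≠ 0 := fun e => by
    have := dT (α (XB 1)) ((gb _ 1 rfl).trans (congrArg Subtype.val e))
    rw [α.symm_apply_apply] at this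
    exact one_ne_zero (α := K) this
  have g0' : (G 1 : K) ≠ 0 := fun e => g0 (Subtype.ext e)
  have j1 : ∀ x y, j (x + y) = j x + j y := fun x y => by
    have := jd (XD x * XD y) (by simp)
    rw [map_mul, md (c3 (XD y) ⟨rfl, rfl, rfl⟩).1, jd _ ⟨rfl, rfl, rfl⟩, jd _ ⟨rfl, rfl, rfl⟩, md rfl] at this
    exact this.symm
  have h1 : ∀ (t : Fx K) x, h (t * x) = G t * f x := fun t x => by
    have := hc _ (c_S (XB t) (XA x))
    rw [map_commutatorElement, DU.comm_c, DU.comm_c, gb _ t rfl, fa (XA x), cT (XA x) rfl] at this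
    simpa using this.symm
  have h2 : ∀ x, h x = G 1 * f x := fun x => by simpa using h1 1 x
  have f2 : ∀ (t : Fx K) x, f (t * x) = (G t / G 1 : Fx K) * f x := fun t x =>
    mul_left_cancel₀ g0' (by rw [← h2, h1, Subfield.coe_div]; field_simp)
  have f3 : f 1 ≠ 0 := fun e => one_ne_zero (f0 1 e)
  let φ₀ : Fx K →+* Fx K :=
    { toFun := fun t => G t / G 1
      map_one' := div_self g0
      map_mul' := fun s t => Subtype.ext (mul_right_cancel₀ f3 (by
        rw [← f2, Subfield.coe_mul, Subfield.coe_mul, mul_assoc, f2, f2, mul_assoc]))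
      map_zero' := by
        have := g1 0 0
        rw [add_zero, left_eq_add] at this
        rw [this, zero_div]
      map_add' := fun s t => by rw [g1, add_div] }
  have j2 : ∀ x y, j (cr x y) = G 1 * cr (f x) (f y) := fun x y => by
    have b1 := c4 (XC y) ⟨rfl, rfl⟩
    have := jd ⁅XC y, XA x⁆ (by simp)
    rw [map_commutatorElement, DU.comm_d, DU.comm_d, b1.1, b1.2, cT (XA x) rfl, hc _ ⟨rfl, rfl⟩, h2, fa,
      cr_smul] at this
    simpa using this.symm
  refine ⟨f, j, G 1, φ₀, g0, Finite.injective_iff_bijective.1 fun x y e => sub_eq_zero.1 (f0 _ ?_), fa,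
    fun g t e => ?_, fun g hg => (hc g hg).trans (h2 _), jd, f1, f2, j1, fun t x => ?_, j2⟩
  · have := f1 (x - y) y
    rw [sub_add_cancel, e] at this
    linear_combination -this
  · rw [gb g t e]
    change _ = _ * ((G t / G 1 : Fx K) : K)
    rw [Subfield.coe_div]
    field_simp
  · obtain ⟨a, c, a', c', rfl⟩ := cr_span x
    rw [mul_add, ← cr_smul, ← cr_smul, j1, j1, j2, j2, j2, j2, f2, f2, cr_smul, cr_smul]
    change _ = ((G t / G 1 : Fx K) : K) * _
    ring

theorem aut_dec (hq : Big K) (α : MulAut (DU K)) : ∃ (k : Tor K) (φ : RingAut K),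
    ∀ g, (α g).a = k.α * φ g.a ∧ (α g).b = k.μ * φ g.b := by
  obtain ⟨f, j, μ, φ₀, m0, fb, fa, gb, hc, jd, f1, f2, j1, j2, j3⟩ := aut_pre α
  obtain ⟨-, -, c3, c4, cQ, cT⟩ := chS (Au.equiv α)
  have m1 : (μ : K) ≠ 0 := fun e => m0 (Subtype.ext e)
  have key : ∀ x, j (sh x) = μ * sh (f x) := by
    by_cases h2 : (2 : K) = 0
    swap
    · intro x
      have := j3 x x
      rw [show cr x x = sh x + sh x by simp [cr, sh]; ring, j1,
        show cr (f x) (f x) = 2 * sh (f x) by simp [cr, sh]; ring] at this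
      exact mul_left_cancel₀ h2 (by linear_combination this)
    obtain ⟨R, hR⟩ : ∃ R : K → K, ∀ x, R x = j (sh x) - μ * sh (f x) := ⟨_, fun _ => rfl⟩
    have r1 : ∀ x y, R (x + y) = R x + R y := fun x y => by
      rw [hR, hR, hR, f1, sh_add, sh_add, j1, j1, j3]
      ring
    have r2 : ∀ (s : Fx K) x, R (s * x) = φ₀ s * (φ₀ s * R x) := fun s x => by
      rw [hR, hR, f2, sh_smul, sh_smul, j2, j2]
      ring
    have r3 : ∀ (t : Fx K) x, (α (XC (t * x))).d = cr (f x) (α (XB t)).c + φ₀ t * R x := fun t x => by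
      have := ed α (c_S (XB t) (XA x)) (h := XC (t * x) * XD ((-t : Fx K) * sh x)) (by simp) (by simp) (by simp)
      rw [map_commutatorElement, DU.comm_d, cQ (XB t) rfl, cT (XA x) rfl, gb _ t rfl, fa, map_mul,
        md (c3 (XD _) ⟨rfl, rfl, rfl⟩).1, jd (XD _) ⟨rfl, rfl, rfl⟩, XD_d, j2, map_neg, XA_a, zero_cr,
        zero_cr, Subfield.coe_neg] at this
      rw [hR]
      linear_combination -this
    obtain ⟨s, s0, s1⟩ := hq
    have s2 : (φ₀ s : K) * (φ₀ s - 1) ≠ 0 :=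
      mul_ne_zero (fun e => s0 (φ₀.injective ((Subtype.ext e).trans (map_zero φ₀).symm)))
        (sub_ne_zero.2 fun e => s1 (φ₀.injective ((Subtype.ext e).trans (map_one φ₀).symm)))
    have t0 : ∀ a c : K, tr (a * cr a c) = 0 := fun a c => by
      rw [show tr (a * cr a c) = 2 * tr (sh a * c) by simp [tr, cr, sh]; ring, h2, zero_mul]
    have r4 : ∀ x, tr (f x * R x) = 0 := fun x => by
      have b1 := r3 1 (s * x)
      rw [OneMemClass.coe_one, one_mul, r3, map_one, OneMemClass.coe_one, one_mul, r2, f2, smul_cr] at b1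
      have b2 := congrArg (fun v => tr (f x * v)) b1
      simp only [mul_add, tr_add, mul_left_comm (f x), tr_smul, t0] at b2
      exact (mul_eq_zero.1 (by linear_combination -b2)).resolve_left s2
    have r5 : ∀ x y, tr (f x * R y) + tr (f y * R x) = 0 := fun x y => by
      have := r4 (x + y)
      rw [f1, r1, add_mul, mul_add, mul_add, tr_add, tr_add, tr_add, r4, r4] at this
      linear_combination this
    intro y
    refine sub_eq_zero.1 ((hR y).symm.trans (tr_nondeg fun d => ?_))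
    obtain ⟨x, rfl⟩ := fb.2 d
    have b1 := r5 x (s * y)
    rw [r2, f2, mul_assoc, mul_left_comm (f x), mul_left_comm (f x), tr_smul, tr_smul, tr_smul] at b1
    rw [mul_comm]
    exact (mul_eq_zero.1 (by linear_combination b1 - φ₀ s * r5 x y)).resolve_left s2
  obtain ⟨ψ, hψ⟩ := ext_aut φ₀
  have a1 : ∀ t : Fx K, ∃ t' : Fx K, ψ.symm t = t' ∧ (φ₀ t' : K) = t := fun t =>
    ⟨⟨ψ.symm t, by rw [mem_Fx, ← map_σ, σ_Fx]⟩, rfl, by rw [← hψ]; exact ψ.apply_symm_apply _⟩
  obtain ⟨β, b0, χ, hχ, e⟩ := sharp_rigid (A := fun v => (μ : K)⁻¹ * j (ψ.symm v)) (B := fun v => f (ψ.symm v))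
    (fun x y => by rw [map_add, j1, mul_add]) (fun t x => by
      obtain ⟨t', e1, e2⟩ := a1 t
      rw [map_mul, e1, j2, e2, mul_left_comm]) (fun x y => by rw [map_add, f1]) (fun t x => by
      obtain ⟨t', e1, e2⟩ := a1 t
      rw [map_mul, e1, f2, e2]) (by
      obtain ⟨x, hx⟩ := fb.2 1
      exact ⟨ψ x, by rw [ψ.symm_apply_apply, hx]; exact one_ne_zero⟩) fun v => by
      rw [map_sh, key, inv_mul_cancel_left₀ m1]
  refine ⟨(Units.mk0 β b0, Units.mk0 μ m0), ψ.trans χ, fun g => ⟨?_, ?_⟩⟩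
  · have := e (ψ g.a)
    rw [ψ.symm_apply_apply] at this
    exact (fa g).trans this
  · rw [gb g ⟨g.b, g.hb⟩ rfl, RingEquiv.trans_apply, hψ ⟨g.b, g.hb⟩, hχ]
    rfl

end Cfsg.Agent.TDF
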