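import Cfsg.Agent.TDF.IC

/-! Project TDF: subgroups of `T`, second step.  See `notes/TDF.md`. -/

set_option autoImplicit false
set_option linter.unusedSectionVars false

namespace Cfsg.Agent.TDF

open FK RFS
open scoped commutatorElement

variable {K : Type*} [Field K] [Tri K] [Finite K] {p : ℕ} [Fact p.Prime] [CharP K p] {G : Type*} [Group G]
  [Finite G] {u : DU K →* G} {E : Subgroup (DU K)} {L : Subgroup G}

namespace ID

theorem Z3_T : (sZ3 : Subgroup (DU K)) ≤ sT := fun _ h => h.2.1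

theorem nmT (hT : E ≤ sT) (h3 : sZ3 ≤ E) {x : DU K} (hx : x ∈ (sT : Subgroup (DU K))) : Nm E x :=
  .of_comm fun _ he => h3 (c_T hx (hT he))

theorem comm_Y {g v : DU K} (hg : g ∈ (sT : Subgroup (DU K))) (hv : v ∈ (sT : Subgroup (DU K))) :
    ⁅g, v⁆ ∈ (sY : Subgroup (DU K)) ↔ cr v.a g.c = cr g.a v.c := by
  rw [mem_sT] at hg hv
  simp [hg, hv, sub_eq_zero]

theorem cr_comm (x y : K) : cr x y = cr y x := by simp [cr]; ring

/-- cancelling a scalar -/
theorem canc {i j t : Fx K} {c a : K} (hc : ∀ t : Fx K, c ≠ t * a) (e : -(i * c) + j * c = t * a) : i = j := by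
  by_contra k
  have k' : ((j : K) - i) ≠ 0 := fun e => k (Subtype.ext (sub_eq_zero.1 e).symm)
  refine hc (t / (j - i)) ?_
  push_cast
  field_simp
  linear_combination e

theorem coef {s s' : Fx K} {a m : K} (hm : tr (a * m) = ((1 : Fx K) : K))
    (e : trF (s * a * m) = trF (s' * a * m)) : (s : K) * a = s' * a := by
  have := congrArg Subtype.val e
  simp only [trF_coe, mul_assoc, tr_smul, hm] at this
  simp only [OneMemClass.coe_one, mul_one] at this
  rw [this]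

theorem fin (h : Pr p u E L) (hT : E ≤ sT) (h3 : Iv u E L sZ3) (hY : Iv u E L sY) : E = sT :=
  le_antisymm hT fun x hx => h.chain2 h3 hY (fun _ he => c_T hx (hT he)) (fun _ hb => c_Z3 x hb)
    fun c hc => comm_YT c hc hx

theorem Z3_le (h3 : sZ3 ≤ E) : sZ3 ≤ Om p E sY := fun _ hx =>
  ⟨h3 hx, by rw [pow_Z3 hx]; exact one_mem _, fun e _ => c_Z3 e hx⟩

theorem ffT (h : Pr p u E L) (hT : E ≤ sT) (h3 : sZ3 ≤ E) (hY : Iv u E L sY) (hne : E ≠ sT) {I : Type*}
    [Finite I] {β : I → DU K} {lam : DU K → I} (o : Off p E sY (Om p E sY) β lam) :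
    Be p u E L sY (Om p E sY) β lam := by
  refine (h.ff (h.sec_om hY) o).resolve_left fun k => ?_
  obtain ⟨L', hl, h', k3⟩ := k.normal sZ3 (fun _ hy => ⟨hy.1, hy.2.1, hy.2.2.1⟩) (Z3_le h3)
  exact hne (fin h' hT k3 (hY.mono hl))

end ID

open ID

theorem T_Y (h : Pr p u E L) (hT : E ≤ sT) (hQ : ¬ E ≤ sQ) :
    sZ3 ≤ E ∧ ∃ L', Pr p u E L' ∧ Iv u E L' sY := by
  have hV := T_V h hT hQ
  have iV := h.iv_om h.iv_bot
  have YV : sY ≤ Om p E ⊥ := fun y hy =>
    ⟨h.cen y fun e he => (comm_YT y hy (hT he)).symm, by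
      rw [pow_Z3 ⟨hy.1, hy.2.1, hy.2.2.1⟩]; exact one_mem _,
      fun e he => commutatorElement_eq_one_iff_mul_comm.2 (comm_YT y hy (hT he))⟩
  have h3 : sZ3 ≤ E := fun x hx => h.chain1 iV (fun e _ => YV (by
    rw [← commutatorElement_inv]; exact inv_mem (c_Z3 e hx))) fun b hb => by
      rw [comm_Z3_iff (hV hb), hx.1, hx.2.1, hx.2.2]; simp
  refine ⟨h3, ?_⟩
  by_cases hy : Om p E ⊥ ≤ sY
  · exact ⟨L, h, le_antisymm hy YV ▸ iV⟩
  obtain ⟨w, hw, hw'⟩ := SetLike.not_le_iff_exists.1 hy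
  have w3 := hV hw
  have d0 : w.d ≠ 0 := fun e => hw' ⟨w3.1, w3.2.1, w3.2.2, e⟩
  obtain ⟨c, hc⟩ := tr_surj d0 1
  have cw : ∀ e ∈ E, tr (e.a * w.d) = 0 ∧ e.b * w.e = tr (w.d * e.c) := fun e he =>
    (comm_Z3_iff w3).1 (commutatorElement_eq_one_iff_mul_comm.1 (hw.2.2 e he))
  have inj : ∀ i j : Fx K, (XC (i * c))⁻¹ * XC (j * c) ∈ E → i = j := fun i j k => by
    have := (cw _ k).2
    simp only [DU.mul_b, DU.inv_b, XC_b, DU.mul_c, DU.inv_c, XC_c, XC_a, neg_zero, zero_mul, add_zero] at this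
    rw [show w.d * (-(i * c) + j * c) = (j - i : Fx K) * (w.d * c) by push_cast; ring, tr_smul, hc] at this
    exact (sub_eq_zero.1 (Subtype.ext (by simpa using this.symm))).symm
  have o : Off p E ⊥ (Om p E ⊥) (fun t : Fx K => XC (t * c)) fun v => trF (v.d * c) := by
    refine ⟨fun i => nmT hT h3 rfl, fun i j => h3 (c_T rfl rfl), fun i => by rw [pow_XC]; exact one_mem _, inj,
      ⟨1, fun k => zero_ne_one (inj 0 1 (by convert k using 1; ext <;> simp))⟩, fun v hv v' hv' e i => ?_⟩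
    have v3 := hV hv
    have v3' := hV hv'
    refine commutatorElement_eq_one_iff_mul_comm.2 ((comm_Z3_iff (mul_mem (inv_mem v3) v3')).2 ⟨by simp, ?_⟩)
    have e' : tr (v.d * c) = tr (v'.d * c) := congrArg Subtype.val e
    have : (v⁻¹ * v').d * (XC (i * c)).c = i * (v'.d * c - v.d * c) := by
      simp [v3.1, v3.2.1, v3.2.2, v3'.1]; ring
    rw [this, tr_smul, tr_sub, e']
    simp
  rcases h.ff (h.sec_om h.iv_bot) o with k | k
  · obtain ⟨L', -, h', k'⟩ := k.normal sY bot_le YV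
    exact ⟨L', h', k'⟩
  · obtain ⟨i, e, he, k'⟩ := k.gen (XA c) (nmT hT h3 rfl)
    have e1 : c = e.a := by simpa using congrArg DU.a k'
    have := (cw e he).1
    rw [← e1, mul_comm, hc] at this
    exact absurd this (by simp)

theorem T_two (h : Pr p u E L) (h2 : (2 : K) = 0) (hT : E ≤ sT) (hQ : ¬ E ≤ sQ) (h3 : sZ3 ≤ E)
    (hY : Iv u E L sY) : E = sT := by
  by_contra hne
  have cv : ∀ v ∈ Om p E sY, ∀ e ∈ E, cr v.a e.c = cr e.a v.c := fun v hv e he =>
    (comm_Y (hT he) (hT hv.1)).1 (hv.2.2 e he)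
  have fibC : ∀ v ∈ Om p E sY, ∀ w ∈ Om p E sY, v.a = w.a → ∀ c, ⁅XC c, v⁻¹ * w⁆ ∈ (sY : Subgroup (DU K)) :=
    fun v hv w hw e c => (comm_Y rfl (hT (mul_mem (inv_mem hv.1) hw.1))).2 (by simp [e])
  by_cases h1 : ∃ v ∈ Om p E sY, v.a ≠ 0
  · obtain ⟨v₀, hv₀, a0⟩ := h1
    have cc : ∀ e ∈ E, e.a = 0 → ∃ t : Fx K, e.c = t * v₀.a := fun e he k =>
      (cr_eq_zero a0 (by rw [cv v₀ hv₀ e he, k, zero_cr])).imp fun _ => And.left
    by_cases ha : ∀ v ∈ Om p E sY, ∃ s : Fx K, v.a = s * v₀.a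
    · obtain ⟨c, hc⟩ := not_line v₀.a
      obtain ⟨m, hm⟩ := tr_surj a0 1
      have inj : ∀ i j : Fx K, (XC (i * c))⁻¹ * XC (j * c) ∈ E → i = j := fun i j k => by
        obtain ⟨t, e⟩ := cc _ k (by simp)
        exact canc (t := t) hc (by simpa using e)
      have o : Off p E sY (Om p E sY) (fun t : Fx K => XC (t * c)) fun v => trF (v.a * m) := by
        refine ⟨fun i => nmT hT h3 rfl, fun i j => h3 (c_T rfl rfl), fun i => by rw [pow_XC]; exact one_mem _, inj,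
          ⟨1, fun k => zero_ne_one (inj 0 1 (by convert k using 1; ext <;> simp))⟩, fun v hv w hw e i => ?_⟩
        obtain ⟨s, hs⟩ := ha v hv
        obtain ⟨s', hs'⟩ := ha w hw
        simp only [hs, hs'] at e
        exact fibC v hv w hw (by rw [hs, hs', coef hm e]) _
      obtain ⟨x, hx⟩ := not_plane c v₀.a
      obtain ⟨i, e, he, k⟩ := (ffT h hT h3 hY hne o).gen (XC x) (nmT hT h3 rfl)
      obtain ⟨t, e'⟩ := cc e he (by simpa using (congrArg DU.a k).symm)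
      exact hx i t (by rw [← e']; simpa using congrArg DU.c k)
    · push Not at ha
      obtain ⟨v₁, hv₁, ha⟩ := ha
      have a1 : v₁.a ≠ 0 := by simpa using ha 0
      have inj : ∀ i j : K, (XC i)⁻¹ * XC j ∈ E → i = j := fun i j k => by
        obtain ⟨t, e⟩ := cc _ k (by simp)
        obtain ⟨t', e', -⟩ := cr_eq_zero (c := ((XC i)⁻¹ * XC j).c) a1 (by rw [cv v₁ hv₁ _ k]; simp)
        have : (0 : Fx K) = t' := canc (t := t) ha (by rw [← e, e']; simp)
        subst this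
        simp at e'
        linear_combination -e'
      have o : Off p E sY (Om p E sY) (fun t : K => XC t) fun v => v.a :=
        ⟨fun i => nmT hT h3 rfl, fun i j => h3 (c_T rfl rfl), fun i => by rw [pow_XC]; exact one_mem _, inj,
          ⟨1, fun k => zero_ne_one (inj 0 1 (by convert k using 1; ext <;> simp))⟩, fibC⟩
      have k := (ffT h hT h3 hY hne o).ti (XC v₀.a) (nmT hT h3 rfl)
        (fun k => a0 (inj 0 _ (by convert k using 1; ext <;> simp)).symm) v₀ hv₀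
        ((comm_Y rfl (hT hv₀.1)).2 (by simpa using cr_line h2 v₀.a 1)) (XC v₁.a) (nmT hT h3 rfl)
      obtain ⟨t, e, -⟩ := cr_eq_zero (c := v₁.a) a0 (by simpa using (comm_Y rfl (hT hv₀.1)).1 k)
      exact ha t e
  push Not at h1
  by_cases hc : ∀ v ∈ Om p E sY, v.c = 0
  · have e : Om p E sY = sZ3 := le_antisymm (fun v hv => ⟨h1 v hv, hT hv.1, hc v hv⟩) (Z3_le h3)
    exact hne (fin h hT (e ▸ h.iv_om hY) hY)
  push Not at hc
  obtain ⟨v₀, hv₀, c0⟩ := hc
  obtain ⟨g, hg, g0⟩ := SetLike.not_le_iff_exists.1 hQ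
  have aa : ∀ e ∈ E, ∃ t : Fx K, e.a = t * v₀.c := fun e he =>
    (cr_eq_zero c0 (by rw [cr_comm, ← cv v₀ hv₀ e he, h1 v₀ hv₀, zero_cr])).imp fun _ => And.left
  have cc : ∀ v ∈ Om p E sY, ∃ t : Fx K, v.c = t * v₀.c := fun v hv => by
    obtain ⟨t, e⟩ := aa g hg
    obtain ⟨t', e', -⟩ := cr_eq_zero (c := v.c) g0 (by rw [← cv v hv g hg, h1 v hv, zero_cr])
    exact ⟨t' * t, by rw [e', e]; push_cast; ring⟩
  obtain ⟨s, hs⟩ := not_line v₀.c
  obtain ⟨m, hm⟩ := tr_surj c0 1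
  have inj : ∀ i j : Fx K, (XA (i * s))⁻¹ * XA (j * s) ∈ E → i = j := fun i j k => by
    obtain ⟨t, e⟩ := aa _ k
    exact canc (t := t) hs (by simpa using e)
  have o : Off p E sY (Om p E sY) (fun t : Fx K => XA (t * s)) fun v => trF (v.c * m) := by
    refine ⟨fun i => nmT hT h3 rfl, fun i j => h3 (c_T rfl rfl), fun i => by rw [pow_XA]; exact one_mem _, inj,
      ⟨1, fun k => zero_ne_one (inj 0 1 (by convert k using 1; ext <;> simp))⟩, fun v hv w hw e i => ?_⟩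
    obtain ⟨t, ht⟩ := cc v hv
    obtain ⟨t', ht'⟩ := cc w hw
    simp only [ht, ht'] at e
    have e2 : v.c = w.c := by rw [ht, ht', coef hm e]
    have bv : v.b = 0 := hT hv.1
    have bw : w.b = 0 := hT hw.1
    exact c_Z3 _ (by simp [h1 v hv, h1 w hw, bv, bw, e2])
  obtain ⟨x, hx⟩ := not_plane s v₀.c
  obtain ⟨i, e, he, k⟩ := (ffT h hT h3 hY hne o).gen (XA x) (nmT hT h3 rfl)
  obtain ⟨t, e'⟩ := aa e he
  exact hx i t (by rw [← e']; simpa using congrArg DU.a k)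

end Cfsg.Agent.TDF
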