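import Cfsg.Agent.TDF.Bas
import Cfsg.Agent.FK.FF

/-! Project TDF: subgroups of `T`, odd characteristic.  See `notes/TDF.md`. -/

set_option autoImplicit false
set_option linter.unusedSectionVars false

namespace Cfsg.Agent.TDF

open FK RFS
open scoped commutatorElement

variable {K : Type*} [Field K] [Tri K] [Finite K] {p : ℕ} [Fact p.Prime] [CharP K p] {G : Type*} [Group G]
  [Finite G] {u : DU K →* G} {E : Subgroup (DU K)} {L : Subgroup G}

namespace IE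

theorem Y_le : (sY : Subgroup (DU K)) ≤ sZ3 := fun _ h => ⟨h.1, h.2.1, h.2.2.1⟩

theorem fin (h : Pr p u E L) (hT : E ≤ sT) (hY : Iv u E L sY) (h3 : Iv u E L sZ3) : E = sT :=
  le_antisymm hT fun _ hx => h.chain2 h3 hY (fun _ he => c_T hx (hT he)) (fun _ hb => c_Z3 _ hb)
    fun c hc => comm_YT c hc hx

theorem al {V : Subgroup (DU K)} (h : Al p u E L sY V) (hT : E ≤ sT) (hY : Iv u E L sY) (h3 : sZ3 ≤ V) : E = sT := by
  obtain ⟨L', hl, k, i⟩ := h.normal sZ3 Y_le h3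
  exact fin k hT (hY.mono hl) i

theorem off {V : Subgroup (DU K)} (hT : E ≤ sT) (h3 : sZ3 ≤ E) (hV : V ≤ E) (hz : ∀ g ∈ E, g.a = 0 → g.c = 0) :
    Off p E sY V (XC : K → DU K) DU.a where
  nm _ := Nm.of_comm fun _ he => h3 (c_T rfl (hT he))
  ab _ _ := h3 (c_T rfl rfl)
  pow i := by rw [pow_XC]; exact one_mem _
  inj i j k := by
    have := hz _ k (by simp)
    simp only [DU.mul_c, DU.inv_c, DU.inv_b, XC_a, XC_b, XC_c] at this
    linear_combination -this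
  out := ⟨1, fun k => one_ne_zero (hz _ k rfl)⟩
  fib v hv w hw e i := by
    have m := hV (mul_mem (inv_mem hv) hw)
    have a : (v⁻¹ * w).a = 0 := by simp [e]
    exact c_Z3 _ ⟨a, hT m, hz _ m a⟩

theorem c_Ra {g h : DU K} (hg : g ∈ (sRa : Subgroup (DU K))) (hh : h ∈ (sRa : Subgroup (DU K))) :
    ⁅g, h⁆ ∈ (sXe : Subgroup (DU K)) := by
  refine ⟨DU.comm_a .., DU.comm_b .., ?_, ?_, ?_⟩
  · simp [hg.1, hh.1]
  · simp [hg.1, hh.1, hg.2, hh.2]
  · simp [commutatorElement_def, hg.1, hh.1, hg.2, hh.2]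

theorem noRa (h : Pr p u sRa L) (hp : p ≠ 2) (hY : Iv u (sRa : Subgroup (DU K)) L sY) : False := by
  have hT : (sRa : Subgroup (DU K)) ≤ sT := fun _ k => k.1
  have h3 : (sZ3 : Subgroup (DU K)) ≤ sRa := fun _ k => k.2
  have XY : (sXe : Subgroup (DU K)) ≤ sY := fun _ k => ⟨k.1, k.2.1, k.2.2.1, k.2.2.2.1⟩
  have e : ⁅(sRa : Subgroup (DU K)), (sRa : Subgroup (DU K))⁆ = sXe :=
    le_antisymm (Subgroup.commutator_le.2 fun _ hg _ hh => c_Ra hg hh) fun x hx => by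
      obtain ⟨d, hd⟩ := tr_surj (one_ne_zero (α := K)) (-⟨x.e, x.he⟩)
      have m1 : XA (1 : K) ∈ (sRa : Subgroup (DU K)) := ⟨rfl, rfl⟩
      have m2 : XD d ∈ (sRa : Subgroup (DU K)) := ⟨rfl, rfl⟩
      obtain ⟨a1, a2, a3, a4, a5⟩ := c_Ra m1 m2
      have : x = ⁅XA (1 : K), XD d⁆ := DU.ext (hx.1.trans a1.symm) (hx.2.1.trans a2.symm) (hx.2.2.1.trans a3.symm)
        (hx.2.2.2.1.trans a4.symm) (by rw [(comm_Z3 (w := XD d) ⟨rfl, rfl, rfl⟩ _).1, XA_a, XD_d, hd]; simp)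
        (hx.2.2.2.2.trans a5.symm)
      rw [this]
      exact Subgroup.commutator_mem_commutator m1 m2
  have i : Iv u (sRa : Subgroup (DU K)) L sXe := e ▸ h.iv_comm h.iv_top h.iv_top
  have s0 : Sec p u (sRa : Subgroup (DU K)) L sXe sRa :=
    ⟨i, h.iv_top, i.le, fun v hv => by rw [pow_Ra hp hv]; exact one_mem _, fun _ he _ hv => c_Ra he hv⟩
  have o : Off p (sRa : Subgroup (DU K)) sY sRa (XC : K → DU K) DU.a := off hT h3 le_rfl fun _ k _ => k.2
  rcases h.ff ⟨hY, h.iv_top, hY.le, fun v hv => XY (s0.pow v hv), fun e he v hv => XY (s0.com e he v hv)⟩ o with k | k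
  · exact one_ne_zero ((al k hT hY h3).ge (show XC (1 : K) ∈ (sT : Subgroup (DU K)) from rfl)).2
  obtain ⟨c, hc⟩ := tr_surj (one_ne_zero (α := K)) 1
  have := (k.quad hp sXe s0 XY (fun x hx v hv => by
    obtain ⟨i, e, he, rfl⟩ := k.gen x hx
    rw [commutatorElement_eq_one_iff_mul_comm.2 (comm_YT v hv (mul_mem (show XC i ∈ _ from rfl) (hT he)))]
    exact one_mem _) _ (o.nm c) _ (o.nm 1) (XA 1) ⟨rfl, rfl⟩).2.2.2.2
  rw [(comm_Z3 (c_T rfl rfl) _).2] at this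
  refine two_ne (K := K) hp ?_
  simp [cr, tr] at this hc
  linear_combination -this - 2 * hc

end IE

open IE in
theorem T_odd (h : Pr p u E L) (hp : p ≠ 2) (hT : E ≤ sT) (hQ : ¬ E ≤ sQ) (h3 : sZ3 ≤ E)
    (hY : Iv u E L sY) : E = sT := by
  have h2 := two_ne (K := K) hp
  have le : sZ3 ≤ Om p E sY := fun v hv =>
    ⟨h3 hv, by rw [pow_Z3 hv]; exact one_mem _, fun e _ => c_Z3 e hv⟩
  by_cases hV : Om p E sY ≤ sZ3
  · exact fin h hT hY (le_antisymm hV le ▸ h.iv_om hY)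
  obtain ⟨g₀, g1, g2⟩ := SetLike.not_le_iff_exists.1 hQ
  obtain ⟨v₀, v1, v2⟩ := SetLike.not_le_iff_exists.1 hV
  have key : ∀ g ∈ E, ∀ v ∈ Om p E sY, cr v.a g.c = cr g.a v.c := fun g hg v hv => by
    have := (hv.2.2 g hg).2.2.2
    simp only [DU.comm_d, mem_sT.1 (hT hg), mem_sT.1 (hT hv.1)] at this
    linear_combination this
  have va : v₀.a ≠ 0 := fun e => v2 ⟨e, hT v1.1, cr_inj h2 g2 (by rw [← key g₀ g1 v₀ v1, e, zero_cr])⟩
  have hz : ∀ g ∈ E, g.a = 0 → g.c = 0 := fun g hg e => cr_inj h2 va (by rw [key g hg v₀ v1, e, zero_cr])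
  rcases h.ff (h.sec_om hY) (off hT h3 (fun _ k => k.1) hz) with k | k
  · exact al k hT hY le
  exfalso
  choose w hw wa using k.sur
  obtain ⟨t, ht⟩ := theta h2 (θ := fun a => (w a).c) fun a a' => by
    have := key _ (hw a).1 _ (hw a')
    rwa [wa, wa] at this
  have ec : ∀ g ∈ E, g.c = t * g.a := fun g hg => by
    have := hz _ (mul_mem (inv_mem (hw g.a).1) hg) (by simp [wa])
    simp only [DU.mul_c, DU.inv_c, DU.inv_b, mem_sT.1 (hT (hw g.a).1), ht] at this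
    linear_combination this
  obtain ⟨u', E', h', m, i⟩ := h.conj (XB (-t))
  have cj : ∀ g ∈ E, XB (-t) * g * (XB (-t))⁻¹ ∈ (sRa : Subgroup (DU K)) := fun g hg => by
    simp [mem_sT.1 (hT hg), ec g hg]
  obtain rfl : E' = sRa := le_antisymm (fun x hx => by
    have := cj ((XB (-t))⁻¹ * x * XB (-t)) ((m _).1 (by simpa [mul_assoc] using hx))
    simpa [mul_assoc] using this) fun x hx => by
      have k1 := cj _ (hw x.a).1
      have k2 := (m _).2 (hw x.a).1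
      have k3 : (XB (-t) * w x.a * (XB (-t))⁻¹).a = x.a := by simp [wa]
      generalize XB (-t) * w x.a * (XB (-t))⁻¹ = y at k1 k2 k3
      have k4 : y⁻¹ * x ∈ (sZ3 : Subgroup (DU K)) := by simp [k3, k1.1, k1.2, hx.1, hx.2]
      have k5 := (m _).2 (h3 (Subgroup.Normal.conj_mem' inferInstance _ k4 (XB (-t))))
      have := mul_mem k2 k5
      simpa [mul_assoc] using this
  exact noRa h' hp (i _ inferInstance hY)

end Cfsg.Agent.TDF
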