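import Cfsg.Agent.TDF.Bas
import Cfsg.Agent.TDF.Fld2
import Cfsg.Agent.FK.FF

/-! Project TDF: the generic case: the centre is invariant.  See `notes/TDF.md`. -/

set_option autoImplicit false
set_option linter.unusedSectionVars false

namespace Cfsg.Agent.TDF

open FK RFS
open scoped commutatorElement

variable {K : Type*} [Field K] [Tri K] [Finite K] {p : ℕ} [Fact p.Prime] [CharP K p] {G : Type*} [Group G]
  [Finite G] {u : DU K →* G} {E : Subgroup (DU K)} {L : Subgroup G}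

namespace IF

theorem pair {d : K} (hd : d ≠ 0) : ∃ h h' : K, tr (h * d) = 0 ∧ tr (h' * d) = 0 ∧ ∃ (β : Fx K) (γ : K),
    tr (d * γ) = 0 ∧ (β : K) * (tr (h' * sh h) + tr (sh h' * h)) + tr (cr h' h * γ) ≠ 0 := by
  obtain ⟨h, h1, h2⟩ := perp_not_line d d⁻¹
  have h0 : h ≠ 0 := by simpa using h2 0
  have n0 : nr h ≠ 0 := by simpa using h0
  by_cases two : (2 : K) = 0
  · by_cases big : Big K
    · obtain ⟨t, t0, t1⟩ := big
      refine ⟨h, t * h, h1, by rw [mul_assoc, tr_smul, h1, mul_zero], 1, 0, by simp, ?_⟩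
      have e : tr ((t : K) * h * sh h) + tr (sh (t * h) * h) = t * (t - 1) * nr h
          + 2 * ((t ^ 2 + 2 * t) * nr h) := by simp [tr, nr, sh]; ring
      rw [e, two]
      have t0' : (t : K) ≠ 0 := fun e => t0 (Subtype.ext e)
      have t1' : (t : K) - 1 ≠ 0 := fun e => t1 (Subtype.ext (sub_eq_zero.1 e))
      simpa using mul_ne_zero (mul_ne_zero t0' t1') n0
    · obtain ⟨h', k1, k2⟩ := perp_not_line d h
      have one : ∀ x : K, x ≠ 0 → nr x = 1 := fun x hx => by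
        rcases not_big big (nrF x) with e | e
        · exact absurd (congrArg Subtype.val e) (by simpa using hx)
        · exact congrArg Subtype.val e
      refine ⟨h, h', h1, k1, 1, 0, by simp, ?_⟩
      have e : tr (h' * sh h) + tr (sh h' * h) = nr (h + h') - nr h - nr h' := by simp [tr, nr, sh]; ring
      rw [e, one h h0, one h' (by simpa using k2 0), one (h + h') fun e => k2 (-1) (by
        simpa using eq_neg_of_add_eq_zero_right e)]
      simp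
  · refine ⟨h, h, h1, h1, 0, ?_⟩
    by_contra k
    obtain ⟨t, ht⟩ := perp1 (x := cr h h) hd fun c hc => by
      by_contra k'
      exact k ⟨c, hc, by simpa using k'⟩
    have e : 2 * nr h = t * d * h := by rw [← ht]; simp [nr, cr]; ring
    have t0 : (t : K) ≠ 0 := fun e' => by
      rw [e', zero_mul, zero_mul] at e
      exact mul_ne_zero two n0 e
    refine h2 (2 * nrF h * t⁻¹) ?_
    have : ((2 * nrF h * t⁻¹ : Fx K) : K) = 2 * nr h * (t : K)⁻¹ := by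
      push_cast; rfl
    rw [this, e]
    field_simp

theorem cm {v g : DU K} (hv : v ∈ Om p E ⊥) (hg : g ∈ E) : g * v = v * g :=
  commutatorElement_eq_one_iff_mul_comm.1 (hv.2.2 g hg)

theorem V_le (hY : sY ≤ E) (hT : ¬ E ≤ sT) (hQ : ¬ E ≤ sQ) : Om p E ⊥ ≤ sZ3 := fun v hv => by
  obtain ⟨g, hg, hb⟩ := SetLike.not_le_iff_exists.1 hT
  have b0 : v.b = 0 := by
    simpa using ((comm_Z3_iff (g := v) (w := XE 1) (by simp)).1 (cm hv (hY (by simp))).symm).2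
  have a0 : v.a = 0 := by
    have := congrArg DU.c (Subgroup.mem_bot.1 (hv.2.2 g hg))
    rw [mem_sT] at hb
    simpa [b0, hb] using this
  refine ⟨a0, b0, by_contra fun hc => hQ fun g hg => L0 ⟨a0, b0⟩ hv.2.1 hc (cm hv hg)⟩

theorem V_Z (hT : ¬ E ≤ sT) {v : DU K} (hv : v ∈ Om p E ⊥) (h : v ∈ (sY : Subgroup (DU K))) :
    v ∈ (sZ : Subgroup (DU K)) := by
  obtain ⟨g, hg, hb⟩ := SetLike.not_le_iff_exists.1 hT
  obtain ⟨h1, h2, h3, h4⟩ := h
  have := ((comm_Z3_iff (g := g) (w := v) ⟨h1, h2, h3⟩).1 (cm hv hg)).2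
  rw [mem_sT] at hb
  exact ⟨h1, h2, h3, h4, by simpa [h4, hb] using this⟩

theorem Z_le_W {d : K} (hd : d ≠ 0) (hE : ∀ g : DU K, tr (g.a * d) = 0 → tr (d * g.c) = 0 → g ∈ E) :
    sZ ≤ ⁅E, ⁅E, ⁅E, E⁆⁆⁆ := fun z hz => by
  obtain ⟨h, h', h1, h2, β, γ, h3, h4⟩ := pair hd
  set m := (β : K) * (tr (h' * sh h) + tr (sh h' * h)) + tr (cr h' h * γ) with hm
  have σm : σ m = m := by simp [hm]
  let s : Fx K := ⟨-z.z / m, by rw [mem_Fx]; simp [σm]⟩
  let x := ⁅(XA h : DU K), (XB 1 : DU K)⁆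
  have x4 : x ∈ (sZ4 : Subgroup (DU K)) := c_S _ _
  let y := ⁅(XA h' : DU K), x⁆
  have y3 : y ∈ (sZ3 : Subgroup (DU K)) := c_Z4 _ x4
  have yd : y.d = cr h' h := by simp [y, x, cr]; ring
  have ye : y.e = -(tr (h' * sh h) + tr (sh h' * h)) := by
    rw [comm_Z4 x4]; simp [x, tr]; ring
  let g : DU K := XB (s * β) * XC (s * γ)
  have k := Subgroup.commutator_mem_commutator (hE g (by simp [g]) (by
      simp only [g, DU.mul_c, XB_c, XB_b, XC_a, XC_c, mul_zero, zero_add]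
      rw [mul_left_comm, tr_smul, h3, mul_zero]))
    (Subgroup.commutator_mem_commutator (hE (XA h') h2 (by simp))
      (Subgroup.commutator_mem_commutator (hE (XA h) h1 (by simp)) (hE (XB 1) (by simp) (by simp))))
  obtain ⟨k1, k2, k3, k4⟩ := c_Z3 g y3
  obtain ⟨k5, k6⟩ := comm_Z3 y3 g
  obtain ⟨z1, z2, z3, z4, z5⟩ := hz
  convert k using 1
  refine DU.ext (z1.trans k1.symm) (z2.trans k2.symm) (z3.trans k3.symm) (z4.trans k4.symm) ?_ ?_
  · change _ = ⁅g, y⁆.e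
    rw [z5, k5]; simp [g]
  · change _ = ⁅g, y⁆.z
    rw [k6, yd, ye]
    simp only [g, DU.mul_c, DU.mul_b, XB_c, XB_b, XC_a, XC_c, XC_b, mul_zero, zero_add, add_zero]
    rw [mul_left_comm (cr h' h), tr_smul]
    have : z.z = -(s * m) := by simp [s, h4]
    rw [this, hm]
    push_cast
    ring

theorem main (h : Pr p u E L) (h3 : sZ3 ≤ E) (hT : ¬ E ≤ sT) (hQ : ¬ E ≤ sQ) {v₀ : DU K}
    (hv : v₀ ∈ Om p E ⊥) (hd : v₀.d ≠ 0) (he : v₀.e = 0) : ∃ L', Pr p u E L' ∧ Iv u E L' sZ := by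
  have hY : sY ≤ E := fun y hy => h3 ⟨hy.1, hy.2.1, hy.2.2.1⟩
  have V3 := V_le (p := p) hY hT hQ
  obtain ⟨c, hc⟩ := tr_surj hd 1
  have cz : ∀ g : DU K, g * v₀ = v₀ * g ↔ tr (g.a * v₀.d) = 0 ∧ tr (v₀.d * g.c) = 0 := fun g => by
    rw [comm_Z3_iff (V3 hv), he, mul_zero, eq_comm (a := (0 : K))]
  have tc : ∀ t : Fx K, tr (v₀.d * (t * c)) = t := fun t => by
    rw [mul_left_comm, tr_smul, hc]; simp
  have x4 : ∀ t : K, (XC t : DU K) ∈ (sZ4 : Subgroup (DU K)) := fun t => by simp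
  have o : Off p E ⊥ (Om p E ⊥) (fun t : Fx K => (XC (t * c) : DU K)) fun v => trF (v.d * c) := by
    refine ⟨fun i => .of_comm fun e _ => h3 ?_, fun i j => h3 (c_Z4 _ (x4 _)), fun i => by rw [pow_XC]; exact one_mem E,
      fun i j k => ?_, ⟨1, fun k => ?_⟩, fun v hv w hw e i => ?_⟩
    · rw [← commutatorElement_inv]; exact inv_mem (c_Z4 _ (x4 _))
    · have := ((cz _).1 (cm hv k)).2
      have e : ((XC (i * c) : DU K)⁻¹ * XC (j * c)).c = ((j - i : Fx K) : K) * c := by simp; ring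
      rw [e, tc] at this
      exact (sub_eq_zero.1 (Subtype.ext this : j - i = 0)).symm
    · have := ((cz _).1 (cm hv k)).2
      rw [XC_c, tc] at this
      simp at this
    · refine commutatorElement_eq_one_iff_mul_comm.2 ((comm_Z3_iff (V3 (mul_mem (inv_mem hv) hw))).2 ⟨by simp, ?_⟩)
      obtain ⟨a1, a2, a3⟩ := V3 hv
      obtain ⟨b1, b2, b3⟩ := V3 hw
      have e1 : tr (v.d * c) = tr (w.d * c) := congrArg Subtype.val e
      have e2 : (v⁻¹ * w).d * (i * c) = i * (w.d * c - v.d * c) := by simp [a1, a2, a3, b1]; ring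
      rw [XC_c, e2, tr_smul, tr_sub, e1]
      simp
  rcases h.ff (h.sec_om h.iv_bot) o with k | k
  · obtain ⟨L', -, k1, k2⟩ := k.normal sZ bot_le (Z_le_Om h)
    exact ⟨L', k1, k2⟩
  have hE : Subgroup.centralizer {v₀} ≤ E := by
    by_contra hn
    obtain ⟨x, x1, x2, x3⟩ := exists_nm h.pg (E := E) (X := Subgroup.centralizer {v₀})
      (fun g hg => Subgroup.mem_centralizer_singleton_iff.2 (cm hv hg)) hn
    obtain ⟨i, e, he, rfl⟩ := k.gen x x3
    have k1 : (XC (i * c) : DU K) ∈ Subgroup.centralizer {v₀} := by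
      simpa using mul_mem x1 (inv_mem (Subgroup.mem_centralizer_singleton_iff.2 (cm hv he)))
    have := ((cz _).1 (Subgroup.mem_centralizer_singleton_iff.1 k1)).2
    rw [XC_c, tc] at this
    refine x2 (mul_mem (h3 ?_) he)
    simp [this]
  have e : (sZ : Subgroup (DU K)) = Om p E ⊥ ⊓ ⁅E, ⁅E, ⁅E, E⁆⁆⁆ := by
    refine le_antisymm (le_inf (Z_le_Om h) (Z_le_W hd fun g g1 g2 =>
      hE (Subgroup.mem_centralizer_singleton_iff.2 ((cz g).2 ⟨g1, g2⟩)))) fun v hv => V_Z hT hv.1 ?_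
    have l1 : ⁅E, E⁆ ≤ sZ4 := Subgroup.commutator_le.2 fun a _ b _ => c_S a b
    have l2 : ⁅E, ⁅E, E⁆⁆ ≤ sZ3 := Subgroup.commutator_le.2 fun a _ b hb => c_Z4 a (l1 hb)
    exact (Subgroup.commutator_le.2 fun a _ b hb => c_Z3 a (l2 hb) : ⁅E, ⁅E, ⁅E, E⁆⁆⁆ ≤ sY) hv.2
  exact ⟨L, h, e ▸ h.iv_inf (h.iv_om h.iv_bot) (h.iv_comm h.iv_top (h.iv_comm h.iv_top (h.iv_comm h.iv_top h.iv_top)))⟩

end IF

open IF in
theorem gen_Z (h : Pr p u E L) (hY : sY ≤ E) (hT : ¬ E ≤ sT) (hQ : ¬ E ≤ sQ) :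
    ∃ (u' : DU K →* G) (E' : Subgroup (DU K)) (L' : Subgroup G), Pr p u' E' L' ∧ sY ≤ E' ∧ ¬ E' ≤ sT ∧ ¬ E' ≤ sQ ∧
      Iv u' E' L' sZ := by
  have V3 := V_le (p := p) hY hT hQ
  by_cases h3 : sZ3 ≤ E
  swap
  · obtain ⟨x, x1, x2⟩ := SetLike.not_le_iff_exists.1 h3
    obtain ⟨L', -, k1, k2⟩ := (h.red h.iv_bot (h.iv_om h.iv_bot) (x := x) (.of_comm fun e _ => hY (by
      rw [← commutatorElement_inv]; exact inv_mem (c_Z3 _ x1))) x2 fun v hv =>
        commutatorElement_eq_one_iff_mul_comm.2 ((comm_Z3_iff (V3 hv)).2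
          (by simp [x1.1, x1.2.1, x1.2.2]))).normal sZ bot_le (Z_le_Om h)
    exact ⟨u, E, L', k1, hY, hT, hQ, k2⟩
  by_cases hV : Om p E ⊥ ≤ sY
  · have e : (sZ : Subgroup (DU K)) = Om p E ⊥ := le_antisymm (Z_le_Om h) fun v hv => V_Z hT hv (hV hv)
    exact ⟨u, E, L, h, hY, hT, hQ, e ▸ h.iv_om h.iv_bot⟩
  obtain ⟨v, hv, hv'⟩ := SetLike.not_le_iff_exists.1 hV
  obtain ⟨a1, a2, a3⟩ := V3 hv
  have hd : v.d ≠ 0 := fun e => hv' ⟨a1, a2, a3, e⟩
  obtain ⟨s, hs⟩ := tr_surj hd ⟨v.e, v.he⟩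
  obtain ⟨u', E', k, k1, -⟩ := h.conj (XA s)
  have nl : ∀ N : Subgroup (DU K), N.Normal → N ≤ E → N ≤ E' := fun N hN l a ha => by
    simpa [mul_assoc] using (k1 ((XA s)⁻¹ * a * (XA s)⁻¹⁻¹)).2 (l (hN.conj_mem a ha _))
  have nl' : ∀ N : Subgroup (DU K), N.Normal → ¬ E ≤ N → ¬ E' ≤ N := fun N hN l l' => l fun a ha => by
    simpa [mul_assoc] using hN.conj_mem _ (l' ((k1 a).2 ha)) (XA s)⁻¹
  obtain ⟨L', k2, k3⟩ := main k (nl _ inferInstance h3) (nl' _ inferInstance hT) (nl' _ inferInstance hQ)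
    (v₀ := XA s * v * (XA s)⁻¹) ⟨(k1 v).2 hv.1, by
      rw [conj_pow, Subgroup.mem_bot.1 hv.2.1]; simp, fun e he => by
        have := cm hv ((k1 ((XA s)⁻¹ * e * XA s)).1 (by simpa [mul_assoc] using he))
        refine commutatorElement_eq_one_iff_mul_comm.2 ?_
        calc e * (XA s * v * (XA s)⁻¹) = XA s * ((XA s)⁻¹ * e * XA s * v) * (XA s)⁻¹ := by group
          _ = _ := by rw [this]; group⟩
    (by simpa [a1, a2, a3] using hd) (by
      change tr (v.d * s) = v.e at hs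
      simp [a1, a2, a3, ← hs, tr]; ring)
  exact ⟨u', E', L', k2, nl _ inferInstance hY, nl' _ inferInstance hT, nl' _ inferInstance hQ, k3⟩

end Cfsg.Agent.TDF
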