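import Cfsg.Agent.TDF.IG

/-! Project TDF: overgroups of `Q`.  See `notes/TDF.md`. -/

set_option autoImplicit false
set_option linter.unusedSectionVars false

namespace Cfsg.Agent.TDF

open FK RFS
open scoped commutatorElement

variable {K : Type*} [Field K] [Tri K] [Finite K] {p : ℕ} [Fact p.Prime] [CharP K p] {G : Type*} [Group G]
  [Finite G] {u : DU K →* G} {E : Subgroup (DU K)} {L : Subgroup G}

namespace IH

theorem memE (hE : sQ ≤ E) {g x : DU K} (hg : g ∈ E) (e : x.a = g.a) : x ∈ E := by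
  have : g⁻¹ * x ∈ E := hE (by simp [e])
  simpa using mul_mem hg this

theorem nmE (hE : sQ ≤ E) (x : DU K) : Nm E x := fun e he => memE hE he (by simp)

theorem inQ (hE : sQ ≤ E) {x : DU K} (e : x.a = 0) : x ∈ E := hE e

theorem exA (hE : sQ ≤ E) (hQ : ¬ E ≤ sQ) : ∃ a : K, a ≠ 0 ∧ XA a ∈ E := by
  obtain ⟨g, hg, hg'⟩ := SetLike.not_le_iff_exists.1 hQ
  exact ⟨g.a, hg', memE hE hg rfl⟩

theorem tr_cr (x y c : K) : tr (x * cr y c) = tr (c * cr x y) := by simp [tr, cr]; ring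

theorem tr_Fx {t : K} (h : σ t = t) : tr t = 3 * t := by simp [tr, h]; ring

theorem tr_mul {t : K} (h : σ t = t) (x : K) : tr (t * x) = t * tr x := tr_smul ⟨t, h⟩ x

theorem Om_le (hp : p ≠ 2) (hE : sQ ≤ E) (hQ : ¬ E ≤ sQ) {v : DU K} (hv : v ∈ Om p E sZ) :
    v ∈ (sZ3 : Subgroup (DU K)) ∧ ∀ g ∈ E, tr (g.a * v.d) = 0 := by
  obtain ⟨a, ha, ha'⟩ := exA hE hQ
  have h1 : v.a = 0 := by simpa using (hv.2.2 (XB 1) (inQ hE rfl)).2.2.1
  have h2 : v.b = 0 := by simpa [ha] using (hv.2.2 _ ha').2.2.1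
  have h3 : v.c = 0 := cr_inj (two_ne hp) ha (by simpa [h1, h2] using (hv.2.2 _ ha').2.2.2.1)
  refine ⟨⟨h1, h2, h3⟩, fun g hg => ?_⟩
  have := (hv.2.2 g hg).2.2.2.2
  rwa [(comm_Z3 ⟨h1, h2, h3⟩ g).1, neg_eq_zero] at this

theorem Y_le_Om (hE : sQ ≤ E) : sY ≤ Om p E sZ := fun y hy =>
  ⟨inQ hE hy.1, by rw [pow_Z3 ⟨hy.1, hy.2.1, hy.2.2.1⟩]; exact one_mem _, fun e _ => c_Y e hy⟩

theorem ex_pair {d : K} (hd : d ≠ 0) : ∃ h h', tr (h * d) = 0 ∧ tr (h' * d) = 0 ∧ tr (h' * sh h) ≠ 0 := by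
  obtain ⟨h, h1, h2⟩ := perp_not_line d d⁻¹
  by_contra! k
  obtain ⟨t, ht⟩ := perp1 (x := sh h) hd fun x hx => by
    rw [mul_comm]; exact k h x h1 (by rwa [mul_comm])
  have h0 : h ≠ 0 := fun e => h2 0 (by simp [e])
  have n0 : nr h ≠ 0 := by simpa using h0
  have e1 : nr h * h = t ^ 2 * sh d := by rw [← sh_sh, ht]; simp [sh]; ring
  refine h2 ⟨t ^ 2 * nr d / nr h, by simp [mem_Fx]⟩ ?_
  have e2 := mul_sh d
  change h = t ^ 2 * nr d / nr h * d⁻¹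
  field_simp
  linear_combination d * e1 + (t : K) ^ 2 * e2

theorem iv_Y (h : Pr p u E L) (hp : p ≠ 2) (hE : sQ ≤ E) (hZ : Iv u E L sZ) {d : K} (hd : d ≠ 0)
    (k : ∀ x, tr (x * d) = 0 → XA x ∈ E) : Iv u E L sY := by
  have i := h.iv_sup (h.iv_comm h.iv_top (h.iv_comm h.iv_top (h.iv_comm h.iv_top h.iv_top))) hZ
  obtain ⟨x, x', h1, h2, h3⟩ := ex_pair hd
  have t2 : (2 : K) ≠ 0 := two_ne hp
  convert i using 1
  refine le_antisymm (fun y hy => ?_) (sup_le (Subgroup.commutator_le.2 fun a _ b hb => c_Z3 a ?_)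
    fun z hz => ⟨hz.1, hz.2.1, hz.2.2.1, hz.2.2.2.1⟩)
  · set t : K := -y.e / (2 * tr (x' * sh x)) with ht
    have σt : σ t = t := by simp [ht, map_ofNat]
    have m : ⁅XA (t * x'), ⁅XA x, ⁅XA x, XB 1⁆⁆⁆ ∈ ⁅E, ⁅E, ⁅E, E⁆⁆⁆ :=
      Subgroup.commutator_mem_commutator (k _ (by rw [mul_assoc, tr_mul σt, h2, mul_zero]))
        (Subgroup.commutator_mem_commutator (k _ h1) (Subgroup.commutator_mem_commutator (k _ h1) (inQ hE rfl)))
    have m3 : ⁅XA x, ⁅XA x, XB 1⁆⁆ ∈ (sZ3 : Subgroup (DU K)) := c_Z4 _ (c_S _ _)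
    have md : ⁅XA x, ⁅XA x, (XB 1 : DU K)⁆⁆.d = 2 * sh x := by simp [cr, sh]; ring
    have me : ⁅XA (t * x'), ⁅XA x, ⁅XA x, (XB 1 : DU K)⁆⁆⁆.e = y.e := by
      rw [(comm_Z3 m3 _).1, md, XA_a, show t * x' * (2 * sh x) = (t * 2) * (x' * sh x) by ring,
        tr_mul (by simp [σt, map_ofNat]), ht]
      field_simp
    obtain ⟨w1, w2, w3, w4⟩ := c_Z3 (XA (t * x')) m3
    generalize ⁅XA (t * x'), ⁅XA x, ⁅XA x, (XB 1 : DU K)⁆⁆⁆ = w at m me w1 w2 w3 w4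
    obtain ⟨y1, y2, y3, y4⟩ := hy
    have : w⁻¹ * y ∈ (sZ : Subgroup (DU K)) := by simp [w1, w2, w3, w4, y1, y2, y3, y4, me]
    simpa using mul_mem (Subgroup.mem_sup_left m) (Subgroup.mem_sup_right this)
  · exact Subgroup.commutator_le.2 (fun a _ b hb => c_Z4 a
      (Subgroup.commutator_le.2 (fun a _ b _ => c_S a b) hb)) hb

theorem iv_QA (h : Pr p u E L) (h2 : (2 : K) = 0) (hE : sQ ≤ E) (hZ : Iv u E L sZ)
    (k : ∀ a : K, ∃ a', a' ≠ 0 ∧ a' ≠ a ∧ XA a' ∈ E) : Iv u E L sQ := by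
  refine h.iv_cz h.iv_top (h.iv_comm h.iv_top h.iv_top) hZ fun g => ⟨fun hg => ⟨hE hg, fun b hb => c_Q hg
    (Subgroup.commutator_le.2 (fun a _ b _ => c_S a b) hb : b ∈ sZ4).1⟩, fun ⟨hg, hc⟩ => ?_⟩
  by_contra h0
  replace h0 : g.a ≠ 0 := h0
  obtain ⟨a, a0, a1, ha⟩ := k g.a
  have e1 : cr g.a a = 0 := tr_nondeg fun c => by
    have m : ⁅XA a, XC c⁆ ∈ (sZ3 : Subgroup (DU K)) := c_Z4 _ ⟨rfl, rfl⟩
    have := (hc _ (Subgroup.commutator_mem_commutator ha (inQ hE (x := XC c) rfl))).2.2.2.2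
    rw [(comm_Z3 m g).1, show ⁅XA a, XC c⁆.d = -cr a c by simp, mul_neg, tr_neg, neg_neg, tr_cr] at this
    rwa [mul_comm]
  obtain ⟨t, rfl, -⟩ := cr_eq_zero h0 e1
  have := (hc _ (Subgroup.commutator_mem_commutator (inQ hE (x := XB 1) rfl) ha)).2.2.2.2
  rw [comm_Z4 (c_S _ _) g] at this
  have e2 : (t : K) * (t - 1) * nr g.a = 0 := by
    simp [tr, sh, cr] at this
    simp only [nr]
    linear_combination this - ((t : K) ^ 2 + 2 * t) * (g.a * σ g.a * σ (σ g.a)) * h2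
  have t0 : (t : K) ≠ 0 := fun e => a0 (by simp [e])
  have t1 : (t : K) - 1 ≠ 0 := fun e => a1 (by rw [sub_eq_zero.1 e, one_mul])
  simp [t0, t1, h0] at e2

theorem iv_QB (h : Pr p u E L) (h2 : (2 : K) = 0) (hE : sQ ≤ E) (hZ : Iv u E L sZ) {a : K}
    (k : ∀ g ∈ E, g.a = 0 ∨ g.a = a) : Iv u E L sQ := by
  have key : ∀ g ∈ E, g ∈ (sQ : Subgroup (DU K)) ↔ ∀ x ∈ E, ∀ y ∈ E, ⁅g, x⁆ ∈ (sZ : Subgroup (DU K)) ∨
      ⁅g, y⁆ ∈ (sZ : Subgroup (DU K)) ∨ ⁅g, x * y⁆ ∈ (sZ : Subgroup (DU K)) := fun g hg => by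
    refine ⟨fun hq x hx y hy => ?_, fun hc => ?_⟩
    · rcases k x hx with e | e
      · exact .inl (c_Q hq e)
      rcases k y hy with e' | e'
      · exact .inr (.inl (c_Q hq e'))
      refine .inr (.inr (c_Q hq ?_))
      rw [mem_sQ, DU.mul_a, e, e', ← two_mul, h2, zero_mul]
    · by_contra h0
      replace h0 : g.a ≠ 0 := h0
      obtain ⟨d, hd⟩ := tr_surj h0 1
      rcases hc (XB 1) (inQ hE rfl) (XD d) (inQ hE rfl) with e | e | e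
      · simpa [h0] using e.2.2.1
      · have := e.2.2.2.2
        rw [(comm_Z3 (w := XD d) ⟨rfl, rfl, rfl⟩ g).1, XD_d, hd] at this
        simp at this
      · simpa [h0] using e.2.2.1
  refine h.iv_of hE fun f hf k' b hb => (key _ (hf.mem b (hE hb))).2 fun x hx y hy => ?_
  obtain ⟨x, hx', rfl⟩ := hf.sur x hx
  obtain ⟨y, hy', rfl⟩ := hf.sur y hy
  rw [← hf.mul x hx' y hy', ← hf.map_comm (hE hb) hx', ← hf.map_comm (hE hb) hy',
    ← hf.map_comm (hE hb) (mul_mem hx' hy')]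
  exact ((key b (hE hb)).1 hb x hx' y hy').imp (k' _ hZ _) (.imp (k' _ hZ _) (k' _ hZ _))

theorem iv_Z4 (h : Pr p u E L) (h2 : (2 : K) = 0) (hE : sQ ≤ E) (hQ : ¬ E ≤ sQ) (i : Iv u E L sQ) :
    Iv u E L sZ4 := by
  obtain rfl : p = 2 := eq_two h2
  obtain ⟨a, ha, ha'⟩ := exA hE hQ
  refine h.iv_of (fun g hg => hE hg.1) fun f hf k b hb => ?_
  have q : (f b).a = 0 := k _ i b hb.1
  refine ⟨q, ?_⟩
  obtain ⟨x, hx, e⟩ := hf.sur _ ha'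
  have hb' : b ∈ E := hE hb.1
  have m : ⁅x, b⁆ ∈ E := Nm.comm (.of_mem hx) hb'
  have e1 : ⁅x, b⁆ * ⁅x, b⁆ = 1 := by rw [← sq]; exact pow_Z3 (p := 2) (c_Z4 x hb)
  have e2 := congrArg f e1
  rw [hf.mul _ m _ m, hf.one, hf.map_comm hx hb', e] at e2
  generalize f b = g at q e2
  have e3 := congrArg DU.z e2
  have e4 : g.b ^ 2 * nr a = 0 := by
    rw [DU.mul_z, DU.one_z, ← two_mul, h2] at e3
    simp [q, tr, sh, cr, nr] at e3
    simp only [nr]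
    linear_combination e3 + (2 * g.b ^ 2 * (a * σ a * σ (σ a)) - g.b * (g.c * σ a * σ (σ a) + a * σ g.c * σ (σ a)
      + a * σ a * σ (σ g.c))) * h2
  simpa [ha] using e4

end IH

theorem over_odd (h : Pr p u E L) (hp : p ≠ 2) (hE : sQ ≤ E) (hQ : ¬ E ≤ sQ) (hZ : Iv u E L sZ) :
    ∃ L' ≤ L, Pr p u E L' ∧ Iv u E L' sY := by
  by_cases hV : Om p E sZ ≤ sY
  · exact ⟨L, le_rfl, h, le_antisymm hV (IH.Y_le_Om hE) ▸ h.iv_om hZ⟩
  obtain ⟨v, hv, hv'⟩ := SetLike.not_le_iff_exists.1 hV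
  obtain ⟨v3, vp⟩ := IH.Om_le hp hE hQ hv
  have d0 : v.d ≠ 0 := fun e => hv' ⟨v3.1, v3.2.1, v3.2.2, e⟩
  obtain ⟨s, hs⟩ := tr_surj d0 1
  rw [mul_comm] at hs
  have o : Off p E sZ (Om p E sZ) (fun t : Fx K => XA (t * s)) fun w => trF (s * w.d) := by
    refine ⟨fun i => IH.nmE hE _, fun i j => IH.inQ hE (by simp), fun i => by rw [pow_XA]; exact one_mem _,
      fun i j e => ?_, ⟨1, fun e => ?_⟩, fun a ha b hb e i => ?_⟩
    · have := vp _ e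
      rw [show ((XA ((i : K) * s))⁻¹ * XA ((j : K) * s)).a * v.d = ((j - i : Fx K) : K) * (s * v.d) by
        simp; ring, tr_smul, hs] at this
      exact (sub_eq_zero.1 (Subtype.ext (by simpa using this) : j - i = 0)).symm
    · have := vp _ e
      rw [XA_a, mul_assoc, tr_smul, hs] at this
      simp at this
    · obtain ⟨a1, a2, a3⟩ := (IH.Om_le hp hE hQ ha).1
      obtain ⟨b1, b2, b3⟩ := (IH.Om_le hp hE hQ hb).1
      have m : a⁻¹ * b ∈ (sZ3 : Subgroup (DU K)) := mul_mem (inv_mem ⟨a1, a2, a3⟩) ⟨b1, b2, b3⟩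
      obtain ⟨c1, c2, c3, c4⟩ := c_Z3 (XA ((i : K) * s)) m
      refine ⟨c1, c2, c3, c4, ?_⟩
      have e' : tr (s * a.d) = tr (s * b.d) := congrArg Subtype.val e
      rw [(comm_Z3 m _).1, show (XA ((i : K) * s)).a * (a⁻¹ * b).d = i * (s * b.d - s * a.d) by
        simp [a1, a2, a3, b1]; ring, tr_smul, tr_sub, e']
      simp
  rcases h.ff (h.sec_om hZ) o with k | k
  · exact k.normal sY (fun z hz => ⟨hz.1, hz.2.1, hz.2.2.1, hz.2.2.2.1⟩) (IH.Y_le_Om hE)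
  refine ⟨L, le_rfl, h, IH.iv_Y h hp hE hZ d0 fun x hx => ?_⟩
  obtain ⟨i, e, he, k'⟩ := k.gen (XA x) (IH.nmE hE _)
  have e1 : x = i * s + e.a := congrArg DU.a k'
  rw [e1, add_mul, tr_add, vp e he, mul_assoc, tr_smul, hs] at hx
  refine IH.memE hE he ?_
  have i0 : (i : K) = 0 := by simpa using hx
  simp [e1, i0]

theorem over_two (h : Pr p u E L) (h2 : (2 : K) = 0) (hE : sQ ≤ E) (hQ : ¬ E ≤ sQ) (hZ : Iv u E L sZ) :
    Iv u E L sY := by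
  have i : Iv u E L sQ := by
    by_cases k : ∀ a : K, ∃ a', a' ≠ 0 ∧ a' ≠ a ∧ XA a' ∈ E
    · exact IH.iv_QA h h2 hE hZ k
    push Not at k
    obtain ⟨a, ha⟩ := k
    refine IH.iv_QB h h2 hE hZ (a := a) fun g hg => ?_
    by_contra! k
    exact ha g.a k.1 k.2 (IH.memE hE hg rfl)
  have i4 := IH.iv_Z4 h h2 hE hQ i
  refine h.iv_cz i4 i4 h.iv_bot fun g => ⟨fun hg => ⟨⟨hg.1, hg.2.1⟩, fun b hb => ?_⟩, fun ⟨hg, hc⟩ => ?_⟩
  · exact commutatorElement_eq_one_iff_mul_comm.2 (comm_YT g hg hb.2).symm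
  refine ⟨hg.1, hg.2, tr_nondeg fun d => ?_, tr_nondeg fun c => ?_⟩
  · have := congrArg DU.z (Subgroup.mem_bot.1 (hc (XD d) ⟨rfl, rfl⟩))
    rw [(comm_Q hg.1 (h := XD d) rfl).2] at this
    simpa using this
  · have := congrArg DU.z (Subgroup.mem_bot.1 (hc (XC c) ⟨rfl, rfl⟩))
    rw [(comm_Q hg.1 (h := XC c) rfl).2] at this
    simpa using this

end Cfsg.Agent.TDF
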