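import Cfsg.Agent.TDF.Bas
import Cfsg.Agent.FK.FF

/-! Project TDF: the generic case: conclusion.  See `notes/TDF.md`. -/

set_option autoImplicit false
set_option linter.unusedSectionVars false

namespace Cfsg.Agent.TDF

open FK RFS
open scoped commutatorElement

variable {K : Type*} [Field K] [Tri K] [Finite K] {p : ℕ} [Fact p.Prime] [CharP K p] {G : Type*} [Group G]
  [Finite G] {u : DU K →* G} {E : Subgroup (DU K)} {L : Subgroup G}

namespace II

theorem flip {V : Subgroup (DU K)} {x y : DU K} (h : ⁅x, y⁆ ∈ V) : ⁅y, x⁆ ∈ V := by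
  rw [← commutatorElement_inv]; exact inv_mem h

theorem reg (hT : ¬ E ≤ sT) (hQ : ¬ E ≤ sQ) : ∃ g ∈ E, g.a ≠ 0 ∧ g.b ≠ 0 := by
  obtain ⟨g, hg, hb⟩ := SetLike.not_le_iff_exists.1 hT
  obtain ⟨k, hk, ha⟩ := SetLike.not_le_iff_exists.1 hQ
  rw [mem_sT] at hb
  rw [mem_sQ] at ha
  by_cases h1 : g.a = 0
  · by_cases h2 : k.b = 0
    · exact ⟨g * k, mul_mem hg hk, by simpa [h1] using ha, by simpa [h2] using hb⟩
    · exact ⟨k, hk, ha, h2⟩
  · exact ⟨g, hg, h1, hb⟩

theorem Y3 : (sY : Subgroup (DU K)) ≤ sZ3 := fun _ h => ⟨h.1, h.2.1, h.2.2.1⟩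

theorem Z34 : (sZ3 : Subgroup (DU K)) ≤ sZ4 := fun _ h => ⟨h.1, h.2.1⟩

theorem Z3_le (h3 : sZ3 ≤ E) : sZ3 ≤ Om p E sY := fun w hw =>
  ⟨h3 hw, by rw [pow_Z3 hw]; exact one_mem _, fun e _ => c_Z3 e hw⟩

theorem XC_mem (t : K) : XC t ∈ (sZ4 : Subgroup (DU K)) := ⟨rfl, rfl⟩

/-- the relation in the `c`-coordinate -/
theorem rel {g v : DU K} (ha : g.a ≠ 0) (hb : g.b ≠ 0) (h : ⁅g, v⁆.c = 0) : v.a = 0 ↔ v.b = 0 := by
  rw [DU.comm_c, sub_eq_zero] at h
  constructor
  · intro k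
    rw [k, mul_zero] at h
    exact (mul_eq_zero.1 h.symm).resolve_right ha
  · intro k
    rw [k, zero_mul] at h
    exact (mul_eq_zero.1 h).resolve_left hb

theorem stepA (h : Pr p u E L) (h3 : sZ3 ≤ E) {g : DU K} (hg : g ∈ E) (ha : g.a ≠ 0) (hb : g.b ≠ 0)
    (hZ : Iv u E L sZ) (hY : Iv u E L sY) : Om p E sY ≤ sZ4 := by
  intro v hv
  by_contra hn
  have r : ∀ x ∈ Om p E sY, x.a = 0 ↔ x.b = 0 := fun x hx => rel ha hb (hx.2.2 g hg).2.2.1
  have va : v.a ≠ 0 := fun k => hn ⟨k, (r v hv).1 k⟩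
  have vb : v.b ≠ 0 := fun k => va ((r v hv).2 k)
  have hp : p ≠ 2 := reg_odd va vb hv.2.1.2.2.1
  have e4 : ∀ e ∈ E, e.a = 0 → e.b = 0 → e.c = 0 := fun e he h1 h2 => by
    have := (hv.2.2 e he).2.2.2
    rw [DU.comm_d, h1, h2] at this
    exact cr_inj (two_ne hp) va (by simpa using this)
  have nm : ∀ t : K, Nm E (XC t) := fun t => .of_comm fun e _ => h3 (flip (c_Z4 e (XC_mem t)))
  have out : XC (1 : K) ∉ E := fun k => one_ne_zero (e4 _ k rfl rfl)
  have o : Off p E sY (Om p E sY) (fun t : Fx K => XC (t : K)) fun x => ⟨x.b, x.hb⟩ :=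
    { nm := fun t => nm t
      ab := fun i j => h3 (c_Z4 _ (XC_mem _))
      pow := fun i => by rw [pow_XC]; exact one_mem _
      inj := fun i j k => by
        have := e4 _ k (by simp) (by simp)
        simp at this
        exact Subtype.ext (by linear_combination -this)
      out := ⟨1, out⟩
      fib := fun x hx y hy e i => by
        have m := mul_mem (inv_mem hx) hy
        have e1 : (x⁻¹ * y).b = 0 := by
          have := congrArg Subtype.val e
          simp only at this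
          simp [this]
        have e2 := (r _ m).2 e1
        exact c_Z3 _ ⟨e2, e1, e4 _ m.1 e2 e1⟩ }
  rcases h.ff (h.sec_om hY) o with al | be
  · obtain ⟨L', hl, h', i3⟩ := al.normal sZ3 Y3 (Z3_le h3)
    refine out (h'.chain2 i3 (hZ.mono hl) (fun e _ => flip (c_Z4 e (XC_mem _))) (fun w hw => ?_)
      fun z hz => comm_Z z hz _)
    have y := c_Z3 (XC (1 : K)) hw
    exact ⟨y.1, y.2.1, y.2.2.1, y.2.2.2, by rw [(comm_Z3 hw _).1]; simp⟩
  · obtain ⟨x, hx⟩ := not_line (1 : K)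
    obtain ⟨t, e, he, k⟩ := be.gen _ (nm x)
    have k1 := congrArg DU.a k
    have k2 := congrArg DU.b k
    have k3 := congrArg DU.c k
    simp at k1 k2 k3
    rw [e4 e he k1.symm k2.symm] at k3
    exact hx t (by simpa using k3)

theorem stepB (h : Pr p u E L) (h4 : sZ4 ≤ E) {g : DU K} (hg : g ∈ E) (ha : g.a ≠ 0)
    (hY : Iv u E L sY) (hV : Om p E sY ≤ sZ4) : ∃ L' ≤ L, Pr p u E L' ∧ Iv u E L' sZ3 := by
  have h3 : sZ3 ≤ E := Z34.trans h4
  by_cases hc : Om p E sY ≤ sZ3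
  · exact ⟨L, le_rfl, h, le_antisymm hc (Z3_le h3) ▸ h.iv_om hY⟩
  obtain ⟨v, hv, hn⟩ := SetLike.not_le_iff_exists.1 hc
  have vc : v.c ≠ 0 := fun k => hn ⟨(hV hv).1, (hV hv).2, k⟩
  have r : ∀ e ∈ E, ∀ x ∈ Om p E sY, cr e.a x.c = 0 := fun e he x hx => by
    have := (hx.2.2 e he).2.2.2
    rw [DU.comm_d, (hV hx).1, (hV hx).2] at this
    simpa using this
  have ea : ∀ e ∈ E, ∃ t : Fx K, e.a = t * v.c := fun e he => by
    have : cr v.c e.a = 0 := by rw [← r e he v hv]; simp [cr]; ring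
    exact (cr_eq_zero vc this).imp fun _ k => k.1
  have xc : ∀ x ∈ Om p E sY, ∃ t : Fx K, x.c = t * v.c := fun x hx => by
    obtain ⟨t, k, -⟩ := cr_eq_zero ha (r g hg x hx)
    obtain ⟨t', k'⟩ := ea g hg
    exact ⟨t * t', by rw [k, k']; push_cast; ring⟩
  obtain ⟨s, hs⟩ := not_line v.c
  obtain ⟨m, hm⟩ := tr_surj vc 1
  have nm : ∀ x, Nm E x := fun x => .of_comm fun e _ => h4 (c_S x e)
  have o : Off p E sY (Om p E sY) (fun t : Fx K => XA (t * s)) fun x => trF (x.c * m) :=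
    { nm := fun t => nm _
      ab := fun i j => h4 (c_S _ _)
      pow := fun i => by rw [pow_XA]; exact one_mem _
      inj := fun i j k => by
        obtain ⟨t, e⟩ := ea _ k
        simp at e
        by_contra ne
        have : (j : K) - i ≠ 0 := fun q => ne (Subtype.ext (sub_eq_zero.1 q).symm)
        refine hs (t / (j - i)) ?_
        push_cast
        field_simp
        linear_combination e
      out := ⟨1, fun k => by
        obtain ⟨t, e⟩ := ea _ k
        exact hs t (by simpa using e)⟩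
      fib := fun x hx y hy e i => by
        have q := mul_mem (inv_mem hx) hy
        obtain ⟨t, k⟩ := xc _ q
        have e1 : tr (x.c * m) = tr (y.c * m) := congrArg Subtype.val e
        have e2 : (x⁻¹ * y).c = y.c - x.c := by simp [(hV hx).2]; ring
        have e3 : (t : K) = 0 := by
          have : tr ((x⁻¹ * y).c * m) = 0 := by rw [e2, sub_mul, tr_sub, e1, sub_self]
          rw [k, mul_assoc, tr_smul, hm] at this
          simpa using this
        exact c_Z3 _ ⟨(hV q).1, (hV q).2, by rw [k, e3, zero_mul]⟩ }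
  rcases h.ff (h.sec_om hY) o with al | be
  · exact al.normal sZ3 Y3 (Z3_le h3)
  · obtain ⟨x, hx⟩ := not_plane s v.c
    obtain ⟨t, e, he, k⟩ := be.gen _ (nm (XA x))
    obtain ⟨t', k'⟩ := ea e he
    have k1 := congrArg DU.a k
    simp at k1
    exact absurd (k' ▸ k1) (hx t t')

theorem stepC (h : Pr p u E L) (h4 : sZ4 ≤ E) {g : DU K} (hg : g ∈ E) (ha : g.a ≠ 0) (hb : g.b ≠ 0)
    (i3 : Iv u E L sZ3) : ∃ L' ≤ L, Pr p u E L' ∧ Iv u E L' sZ4 := by
  have le : sZ4 ≤ Om p E sZ3 := fun w hw => ⟨h4 hw, pow_T hw.2, fun e _ => c_Z4 e hw⟩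
  by_cases hc : Om p E sZ3 ≤ sZ4
  · exact ⟨L, le_rfl, h, le_antisymm hc le ▸ h.iv_om i3⟩
  obtain ⟨v, hv, hn⟩ := SetLike.not_le_iff_exists.1 hc
  have r : ∀ x ∈ Om p E sZ3, x.a = 0 ↔ x.b = 0 := fun x hx => rel ha hb (hx.2.2 g hg).2.2
  have va : v.a ≠ 0 := fun k => hn ⟨k, (r v hv).1 k⟩
  have vb : v.b ≠ 0 := fun k => va ((r v hv).2 k)
  have ea : ∀ e ∈ E, e.b * v.a = v.b * e.a := fun e he => by
    have := (hv.2.2 e he).2.2
    rwa [DU.comm_c, sub_eq_zero] at this
  have eb : ∀ e ∈ E, e.a = 0 → e.b = 0 := fun e he k => by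
    have := ea e he
    rw [k, mul_zero] at this
    exact (mul_eq_zero.1 this).resolve_right va
  have nm : ∀ x, Nm E x := fun x => .of_comm fun e _ => h4 (c_S x e)
  have o : Off p E sZ3 (Om p E sZ3) (fun t : Fx K => XB t) fun x => ⟨x.b, x.hb⟩ :=
    { nm := fun t => nm _
      ab := fun i j => h4 (c_S _ _)
      pow := fun i => h4 (pow_S _)
      inj := fun i j k => by
        have := eb _ k (by simp)
        simp at this
        exact Subtype.ext (by linear_combination -this)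
      out := ⟨1, fun k => by simpa using eb _ k rfl⟩
      fib := fun x hx y hy e i => by
        have q := mul_mem (inv_mem hx) hy
        have e1 : (x⁻¹ * y).b = 0 := by
          have := congrArg Subtype.val e
          simp only at this
          simp [this]
        exact c_Z4 _ ⟨(r _ q).2 e1, e1⟩ }
  rcases h.ff (h.sec_om i3) o with al | be
  · exact al.normal sZ4 Z34 le
  · obtain ⟨x, hx⟩ := not_line v.a
    obtain ⟨t, e, he, k⟩ := be.gen _ (nm (XA x))
    have k1 := congrArg DU.a k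
    simp at k1
    refine absurd ?_ (hx (⟨e.b, e.hb⟩ / ⟨v.b, v.hb⟩))
    push_cast
    field_simp
    rw [k1]
    linear_combination -ea e he

end II

theorem gen_fin (h : Pr p u E L) (h3 : sZ3 ≤ E) (hT : ¬ E ≤ sT) (hQ : ¬ E ≤ sQ) (hZ : Iv u E L sZ)
    (hY : Iv u E L sY) : False := by
  obtain ⟨g, hg, ha, hb⟩ := II.reg hT hQ
  have hV := II.stepA h h3 hg ha hb hZ hY
  have h4 : sZ4 ≤ E := fun x hx => h.chain2 (h.iv_om hY) hZ
    (fun e _ => II.Z3_le h3 (II.flip (c_Z4 e hx))) (fun v hv => c_Q hx.1 (hV hv).1) fun z hz => comm_Z z hz x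
  obtain ⟨L₁, l1, h1, i3⟩ := II.stepB h h4 hg ha hY hV
  obtain ⟨L₂, l2, h2, i4⟩ := II.stepC h1 h4 hg ha hb i3
  refine h.ne (eq_top_iff.2 fun x _ => h2.chain ?_)
  exact .step i4 (fun e _ => c_S x e) (.step (i3.mono l2) (fun v hv => c_Z4 x hv)
    (.step (hY.mono (l2.trans l1)) (fun v hv => c_Z3 x hv) (.step (hZ.mono (l2.trans l1)) (fun v hv => c_Y x hv)
      (.step h2.iv_bot (fun z hz => commutatorElement_eq_one_iff_mul_comm.2 (comm_Z z hz x)) .bot))))

end Cfsg.Agent.TDF
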