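import Cfsg.Agent.TDF.LinA

/-! Project TDF: the orbit of `y` in odd characteristic.  See `notes/TDF.md`. -/

set_option autoImplicit false
set_option linter.unusedSectionVars false

namespace Cfsg.Agent.TDF

open FK RFS
open scoped commutatorElement

variable {K : Type*} [Field K] [Tri K] [Finite K] {𝓛 : Subgroup (GV K)} {ν : GV K}

namespace LinC

variable {l : GV K} {v : K} {s : Fx K} {x : VV K}

/-- the action of the coroot of `b` -/
def hl (m : Fx K) (x : VV K) : VV K := (m ^ 2 * x.1, m * x.2.1, x.2.2.1, m⁻¹ * x.2.2.2)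

theorem has_hl (h : Lin 𝓛) {m : Fx K} (hm : m ≠ 0) : Has 𝓛 (hl m) := by
  obtain ⟨g, hg, e⟩ := h.hb (Units.mk0 m hm)
  have : (m : K) ≠ 0 := fun k => hm (Subtype.ext k)
  refine ⟨g, hg, fun v => (e v).trans ?_⟩
  ext <;> simp [torV, hl, sh, nr, hb, -mul_eq_mul_right_iff] <;> field_simp

theorem cj (h : Lin 𝓛) (hl : l ∈ 𝓛) {f : VV K → VV K} (hf : Has 𝓛 f) {t : Fx K} (e : f (l e0) = t • l e0) :
    ∃ (γ β : K) (φ : RingAut K), γ ≠ 0 ∧ β ≠ 0 ∧ Gal φ ∧ ∀ x, (l.symm x).1 = 0 → (l.symm (f x)).1 = 0 ∧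
      (l.symm (f x)).2.1 = γ * φ (l.symm x).2.1 ∧
      ((l.symm x).2.1 = 0 → (l.symm (f x)).2.2.1 = β * φ (l.symm x).2.2.1) := by
  obtain ⟨g, hg, eg⟩ := hf
  obtain ⟨u, k, φ, hφ, e1⟩ := h.std (l⁻¹ * g * l) (mul_mem (mul_mem (inv_mem hl) hg) hl) ⟨t, by
    show l.symm (g (l e0)) = _
    rw [eg, e, map_smul, l.symm_apply_apply]⟩
  refine ⟨k.μ * k.α, k.μ * sh k.α, φ, mul_ne_zero k.μ_ne k.α_ne, mul_ne_zero k.μ_ne (by simpa using k.α_ne), hφ,
    fun x hx => ?_⟩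
  have e2 : l.symm (f x) = xv u (torV k (galV φ (l.symm x))) := by
    rw [← e1, ← eg]
    show _ = l.symm (g (l (l.symm x)))
    rw [l.apply_symm_apply]
  rw [e2]
  exact ⟨by simp [xv, torV, galV, hx], by simp [xv, torV, galV, hx], fun k => by simp [xv, torV, galV, hx, k]⟩

theorem line (h1 : (l.symm x).1 = 0) (h2 : (l.symm x).2.1 = 0) (h3 : (l.symm x).2.2.1 = 0) :
    ∃ t : Fx K, x = t • l e0 := by
  refine ⟨(l.symm x).2.2.2, ?_⟩
  rw [← map_smul, ← l.symm_apply_eq]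
  ext <;> simp [e0, h1, h2, h3]

theorem perp (h : Lin 𝓛) (hl : l ∈ 𝓛) (e : om x (l e0) = 0) : (l.symm x).1 = 0 := by
  have := (h.om_iff hl (l.symm x) e0).1 (by rwa [l.apply_symm_apply])
  rw [om_e0] at this
  exact Subtype.ext this

/-- the vectors perpendicular to `y'` and fixed by `h` -/
theorem fix (h : Lin 𝓛) (h2 : (2 : K) ≠ 0) (hm : l ∈ 𝓛) (hy : l e0 = (0, v, 0, s)) (hv : v ≠ 0)
    (e : om x (l e0) = 0) (hx : hl (-1) x = x) : (l.symm x).1 = 0 ∧ (l.symm x).2.1 = 0 := by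
  obtain ⟨γ, β, φ, hγ, -, hφ, k⟩ := cj h hm (has_hl h (m := -1) (by simp)) (t := -1) (by
    rw [hy]; ext <;> simp [hl])
  have φ1 := gal_quad hφ (m := 0) (n := -1) hγ (by simp) fun c => by
    have a := k (l (0, c, 0, 0)) (by simp)
    have b := (k _ a.1).2.1
    rw [a.2.1, show hl (-1) (hl (-1) (l (0, c, 0, 0))) = l (0, c, 0, 0) by ext <;> simp [hl],
      l.symm_apply_apply] at b
    linear_combination -b
  have z1 : (l.symm e0).1 = 0 := perp h hm (by rw [hy]; simp [om, e0])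
  have z2 : (l.symm e0).2.1 ≠ 0 := fun c => by
    obtain ⟨t, ht⟩ := line z1 c (h.obD (ob_e0.map (inv_mem hm)) z1 c)
    rw [hy] at ht
    have a := congrArg (fun w : VV K => w.2.1) ht
    have b := congrArg (fun w : VV K => w.2.2.2) ht
    simp [e0, hv, Subfield.smul_def] at a b
    simp [a] at b
  have γ1 : γ = -1 := by
    have := (k e0 z1).2.1
    rw [show hl (-1) e0 = -(e0 : VV K) by ext <;> simp [hl, e0], map_neg, φ1] at this
    exact mul_right_cancel₀ z2 (by rw [← this]; simp)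
  have x1 := perp h hm e
  have := (k x x1).2.1
  rw [hx, φ1, γ1] at this
  exact ⟨x1, (mul_eq_zero.1 (show 2 * (l.symm x).2.1 = 0 by linear_combination this)).resolve_left h2⟩

theorem fixε (h : Lin 𝓛) (h2 : (2 : K) ≠ 0) (hm : l ∈ 𝓛) (hy : l e0 = (0, v, 0, s)) (hv : v ≠ 0) {ε : K}
    (e : tr (ε * v) = 0) : (l.symm (0, 0, ε, 0)).1 = 0 ∧ (l.symm (0, 0, ε, 0)).2.1 = 0 :=
  fix h h2 hm hy hv (by rw [hy]; simp [om, e]) (by simp [hl])

theorem eps (h : Lin 𝓛) (h2 : (2 : K) ≠ 0) (hm : l ∈ 𝓛) (hy : l e0 = (0, v, 0, s)) (hv : v ≠ 0) {ε : K}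
    (e : tr (ε * v) = 0) (h3 : (l.symm (0, 0, ε, 0)).2.2.1 = 0) : ε = 0 := by
  obtain ⟨a, b⟩ := fixε h h2 hm hy hv e
  obtain ⟨t, ht⟩ := line a b h3
  rw [hy] at ht
  simpa using congrArg (fun w : VV K => w.2.2.1) ht

theorem key (h : Lin 𝓛) (h2 : (2 : K) ≠ 0) (hm : l ∈ 𝓛) (hy : l e0 = (0, v, 0, s)) (hv : v ≠ 0) {u : K}
    (e : tr (u * sh v) = 0) (o : Ob 𝓛 (0, v, cr u v, s)) : u = 0 := by
  have e1 : tr (cr u v * v) = 0 := by
    rw [← mul_zero 2, ← e]; simp [tr, cr, sh]; ring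
  obtain ⟨a, b⟩ := fixε h h2 hm hy hv e1
  have e2 : l.symm (0, v, cr u v, s) = e0 + l.symm (0, 0, cr u v, 0) := by
    rw [← l.symm_apply_apply e0, ← map_add, hy]; simp
  have := h.obD (o.map (inv_mem hm)) (by
    show (l.symm _).1 = 0
    rw [e2]; simpa [e0] using a) (by
    show (l.symm _).2.1 = 0
    rw [e2]; simpa [e0] using b)
  have c : (l.symm (0, v, cr u v, s)).2.2.1 = 0 := this
  rw [e2] at c
  have d := eps h h2 hm hy hv e1 (by simpa [e0] using c)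
  exact cr_inj h2 hv (by rw [← d]; simp [cr]; ring)

theorem zero (h : Lin 𝓛) (h2 : (2 : K) ≠ 0) (hm : l ∈ 𝓛) (hy : l e0 = (0, v, 0, 0)) (hv : v ≠ 0) {m : Fx K}
    (m0 : m ≠ 0) : (m : K) ^ 2 = 1 := by
  obtain ⟨γ, β, φ, -, hβ, hφ, k⟩ := cj h hm (has_hl h m0) (t := m) (by
    rw [hy]; ext <;> simp [hl, Subfield.smul_def])
  have kε : ∀ ε, tr (ε * v) = 0 → (l.symm (0, 0, ε, 0)).2.2.1 = β * φ (l.symm (0, 0, ε, 0)).2.2.1 := fun ε e => by
    obtain ⟨a, b⟩ := fixε h h2 hm hy hv e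
    have := (k _ a).2.2 b
    rwa [show hl m (0, 0, ε, 0) = (0, 0, ε, 0) by simp [hl]] at this
  obtain ⟨ε, ε0, e, -⟩ := perp2 v v
  rw [mul_comm] at e
  obtain ⟨ε', e', n⟩ := perp_not_line v ε
  have d0 : (l.symm (0, 0, ε, 0)).2.2.1 ≠ 0 := fun c => ε0 (eps h h2 hm hy hv e c)
  have k1 := kε ε e
  have k2 := kε ε' e'
  have nf : σ ((l.symm (0, 0, ε', 0)).2.2.1 / (l.symm (0, 0, ε, 0)).2.2.1) ≠
      (l.symm (0, 0, ε', 0)).2.2.1 / (l.symm (0, 0, ε, 0)).2.2.1 := fun c => by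
    obtain ⟨t, ht⟩ : ∃ t : Fx K, (t : K) = (l.symm (0, 0, ε', 0)).2.2.1 / (l.symm (0, 0, ε, 0)).2.2.1 :=
      ⟨⟨_, c⟩, rfl⟩
    refine n t (sub_eq_zero.1 (eps h h2 hm hy hv (by rw [sub_mul, mul_assoc, tr_sub, tr_smul, e, e']; simp) ?_))
    rw [show ((0, 0, ε' - t * ε, 0) : VV K) = (0, 0, ε', 0) - t • (0, 0, ε, 0) by simp [Subfield.smul_def],
      map_sub, map_smul]
    simp only [Prod.snd_sub, Prod.fst_sub, Prod.smul_snd, Prod.smul_fst, Subfield.smul_def, smul_eq_mul, ht]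
    field_simp
    ring
  have fx : φ ((l.symm (0, 0, ε', 0)).2.2.1 / (l.symm (0, 0, ε, 0)).2.2.1) =
      (l.symm (0, 0, ε', 0)).2.2.1 / (l.symm (0, 0, ε, 0)).2.2.1 := by
    rw [map_div₀, ← mul_div_mul_left _ _ hβ, ← k1, ← k2]
  rcases gal_cases hφ with c | c | c
  · rw [c] at k1
    have β1 : β = 1 := mul_right_cancel₀ d0 (by rw [← k1, one_mul])
    obtain ⟨a, b⟩ := fix (x := b0) h h2 hm hy hv (by rw [hy]; simp [om, b0]) (by simp [hl, b0])
    have d1 : (l.symm b0).2.2.1 ≠ 0 := fun c => by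
      obtain ⟨t, ht⟩ := line a b c
      rw [hy] at ht
      simpa [b0] using congrArg (fun w : VV K => w.1) ht
    have := (k _ a).2.2 b
    rw [show hl m b0 = (m ^ 2) • (b0 : VV K) by simp [hl, b0], map_smul, c, β1] at this
    exact mul_right_cancel₀ d1 (by simpa [Subfield.smul_def] using this)
  · exact absurd (c _ ▸ fx) nf
  · rw [c] at fx
    exact absurd (by rw [← fx, cube, fx]) nf

end LinC

open LinC

theorem Lin.np_odd (h : Lin 𝓛) (h2 : (2 : K) ≠ 0) : NP 𝓛 := by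
  rintro _ ⟨g, hg, r, hr, rfl⟩ h1
  by_contra h0
  have b0 : (g e0).1 = 0 := by simpa [hr] using h1
  have hv : (g e0).2.1 ≠ 0 := fun c => h0 (by simp [c])
  obtain ⟨w, hw⟩ := cr_surj h2 hv (-(g e0).2.2.1)
  obtain ⟨X, hX, eX⟩ := h.x w
  obtain ⟨l, hm, s, hy⟩ : ∃ l ∈ 𝓛, ∃ s, l e0 = (0, (g e0).2.1, 0, s) := ⟨X * g, mul_mem hX hg, _, by
    show X (g e0) = _
    rw [eX]
    refine Prod.ext b0 (Prod.ext (by simp [xv, b0]) (Prod.ext ?_ rfl))
    simp only [xv, b0]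
    rw [show cr w (g e0).2.1 = cr (g e0).2.1 w by simp [cr]; ring, hw]; simp⟩
  generalize (g e0).2.1 = v at hv hy
  have o : Ob 𝓛 (0, v, 0, s) := hy ▸ ob_e0.map hm
  have an : ∀ u, u ≠ 0 → tr (u * sh v) = 0 → tr (sh u * v) ≠ 0 := fun u hu e c => hu (key h h2 hm hy hv e (by
    convert o.has (h.x u) using 1
    ext <;> simp [xv, c]))
  have h3 : (3 : K) ≠ 0 := fun c => by
    have e : tr (v * sh v) = 0 := by
      rw [← zero_mul (nr v), ← c]; simp [tr, sh, nr]; ring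
    exact an v hv e (by rwa [mul_comm])
  have m0 : (2 : Fx K) ≠ 0 := fun c => h2 (congrArg Subtype.val c)
  have c2 : ((2 : Fx K) : K) = 2 := rfl
  by_cases hs : s = 0
  · subst hs
    have := zero h h2 hm hy hv m0
    rw [c2] at this
    exact h3 (by linear_combination this)
  · obtain ⟨u, e1, e2⟩ := aniso_univ h2 hv an (s - 2⁻¹ * (2⁻¹ * s))
    have u0 := key h h2 hm hy hv e1 (by
      convert ((o.has (has_hl h m0)).smul (inv_ne_zero m0)).has (h.x u) using 1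
      have : (2 : K)⁻¹ * (2 * v) = v := by field_simp
      ext <;> simp [xv, hl, Subfield.smul_def, c2, this, e2])
    have s0 : (s : K) ≠ 0 := fun c => hs (Subtype.ext c)
    simp [u0, c2] at e2
    field_simp at e2
    exact h3 (mul_left_cancel₀ s0 (by linear_combination -e2))

end Cfsg.Agent.TDF
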