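import Cfsg.Agent.TDF.LinA

/-! Project TDF: the orbit is standard.  See `notes/TDF.md`. -/

set_option autoImplicit false
set_option linter.unusedSectionVars false

namespace Cfsg.Agent.TDF

open FK RFS
open scoped commutatorElement

variable {K : Type*} [Field K] [Tri K] [Finite K] {𝓛 : Subgroup (GV K)} {ν : GV K}

namespace LinD

theorem odd (h : Lin 𝓛) (np : NP 𝓛) (h2 : (2 : K) ≠ 0) {w : K} {s : Fx K} (hy : Ob 𝓛 (1, 0, w, s)) :
    w = 0 ∧ s = 0 := by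
  have hw : w = 0 := by
    by_contra hw
    obtain ⟨u, hu, e⟩ := cubic_root h2 (mul_ne_zero h2 hw)
    obtain ⟨r, k⟩ := np.perp h hy (hy.has (h.x u)) (by
      simp only [tr, nr, map_mul, map_ofNat] at e
      simp [om, xv, tr, nr]
      linear_combination e)
    exact hu (by simpa [xv] using congrArg (fun x : VV K => x.2.1) k)
  subst hw
  obtain ⟨u, e⟩ := nr_surj (K := K) (-(s + s))
  obtain ⟨r, k⟩ := np.perp h (hy.has (h.x u)) (hy.has (h.hb (-1))) (by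
    simp [om, xv, torV, e]
    simp [nr])
  have k1 := congrArg (fun x : VV K => (x.1 : K)) k
  have k2 := congrArg (fun x : VV K => x.2.1) k
  simp [xv, torV, Subfield.smul_def] at k1 k2
  have hu : u = 0 := k2.resolve_left fun c => by simp [c] at k1
  rw [hu, nr_zero] at e
  refine ⟨rfl, Subtype.ext ((mul_eq_zero.1 (?_ : 2 * (s : K) = 0)).resolve_left h2)⟩
  simp only [NegMemClass.coe_neg, AddMemClass.coe_add] at e
  linear_combination e

theorem even (h : Lin 𝓛) (np : NP 𝓛) (h2 : (2 : K) = 0) {w : K} {s : Fx K} (hy : Ob 𝓛 (1, 0, w, s)) :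
    w = 0 ∧ s = 0 := by
  have hs : s = 0 := by
    obtain ⟨g, hg, r, -, e⟩ := hy
    have h4 : ka ((1, 0, w, s) : VV K) = (r : K) ^ 2 * ka (g e0) := by
      rw [e]; simp [ka, tr, Subfield.smul_def]; ring
    rw [h.sing h2 g hg] at h4
    simpa [ka] using h4
  subst hs
  obtain ⟨k, hk, hα⟩ : ∃ k : Tor K, Has 𝓛 (torV k) ∧ sh k.α ≠ 1 := by
    by_cases hB : Big K
    · obtain ⟨l, l0, l1⟩ := hB
      refine ⟨hb (Units.mk0 l l0), h.hb _, fun e => l1 (Subtype.ext ?_)⟩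
      have l0' : (l : K) ≠ 0 := fun c => l0 (Subtype.ext c)
      simp only [hb_α, Units.val_mk0, sh, map_inv₀, σ_Fx] at e
      field_simp at e
      have : ((l : K) - 1) ^ 2 = 0 := by linear_combination -e + (1 - (l : K)) * h2
      exact sub_eq_zero.1 (pow_eq_zero_iff two_ne_zero |>.1 this)
    · obtain ⟨α, -, -, e⟩ := exists_norm_one (K := K)
      exact ⟨(α, 1), h.tau hB α, e⟩
  obtain ⟨r, e⟩ := np.perp h hy (hy.has hk) (by simp [om, torV])
  have k1 := congrArg (fun x : VV K => (x.1 : K)) e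
  have k2 := congrArg (fun x : VV K => x.2.2.1) e
  simp only [torV, mul_one, Tor.coe_snd, Prod.smul_mk, smul_eq_mul, Subfield.smul_def] at k1 k2
  refine ⟨by_contra fun hw => hα (mul_left_cancel₀ k.μ_ne (mul_right_cancel₀ hw ?_)), rfl⟩
  rw [k2, mul_one, k1]

theorem xv_smul (t : K) (s : Fx K) (v : VV K) : xv t (s • v) = s • xv t v := by
  ext <;> simp [xv, tr, cr, Subfield.smul_def] <;> ring

end LinD

theorem Lin.orb (h : Lin 𝓛) (np : NP 𝓛) : Orb 𝓛 := fun v hv => by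
  by_cases h1 : v.1 = 0
  · refine .inl ⟨v.2.2.2, ?_⟩
    ext <;> simp [e0, h1, np v hv h1, h.obD hv h1 (np v hv h1)]
  have h1' : (v.1 : K) ≠ 0 := fun c => h1 (Subtype.ext c)
  obtain ⟨y, hy, e, e1, e2⟩ : ∃ y, Ob 𝓛 y ∧ xv (-(v.2.1 / v.1)) v = v.1 • y ∧ y.1 = 1 ∧ y.2.1 = 0 :=
    ⟨v.1⁻¹ • xv (-(v.2.1 / v.1)) v, (hv.has (h.x _)).smul (inv_ne_zero h1), (smul_inv_smul₀ h1 _).symm,
      by simp [xv, h1], by simp [xv, mul_div_cancel₀ _ h1']⟩
  obtain ⟨b, c, w, s⟩ := y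
  obtain rfl : b = 1 := e1
  obtain rfl : c = 0 := e2
  obtain ⟨rfl, rfl⟩ : w = 0 ∧ s = 0 := by
    by_cases h2 : (2 : K) = 0
    exacts [LinD.even h np h2 hy, LinD.odd h np h2 hy]
  exact .inr ⟨_, _, e⟩

theorem Lin.exists_sw (h : Lin 𝓛) (o : Orb 𝓛) : ∃ ν, Sw 𝓛 ν := by
  obtain ⟨g, hg, hn⟩ := h.ne
  obtain ⟨t, s, e⟩ := (o _ (ob_e0.map hg)).resolve_left hn
  obtain ⟨x, hx, ex⟩ := h.x t
  have hl := mul_mem hx hg
  have el : (x * g) e0 = s • b0 := (ex _).trans e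
  generalize x * g = l at hl el
  have ho : Ob 𝓛 (l⁻¹ e0) := ob_e0.map (inv_mem hl)
  have e0' : l (l⁻¹ e0) = e0 := l.apply_symm_apply _
  obtain ⟨t', r, e'⟩ := (o _ ho).resolve_left fun ⟨r, c⟩ => by
    rw [c, map_smul, el] at e0'
    simpa [e0, b0] using congrArg (fun x : VV K => x.2.2.2) e0'
  obtain ⟨x', hx', ex'⟩ := h.x (-t')
  have hr : r ≠ 0 := fun c => (ho.has (h.x t')).ne_zero (by rw [e', c, zero_smul])
  refine ⟨l * x', mul_mem hl hx', ⟨s, ?_⟩, r⁻¹, ?_⟩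
  · rw [← el]
    exact congrArg l ((ex' _).trans (by ext <;> simp [xv, e0]))
  · rw [eq_inv_smul_iff₀ hr, ← map_smul, ← e', ← e0']
    refine congrArg l ((ex' _).trans ?_)
    rw [e0', xv_xv, neg_add_cancel, xv_zero]

end Cfsg.Agent.TDF
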