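import Cfsg.Agent.TDF.LinE

/-! Project TDF: the standard reflection and the torus.  See `notes/TDF.md`. -/

set_option autoImplicit false
set_option linter.unusedSectionVars false

namespace Cfsg.Agent.TDF

open FK RFS
open scoped commutatorElement

variable {K : Type*} [Field K] [Tri K] [Finite K] {𝓛 : Subgroup (GV K)} {ν : GV K}

namespace LinF

theorem comp {f f' : VV K → VV K} (h : Has 𝓛 f) (h' : Has 𝓛 f') : Has 𝓛 fun v => f (f' v) := by
  obtain ⟨g, hg, e⟩ := h
  obtain ⟨g', hg', e'⟩ := h'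
  exact ⟨g * g', mul_mem hg hg', fun v => by rw [LinearEquiv.mul_apply, e', e]⟩

theorem congr {f f' : VV K → VV K} (h : Has 𝓛 f) (e : ∀ v, f v = f' v) : Has 𝓛 f' :=
  funext e ▸ h

theorem inv {f f' : VV K → VV K} (h : Has 𝓛 f) (e : ∀ v, f (f' v) = v) : Has 𝓛 f' := by
  obtain ⟨g, hg, e'⟩ := h
  exact ⟨g⁻¹, inv_mem hg, fun v => g.injective (by rw [e' (f' v), e]; exact g.apply_symm_apply v)⟩

theorem dec (v : VV K) : v = v.1 • b0 + (0, v.2.1, 0, 0) + (0, 0, v.2.2.1, 0) + v.2.2.2 • e0 := by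
  ext <;> simp [b0, e0]

theorem shape (h : Lin 𝓛) (o : Orb 𝓛) (s : Sw 𝓛 ν) :
    ∃ (k : Tor K) (φ : RingAut K), Gal φ ∧ ∀ v, ν v = nuV (torV k (galV φ v)) := by
  obtain ⟨m, hm⟩ := s.e
  obtain ⟨n, hn⟩ := s.b
  obtain ⟨h1, h2⟩ := h.sw_c o s
  choose D hD using h1
  choose C hC using h2
  have m0 : m ≠ 0 := by
    rintro rfl
    rw [zero_smul, map_eq_zero_iff _ ν.injective] at hm
    exact one_ne_zero (congrArg (fun v : VV K => v.2.2.2) hm)
  have n0 : n ≠ 0 := by
    rintro rfl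
    rw [zero_smul, map_eq_zero_iff _ ν.injective] at hn
    exact one_ne_zero (congrArg (fun v : VV K => v.1) hn)
  have m0' : (m : K) ≠ 0 := fun e => m0 (Subtype.ext e)
  have n0' : (n : K) ≠ 0 := fun e => n0 (Subtype.ext e)
  have eν : ∀ v, ν v = (m * v.2.2.2, D v.2.2.1, C v.2.1, n * v.1) := fun v => by
    conv_lhs => rw [dec v]
    rw [map_add, map_add, map_add, map_smul, map_smul, hm, hn, hC, hD]
    ext <;> simp [b0, e0, mul_comm]
  have Dadd : ∀ x y, D (x + y) = D x + D y := fun x y => by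
    have := congrArg (fun v : VV K => v.2.1) (map_add ν (0, 0, x, 0) (0, 0, y, 0))
    simpa [eν] using this
  have Cadd : ∀ x y, C (x + y) = C x + C y := fun x y => by
    have := congrArg (fun v : VV K => v.2.2.1) (map_add ν (0, x, 0, 0) (0, y, 0, 0))
    simpa [eν] using this
  have Dsm : ∀ (t : Fx K) x, D (t * x) = t * D x := fun t x => by
    have := congrArg (fun v : VV K => v.2.1) (map_smul ν t (0, 0, x, 0))
    simpa [eν, Subfield.smul_def] using this
  have Csm : ∀ (t : Fx K) x, C (t * x) = t * C x := fun t x => by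
    have := congrArg (fun v : VV K => v.2.2.1) (map_smul ν t (0, x, 0, 0))
    simpa [eν, Subfield.smul_def] using this
  have D0 : D 0 = 0 := by simpa using Dsm 0 0
  have C0 : C 0 = 0 := by simpa using Csm 0 0
  have ob : Ob 𝓛 (b0 : VV K) := ⟨ν, s.mem, m⁻¹, inv_ne_zero m0, by rw [hm, inv_smul_smul₀ m0]⟩
  have key : ∀ u, n * D (sh u) = sh (-C u) ∧ nr (C u) = m * n ^ 2 * nr u := fun u => by
    by_cases u0 : u = 0
    · simp [u0, C0, D0]
    rcases o _ ((ob.has (h.x u)).map s.mem) with ⟨r, e⟩ | ⟨t, r, e⟩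
    · have := congrArg (fun v : VV K => (v.1 : K)) e
      simp [eν, xv, b0, e0, m0', u0] at this
    · have e' := congrArg (xv (-t)) e
      rw [xv_xv, neg_add_cancel, xv_zero, eν] at e'
      have e1 := congrArg (fun v : VV K => (v.1 : K)) e'
      have e2 := congrArg (fun v : VV K => v.2.1) e'
      have e3 := congrArg (fun v : VV K => v.2.2.1) e'
      have e4 := congrArg (fun v : VV K => (v.2.2.2 : K)) e'
      simp [xv, b0] at e1 e2 e3 e4
      rw [mul_right_comm (m : K), e1, e2, e3, e4]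
      constructor <;> simp [sh, nr] <;> ring
  obtain ⟨β, β0, φ, hφ, hβ⟩ := sharp_rigid (A := fun x => n * D x) (B := fun x => -C x)
    (fun x y => by rw [Dadd, mul_add]) (fun t x => by rw [Dsm, mul_left_comm])
    (fun x y => by rw [Cadd, neg_add]) (fun t x => by rw [Csm, mul_neg])
    ⟨1, fun e => by
      have := (key 1).2
      rw [neg_eq_zero.1 e] at this
      simp [m0', n0'] at this⟩ fun v => (key v).1
  have hC' : ∀ x, C x = -(β * φ x) := fun x => by rw [← hβ, neg_neg]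
  have hD' : ∀ x, n * D x = sh β * φ x := fun x => by
    by_cases x0 : x = 0
    · simp [x0, D0]
    have k1 := (key (sh x)).1
    have k2 := Dsm (nrF x) x
    have k3 : φ (nr x) = nr x := hφ (nrF x)
    rw [hβ, sh_sh, nrF_coe] at *
    rw [k2, show sh (β * φ (sh x)) = sh β * φ (sh (sh x)) by rw [map_sh φ (sh x)]; simp [sh]; ring, sh_sh,
      map_mul, k3] at k1
    exact mul_left_cancel₀ (nr_eq_zero.not.2 x0) (by linear_combination k1)
  have hm' : (m : K) * n ^ 2 = -nr β := by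
    have := (key 1).2
    rw [hC', map_one, nr_one, mul_one, mul_one] at this
    rw [← this]; simp [nr]
  refine ⟨(Units.mk0 (β / n) (div_ne_zero β0 n0'), Units.mk0 n n0), φ, hφ, fun v => ?_⟩
  rw [eν]
  ext
  · simp [nuV, torV, galV, nr, -mul_eq_zero]
    simp only [nr] at hm'
    field_simp
    linear_combination (v.2.2.2 : K) * hm'
  · have := hD' v.2.2.1
    simp [nuV, torV, galV, sh] at this ⊢
    field_simp
    linear_combination this
  · simp [nuV, torV, galV, hC', -mul_eq_mul_right_iff]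
    field_simp
  · simp [nuV, torV, galV]

end LinF

open LinF

theorem Lin.has_nu (h : Lin 𝓛) (o : Orb 𝓛) (s : Sw 𝓛 ν) : Has 𝓛 nuV ∧ ∀ k, Has 𝓛 (torV k) := by
  obtain ⟨k, φ, hφ, e⟩ := shape h o s
  have hν : Has 𝓛 ν := ⟨ν, s.mem, fun _ => rfl⟩
  have h1 : ∀ t, Has 𝓛 fun w => nuV (xv t (nuI w)) := fun t =>
    congr (comp hν (comp (h.x (φ.symm (k.α⁻¹ * t))) (inv hν ν.apply_symm_apply))) fun w => by
      obtain ⟨v, rfl⟩ := ν.surjective w
      rw [ν.symm_apply_apply, e, e, galV_xv hφ, torV_xv, nuI_nuV, φ.apply_symm_apply,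
        mul_inv_cancel_left₀ k.α_ne]
  have h2 : ∀ β : Kˣ, Has 𝓛 fun v => torV (ha β) (nuV v) := fun β =>
    congr (comp (h.x β) (comp (h1 (β : K)⁻¹) (h.x β))) (n_eq β)
  have h3 : Has 𝓛 nuV := congr (h2 1) fun v => by
    rw [show ha (1 : Kˣ) = 1 by simp [ha], torV_one]
  refine ⟨h3, fun k => ?_⟩
  obtain ⟨β, l, rfl⟩ := tor_surj k
  exact congr (comp (comp (h2 β) (inv h3 nuV_nuI)) (h.hb l)) fun v => by rw [nuV_nuI, torV_torV]

end Cfsg.Agent.TDF
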