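import Cfsg.Agent.TDF.Defs
import Cfsg.Agent.TDF.Fld
import Cfsg.Agent.FK.Iv

/-! Project TDF: powers, centralizers, characteristic subgroups.  See `notes/TDF.md`. -/

set_option autoImplicit false
set_option linter.unusedSectionVars false

namespace Cfsg.Agent.TDF

open FK RFS
open scoped commutatorElement

variable {K : Type*} [Field K] [Tri K] {p : ℕ} [Fact p.Prime] [CharP K p] {g v x : DU K} {f : DU K → DU K}

namespace Bas

theorem pa (g : DU K) (n : ℕ) : (g ^ n).a = n * g.a := by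
  induction n with
  | zero => simp
  | succ n ih => rw [pow_succ, DU.mul_a, ih]; push_cast; ring

theorem pb (g : DU K) (n : ℕ) : (g ^ n).b = n * g.b := by
  induction n with
  | zero => simp
  | succ n ih => rw [pow_succ, DU.mul_b, ih]; push_cast; ring

theorem pow_S' (g : DU K) : g ^ p ∈ (sZ4 : Subgroup (DU K)) := ⟨by simp [pa], by simp [pb]⟩

theorem pq (h : g ∈ (sQ : Subgroup (DU K))) (n : ℕ) :
    (g ^ n).c = n * g.c ∧ (g ^ n).d = n * g.d ∧ (g ^ n).e = n * g.e := by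
  induction n with
  | zero => simp
  | succ n ih =>
    rw [pow_succ, DU.mul_c, DU.mul_d, DU.mul_e, ih.1, ih.2.1, ih.2.2, mem_sQ.1 h]
    push_cast
    refine ⟨?_, ?_, ?_⟩ <;> simp <;> ring

theorem pow_Q' (h : g ∈ (sQ : Subgroup (DU K))) : g ^ p ∈ (sZ : Subgroup (DU K)) :=
  ⟨(pow_S' g).1, (pow_S' g).2, by simp [(pq h p).1], by simp [(pq h p).2.1], by simp [(pq h p).2.2]⟩

theorem pow_Z3' (h : g ∈ (sZ3 : Subgroup (DU K))) : g ^ p = 1 := by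
  have k : ∀ n : ℕ, (g ^ n).z = n * g.z := fun n => by
    induction n with
    | zero => simp
    | succ n ih =>
      obtain ⟨-, h2, h3⟩ := pow_mem h n
      rw [pow_succ, DU.mul_z, ih, h2, h3, h.1, h.2.1, h.2.2]; push_cast; simp; ring
  obtain ⟨h1, h2, h3, h4, h5⟩ := pow_Q' (p := p) h.1
  exact DU.ext h1 h2 h3 h4 h5 (by simp [k])

theorem cr_comm (a c : K) : cr a c = cr c a := by simp only [cr]; ring

theorem cr_all {c : K} (h : ∀ t, cr t c = 0) : c = 0 := by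
  by_contra hc
  obtain ⟨t, ht⟩ := not_line c
  obtain ⟨s, hs, -⟩ := cr_eq_zero hc ((cr_comm c t).trans (h t))
  exact ht s hs

theorem sw {V : Subgroup (DU K)} (h : ⁅g, v⁆ ∈ V) : ⁅v, g⁆ ∈ V := commutatorElement_inv g v ▸ inv_mem h

theorem bot {E : Subgroup (DU K)} (h : Au E f) : ∀ a ∈ (⊥ : Subgroup (DU K)), a ∈ E → f a ∈ (⊥ : Subgroup (DU K)) :=
  fun a ha _ => by rw [Subgroup.mem_bot.1 ha, h.one]; exact one_mem _

end Bas

theorem pg_DU [Finite K] : IsPGroup p (DU K) := fun g => ⟨3, by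
  have h1 := Bas.pow_Q' (p := p) (g := g ^ p) (Bas.pow_S' g).1
  rw [pow_succ, pow_succ, pow_one, pow_mul, pow_mul]
  exact Bas.pow_Z3' ⟨h1.1, h1.2.1, h1.2.2.1⟩⟩

theorem pow_a (g : DU K) (n : ℕ) : (g ^ n).a = n * g.a := Bas.pa g n

theorem pow_b (g : DU K) (n : ℕ) : (g ^ n).b = n * g.b := Bas.pb g n

theorem pow_S (g : DU K) : g ^ p ∈ (sZ4 : Subgroup (DU K)) := Bas.pow_S' g

theorem pow_T (h : g ∈ (sT : Subgroup (DU K))) : g ^ p ∈ (sZ3 : Subgroup (DU K)) := ⟨(pow_S g).1, (pow_S g).2, by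
  have k : ∀ n : ℕ, (g ^ n).c = n * g.c := fun n => by
    induction n with
    | zero => simp
    | succ n ih => rw [pow_succ, DU.mul_c, ih, pow_b, mem_sT.1 h]; push_cast; ring
  simp [k]⟩

theorem pow_Q (h : g ∈ (sQ : Subgroup (DU K))) : g ^ p ∈ (sZ : Subgroup (DU K)) := Bas.pow_Q' h

theorem pow_Z3 (h : g ∈ (sZ3 : Subgroup (DU K))) : g ^ p = 1 := Bas.pow_Z3' h

theorem pow_Ra (hp : p ≠ 2) (h : g ∈ (sRa : Subgroup (DU K))) : g ^ p = 1 := by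
  have k : ∀ n : ℕ, (g ^ n).d = n * g.d ∧ 2 * (g ^ n).e = 2 * n * g.e + n * (n - 1) * tr (g.a * g.d) ∧
      (g ^ n).z = n * g.z := fun n => by
    induction n with
    | zero => simp
    | succ n ih =>
      obtain ⟨h1, h2⟩ := pow_mem h n
      obtain ⟨i1, i2, i3⟩ := ih
      refine ⟨?_, ?_, ?_⟩
      · rw [pow_succ, DU.mul_d, i1, h1, h2]; push_cast; simp; ring
      · rw [pow_succ, DU.mul_e, i1, h1, h2]
        simp only [tr, map_mul, map_natCast, mul_zero, map_zero] at i2 ⊢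
        push_cast
        linear_combination i2
      · rw [pow_succ, DU.mul_z, i3, h1, h2, h.1, h.2]; push_cast; simp; ring
  obtain ⟨i1, i2, i3⟩ := k p
  refine DU.ext (pow_S g).1 (pow_S g).2 (pow_mem h p).2 (by simpa using i1) ?_ (by simpa using i3)
  simpa [two_ne (K := K) hp] using i2

theorem pow_XA (t : K) : XA t ^ p = 1 := by
  have k : ∀ n : ℕ, XA t ^ n = XA (n * t) := fun n => by
    induction n with
    | zero => ext <;> simp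
    | succ n ih => rw [pow_succ, ih]; ext <;> simp; ring
  rw [k]; ext <;> simp

theorem pow_XC (t : K) : XC t ^ p = 1 := by
  have k : ∀ n : ℕ, XC t ^ n = XC (n * t) := fun n => by
    induction n with
    | zero => ext <;> simp
    | succ n ih => rw [pow_succ, ih]; ext <;> simp; ring
  rw [k]; ext <;> simp

/-- an element with `a b ≠ 0` has no `p`-th power in `Z₃` if `p = 2` -/
theorem reg_odd (ha : g.a ≠ 0) (hb : g.b ≠ 0) (h : (g ^ p).c = 0) : p ≠ 2 := by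
  rintro rfl
  have h2 : (2 : K) = 0 := CharP.cast_eq_zero K 2
  rw [pow_two, DU.mul_c] at h
  exact mul_ne_zero hb ha (by linear_combination h - g.c * h2)

theorem L0 (hv : v ∈ (sZ4 : Subgroup (DU K))) (hp : v ^ p = 1) (hc : v.c ≠ 0) (h : g * v = v * g) : g.a = 0 := by
  have e1 := congrArg DU.d h
  have e2 := congrArg DU.e h
  simp only [DU.mul_d, DU.mul_e, hv.1, hv.2, zero_cr, sh_zero, zero_mul, mul_zero, tr_zero, nr_zero] at e1 e2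
  obtain ⟨t, ht, h2⟩ := cr_eq_zero hc (c := g.a) (by rw [Bas.cr_comm]; linear_combination -e1)
  by_contra ha
  have t0 : (t : K) ≠ 0 := fun k => ha (by rw [ht, k, zero_mul])
  have h2' : (2 : K) = 0 := (mul_eq_zero.1 h2).resolve_right t0
  obtain rfl := eq_two (p := p) h2'
  have e3 := congrArg DU.z hp
  simp only [pow_two, DU.mul_z, hv.1, hv.2, zero_cr, sh_zero, zero_mul, mul_zero, tr_zero, nr_zero, DU.one_z,
    add_zero] at e3
  refine mul_ne_zero (pow_ne_zero 2 t0) (mt nr_eq_zero.1 hc) ?_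
  rw [ht] at e2
  simp only [tr, nr, sh, map_mul, σ_Fx, cube] at e2 e3 ⊢
  linear_combination -e2 - t * e3 + (t * v.z - t ^ 2 * (v.c * σ v.c * σ (σ v.c))) * h2'

theorem L0' (hv : v ∈ (sRa : Subgroup (DU K))) (hp : v ^ p = 1) (ha : v.a ≠ 0) (hg : g ∈ (sT : Subgroup (DU K)))
    (h : g * v = v * g) : g.c = 0 := by
  have e1 := congrArg DU.d h
  have e2 := congrArg DU.z h
  simp only [DU.mul_d, DU.mul_z, hv.1, hv.2, mem_sT.1 hg, cr_zero, sh_zero, zero_mul, mul_zero, tr_zero,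
    add_zero] at e1 e2
  obtain ⟨t, ht, h2⟩ := cr_eq_zero ha (c := g.c) (by linear_combination e1)
  by_contra hc
  have t0 : (t : K) ≠ 0 := fun k => hc (by rw [ht, k, zero_mul])
  have h2' : (2 : K) = 0 := (mul_eq_zero.1 h2).resolve_right t0
  obtain rfl := eq_two (p := p) h2'
  have e3 := congrArg DU.e hp
  simp only [pow_two, DU.mul_e, hv.1, hv.2, zero_mul, mul_zero, tr_zero, DU.one_e, add_zero] at e3
  refine mul_ne_zero (pow_ne_zero 2 t0) (mt nr_eq_zero.1 ha) ?_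
  rw [ht] at e2
  simp only [tr, nr, sh, map_mul, σ_Fx, cube] at e2 e3 ⊢
  linear_combination e2 + t * e3 - (t * v.e + t ^ 2 * (v.a * σ v.a * σ (σ v.a))) * h2'

theorem comm_Z (z : DU K) (hz : z ∈ (sZ : Subgroup (DU K))) (g : DU K) : g * z = z * g := by
  obtain ⟨h1, h2, h3, h4, h5⟩ := hz
  ext <;> simp [h1, h2, h3, h4, h5, add_comm]

theorem comm_YT (y : DU K) (hy : y ∈ (sY : Subgroup (DU K))) (hg : g ∈ (sT : Subgroup (DU K))) : g * y = y * g := by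
  obtain ⟨h1, h2, h3, h4⟩ := hy
  ext <;> simp [h1, h2, h3, h4, mem_sT.1 hg, add_comm]

/-- `g` commutes with `w ∈ Z₃` -/
theorem comm_Z3_iff {w : DU K} (hw : w ∈ (sZ3 : Subgroup (DU K))) :
    g * w = w * g ↔ tr (g.a * w.d) = 0 ∧ g.b * w.e = tr (w.d * g.c) := by
  obtain ⟨h1, h2, h3⟩ := hw
  constructor
  · intro h
    have e1 := congrArg DU.e h
    have e2 := congrArg DU.z h
    simp only [DU.mul_e, DU.mul_z, h1, h2, h3, cr_zero, sh_zero, zero_mul, mul_zero, tr_zero, nr_zero,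
      add_zero] at e1 e2
    exact ⟨by linear_combination -e1, by linear_combination e2 + g.b * e1⟩
  · rintro ⟨e1, e2⟩
    ext <;> simp [h1, h2, h3, e1, ← e2] <;> ring

theorem c_S (g h : DU K) : ⁅g, h⁆ ∈ (sZ4 : Subgroup (DU K)) := ⟨DU.comm_a g h, DU.comm_b g h⟩

theorem c_Z4 (g : DU K) (h : v ∈ (sZ4 : Subgroup (DU K))) : ⁅g, v⁆ ∈ (sZ3 : Subgroup (DU K)) :=
  ⟨DU.comm_a g v, DU.comm_b g v, by simp [h.1, h.2]⟩

theorem c_Z3 (g : DU K) (h : v ∈ (sZ3 : Subgroup (DU K))) : ⁅g, v⁆ ∈ (sY : Subgroup (DU K)) :=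
  ⟨DU.comm_a g v, DU.comm_b g v, by simp [h.1, h.2.1], by simp [h.1, h.2.1, h.2.2]⟩

theorem c_Y (g : DU K) (h : v ∈ (sY : Subgroup (DU K))) : ⁅g, v⁆ ∈ (sZ : Subgroup (DU K)) :=
  have k := c_Z3 g (v := v) ⟨h.1, h.2.1, h.2.2.1⟩
  ⟨k.1, k.2.1, k.2.2.1, k.2.2.2, by simp [(comm_Z3 ⟨h.1, h.2.1, h.2.2.1⟩ g).1, h.2.2.2]⟩

theorem c_Q (hg : g ∈ (sQ : Subgroup (DU K))) (h : v ∈ (sQ : Subgroup (DU K))) :
    ⁅g, v⁆ ∈ (sZ : Subgroup (DU K)) :=
  ⟨DU.comm_a g v, DU.comm_b g v, by simp [mem_sQ.1 hg, mem_sQ.1 h], by simp [mem_sQ.1 hg, mem_sQ.1 h],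
    (comm_Q hg h).1⟩

theorem c_T (hg : g ∈ (sT : Subgroup (DU K))) (h : v ∈ (sT : Subgroup (DU K))) :
    ⁅g, v⁆ ∈ (sZ3 : Subgroup (DU K)) :=
  ⟨DU.comm_a g v, DU.comm_b g v, by simp [mem_sT.1 hg, mem_sT.1 h]⟩

theorem cz_Q (h : ∀ e ∈ (sQ : Subgroup (DU K)), x * e = e * x) : x ∈ (sZ : Subgroup (DU K)) := by
  have ha : x.a = 0 := by simpa using congrArg DU.c (h (XB 1) rfl)
  have k : ∀ e : DU K, e.a = 0 → x.b * e.e - x.e * e.b - tr (x.c * e.d) + tr (x.d * e.c) = 0 := fun e he => by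
    rw [← (comm_Q ha he).2, commutatorElement_eq_one_iff_mul_comm.2 (h e he)]; rfl
  exact ⟨ha, by simpa using k (XE 1) rfl, tr_nondeg fun t => by simpa using k (XD t) rfl,
    tr_nondeg fun t => by simpa using k (XC t) rfl, by simpa using k (XB 1) rfl⟩

theorem cz_T (h : ∀ e ∈ (sT : Subgroup (DU K)), x * e = e * x) : x ∈ (sY : Subgroup (DU K)) := by
  have hb : x.b = 0 := by simpa using congrArg DU.c (h (XA 1) rfl)
  have k := fun t => (comm_Z3_iff (g := x) (w := XD t) ⟨rfl, rfl, rfl⟩).1 (h _ rfl)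
  have ha : x.a = 0 := tr_nondeg fun t => (k t).1
  have hc : x.c = 0 := tr_nondeg fun t => by simpa [mul_comm, eq_comm] using (k t).2
  exact ⟨ha, hb, hc, tr_nondeg fun t => by
    simpa [mul_comm] using ((comm_Z3_iff ⟨ha, hb, hc⟩).1 (h (XA t) rfl).symm).1⟩

variable [Finite K]

theorem chS (h : Au ⊤ f) : (∀ a ∈ (sZ : Subgroup (DU K)), f a ∈ (sZ : Subgroup (DU K))) ∧
    (∀ a ∈ (sY : Subgroup (DU K)), f a ∈ (sY : Subgroup (DU K))) ∧
    (∀ a ∈ (sZ3 : Subgroup (DU K)), f a ∈ (sZ3 : Subgroup (DU K))) ∧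
    (∀ a ∈ (sZ4 : Subgroup (DU K)), f a ∈ (sZ4 : Subgroup (DU K))) ∧
    (∀ a ∈ (sQ : Subgroup (DU K)), f a ∈ (sQ : Subgroup (DU K))) ∧
    ∀ a ∈ (sT : Subgroup (DU K)), f a ∈ (sT : Subgroup (DU K)) := by
  have m4 : ∀ a : DU K, (∀ b : DU K, ⁅a, b⁆.c = 0) → a ∈ (sZ4 : Subgroup (DU K)) := fun a k =>
    ⟨by simpa using k (XB 1), by simpa using k (XA 1)⟩
  have m3 : ∀ a : DU K, (∀ b : DU K, ⁅a, b⁆ ∈ (sY : Subgroup (DU K))) → a ∈ (sZ3 : Subgroup (DU K)) := fun a k =>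
    have h4 := m4 a fun b => (k b).2.2.1
    ⟨h4.1, h4.2, Bas.cr_all fun t => by simpa [h4.1, h4.2] using (k (XA t)).2.2.2⟩
  have hZ : ∀ a ∈ (sZ : Subgroup (DU K)), f a ∈ (sZ : Subgroup (DU K)) :=
    h.cz le_rfl le_rfl h.mem h.mem (Bas.bot h) fun a =>
      ⟨fun ha => ⟨trivial, fun b _ => comm_bot'.2 (comm_Z a ha b).symm⟩,
        fun ha => cz_Q fun e _ => comm_bot'.1 (ha.2 e trivial)⟩
  have hY : ∀ a ∈ (sY : Subgroup (DU K)), f a ∈ (sY : Subgroup (DU K)) :=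
    h.cz le_rfl le_rfl h.mem h.mem (fun a ha _ => hZ a ha) fun a =>
      ⟨fun ha => ⟨trivial, fun b _ => Bas.sw (c_Y b ha)⟩, fun ha =>
        have h3 := m3 a fun b => have k := ha.2 b trivial; ⟨k.1, k.2.1, k.2.2.1, k.2.2.2.1⟩
        ⟨h3.1, h3.2.1, h3.2.2, tr_nondeg fun t => by
          simpa [(comm_Z3 h3 _).1, mul_comm] using (Bas.sw (ha.2 (XA t) trivial)).2.2.2.2⟩⟩
  have h3 : ∀ a ∈ (sZ3 : Subgroup (DU K)), f a ∈ (sZ3 : Subgroup (DU K)) :=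
    h.cz le_rfl le_rfl h.mem h.mem (fun a ha _ => hY a ha) fun a =>
      ⟨fun ha => ⟨trivial, fun b _ => Bas.sw (c_Z3 b ha)⟩, fun ha => m3 a fun b => ha.2 b trivial⟩
  have h4 : ∀ a ∈ (sZ4 : Subgroup (DU K)), f a ∈ (sZ4 : Subgroup (DU K)) :=
    h.cz le_rfl le_rfl h.mem h.mem (fun a ha _ => h3 a ha) fun a =>
      ⟨fun ha => ⟨trivial, fun b _ => Bas.sw (c_Z4 b ha)⟩, fun ha => m4 a fun b => (ha.2 b trivial).2.2⟩
  refine ⟨hZ, hY, h3, h4, h.cz le_rfl le_top h.mem h4 (fun a ha _ => hZ a ha) fun a =>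
    ⟨fun ha => ⟨trivial, fun b hb => c_Q ha hb.1⟩, fun ha => tr_nondeg fun t => ?_⟩,
    h.cz le_rfl le_top h.mem hY (Bas.bot h) fun a =>
      ⟨fun ha => ⟨trivial, fun b hb => comm_bot'.2 (comm_YT b hb ha)⟩, fun ha => ?_⟩⟩
  · simpa [(comm_Z3 (w := XD t) ⟨rfl, rfl, rfl⟩ a).1] using (ha.2 (XD t) ⟨rfl, rfl⟩).2.2.2.2
  · simpa using ((comm_Z3_iff (w := XE 1) ⟨rfl, rfl, rfl⟩).1 (comm_bot'.1 (ha.2 (XE 1) ⟨rfl, rfl, rfl, rfl⟩))).2

theorem chQ (h : Au sQ f) : ∀ a ∈ (sZ : Subgroup (DU K)), f a ∈ (sZ : Subgroup (DU K)) :=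
  h.cz le_rfl le_rfl h.mem h.mem (Bas.bot h) fun a =>
    ⟨fun ha => ⟨ha.1, fun b _ => comm_bot'.2 (comm_Z a ha b).symm⟩,
      fun ha => cz_Q fun e he => comm_bot'.1 (ha.2 e he)⟩

theorem chT (h : Au sT f) : (∀ a ∈ (sY : Subgroup (DU K)), f a ∈ (sY : Subgroup (DU K))) ∧
    ∀ a ∈ (sZ3 : Subgroup (DU K)), f a ∈ (sZ3 : Subgroup (DU K)) := by
  have hY : ∀ a ∈ (sY : Subgroup (DU K)), f a ∈ (sY : Subgroup (DU K)) :=
    h.cz le_rfl le_rfl h.mem h.mem (Bas.bot h) fun a =>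
      ⟨fun ha => ⟨ha.2.1, fun b hb => comm_bot'.2 (comm_YT a ha hb).symm⟩,
        fun ha => cz_T fun e he => comm_bot'.1 (ha.2 e he)⟩
  refine ⟨hY, h.cz le_rfl le_rfl h.mem h.mem (fun a ha _ => hY a ha) fun a =>
    ⟨fun ha => ⟨ha.2.1, fun b _ => Bas.sw (c_Z3 b ha)⟩, fun ha => ⟨Bas.cr_all fun t => ?_, ha.1, Bas.cr_all fun t => ?_⟩⟩⟩
  · simpa [Bas.cr_comm a.a] using (ha.2 (XC t) rfl).2.2.2
  · simpa [mem_sT.1 ha.1] using (ha.2 (XA t) rfl).2.2.2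

/-- the image of `Z` under an automorphism of `T` is a line of `Y` -/
theorem t2 (h : Au sT f) : ∃ s t : Fx K, (s ≠ 0 ∨ t ≠ 0) ∧ ∀ z ∈ (sZ : Subgroup (DU K)),
    ∃ r : Fx K, f z = XE (r * s) * XZ (r * t) := by
  have h3 := (chT h).2
  have hg : (f (XC 1)).b = 0 := h.mem _ rfl
  have k : ∀ z ∈ (sZ : Subgroup (DU K)), ∃ w ∈ (sZ3 : Subgroup (DU K)), f z = ⁅f (XC 1), w⁆ := fun z hz => by
    obtain ⟨d, hd⟩ := tr_surj (one_ne_zero (α := K)) (-⟨z.z, z.hz⟩)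
    have hw : XD d ∈ (sZ3 : Subgroup (DU K)) := ⟨rfl, rfl, rfl⟩
    refine ⟨_, h3 _ hw, ?_⟩
    rw [← h.map_comm (a := XC 1) rfl hw.2.1]
    congr 1
    have c := c_Z3 (XC 1) hw
    refine DU.ext (hz.1.trans c.1.symm) (hz.2.1.trans c.2.1.symm) (hz.2.2.1.trans c.2.2.1.symm)
      (hz.2.2.2.1.trans c.2.2.2.symm) ?_ ?_
    · simp [(comm_Z3 hw _).1, hz.2.2.2.2]
    · rw [one_mul] at hd
      simp [(comm_Z3 hw _).2, hd]
  by_cases ha : (f (XC 1)).a = 0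
  · refine ⟨0, 1, .inr one_ne_zero, fun z hz => ?_⟩
    obtain ⟨w, hw, e⟩ := k z hz
    obtain ⟨c1, c2, c3, c4⟩ := c_Z3 (f (XC 1)) hw
    refine ⟨-trF (w.d * (f (XC 1)).c), e.trans (DU.ext (by simp) ?_ ?_ ?_ ?_ ?_)⟩
    · simp
    · rw [c3]; simp
    · rw [c4]; simp
    · simp [(comm_Z3 hw _).1, ha]
    · simp [(comm_Z3 hw _).2, hg]
  by_cases hc : ∃ t : Fx K, (f (XC 1)).c = t * (f (XC 1)).a
  · obtain ⟨t, ht⟩ := hc
    refine ⟨1, t, .inl one_ne_zero, fun z hz => ?_⟩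
    obtain ⟨w, hw, e⟩ := k z hz
    obtain ⟨c1, c2, c3, c4⟩ := c_Z3 (f (XC 1)) hw
    refine ⟨-trF ((f (XC 1)).a * w.d), e.trans (DU.ext (by simp) ?_ ?_ ?_ ?_ ?_)⟩
    · simp
    · rw [c3]; simp
    · rw [c4]; simp
    · simp [(comm_Z3 hw _).1]
    · simp [(comm_Z3 hw _).2, hg, ht, tr]; ring
  exfalso
  obtain ⟨d₁, h1, h2⟩ : ∃ d, tr ((f (XC 1)).a * d) = 0 ∧ tr ((f (XC 1)).c * d) ≠ 0 := by
    by_contra! k'
    exact hc (perp1 ha k')
  have hy := (chT h).1 (XE 1) ⟨rfl, rfl, rfl, rfl⟩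
  obtain ⟨d₂, h4⟩ := tr_surj ha (-⟨_, (f (XE 1)).he⟩)
  obtain ⟨d, h5, h6⟩ : ∃ d, tr ((f (XC 1)).a * d) = -(f (XE 1)).e ∧ tr (d * (f (XC 1)).c) = -(f (XE 1)).z := by
    let l : Fx K := (-⟨_, (f (XE 1)).hz⟩ - trF ((f (XC 1)).c * d₂)) / trF ((f (XC 1)).c * d₁)
    refine ⟨d₂ + l * d₁, ?_, ?_⟩
    · rw [mul_add, tr_add, mul_left_comm, tr_smul, h1, h4]; simp
    · rw [mul_comm, mul_add, tr_add, mul_left_comm, tr_smul]
      simp only [l, Subfield.coe_div, AddSubgroupClass.coe_sub, Subfield.coe_neg, trF_coe]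
      field_simp
      ring
  have hw : XD d ∈ (sZ3 : Subgroup (DU K)) := ⟨rfl, rfl, rfl⟩
  obtain ⟨w, hw', e⟩ := (h.res (B := sZ3) (fun _ k => k.2.1) h3).sur _ hw
  obtain ⟨c1, c2, c3, c4⟩ := c_Z3 (f (XC 1)) hw
  have e' : XE 1 = ⁅XC (1 : K), w⁆ := h.inj _ rfl _ (DU.comm_b _ _) (by
    rw [h.map_comm (a := XC 1) rfl hw'.2.1, e]
    refine DU.ext (hy.1.trans c1.symm) (hy.2.1.trans c2.symm) (hy.2.2.1.trans c3.symm) (hy.2.2.2.trans c4.symm) ?_ ?_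
    · simp [(comm_Z3 hw _).1, h5]
    · simp [(comm_Z3 hw _).2, h6])
  simpa [(comm_Z3 hw' _).1] using congrArg DU.e e'

variable {G : Type*} [Group G] [Finite G] {u : DU K →* G} {E : Subgroup (DU K)} {L : Subgroup G}

theorem Z_le (h : Pr p u E L) : sZ ≤ E := fun z hz => h.cen z fun e _ => (comm_Z z hz e).symm

theorem Z_le_Om (h : Pr p u E L) : sZ ≤ Om p E ⊥ := fun z hz =>
  mem_Om.2 ⟨Z_le h hz, pow_Z3 ⟨hz.1, hz.2.1, hz.2.2.1⟩, fun e _ => comm_bot'.2 (comm_Z z hz e)⟩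

end Cfsg.Agent.TDF
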