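import Cfsg.Agent.TDF.Defs2
import Cfsg.Agent.TDF.Bas
import Cfsg.Agent.TDF.Fld2

/-! Project TDF: rigidity on `Q`.  See `notes/TDF.md`. -/

set_option autoImplicit false
set_option linter.unusedSectionVars false

namespace Cfsg.Agent.TDF

open FK RFS
open scoped commutatorElement

variable {K : Type*} [Field K] [Tri K] [Finite K] {p : ℕ} [Fact p.Prime] [CharP K p] {G : Type*} [Group G]
  [Finite G] {u : DU K →* G} {E : Subgroup (DU K)} {L : Subgroup G}

namespace RigQ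

theorem pr_eq {x y : DU K} : pr x = pr y ↔ x.b = y.b ∧ x.c = y.c ∧ x.d = y.d ∧ x.e = y.e := by
  simp [pr, Subtype.ext_iff]

theorem conj_z {s x : DU K} (hs : s.a = 0) (hx : x.a = 0) :
    (s * x * s⁻¹).z = x.z + (s.b * x.e - s.e * x.b - tr (s.c * x.d) + tr (s.d * x.c)) := by
  simp [hs, hx, tr, nr, sh, cr]; ring

theorem tor_Q (k : Tor K) : ∀ a ∈ (sQ : Subgroup (DU K)), tor k a ∈ (sQ : Subgroup (DU K)) := fun a ha => by
  simp [mem_sQ.1 ha]

/-- the defect of `n` -/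
def dl (n : DU K → DU K) (a : DU K) : K := (n a).z - (nu a).z

variable {n : DU K → DU K}

theorem co (e : ∀ a ∈ (sQ : Subgroup (DU K)), pr (n a) = nuV (pr a)) {a : DU K} (ha : a ∈ (sQ : Subgroup (DU K))) :
    (n a).b = -a.e ∧ (n a).c = a.d ∧ (n a).d = -a.c ∧ (n a).e = a.b :=
  pr_eq.1 ((e a ha).trans (pr_nu a).symm)

theorem dl_mul (hn : Au sQ n) (e : ∀ a ∈ (sQ : Subgroup (DU K)), pr (n a) = nuV (pr a)) {a b : DU K}
    (ha : a ∈ (sQ : Subgroup (DU K))) (hb : b ∈ (sQ : Subgroup (DU K))) : dl n (a * b) = dl n a + dl n b := by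
  obtain ⟨a1, a2, a3, a4⟩ := co e ha
  obtain ⟨b1, b2, b3, b4⟩ := co e hb
  rw [dl, hn.mul a ha b hb, au_nu.mul a ha b hb, DU.mul_z, DU.mul_z, dl, dl, mem_sQ.1 (hn.mem b hb), a1, a2, a3, a4,
    b1, b2]
  simp only [nu_a, nu_b, nu_c, nu_d, nu_e]
  ring

theorem dl_one (hn : Au sQ n) : dl n 1 = 0 := by rw [dl, hn.one, au_nu.one, sub_self]

theorem dl_inv (hn : Au sQ n) (e : ∀ a ∈ (sQ : Subgroup (DU K)), pr (n a) = nuV (pr a)) {a : DU K}
    (ha : a ∈ (sQ : Subgroup (DU K))) : dl n a⁻¹ = -dl n a := by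
  have := dl_mul hn e (inv_mem ha) ha
  rw [inv_mul_cancel, dl_one hn] at this
  linear_combination -this

theorem dl_Z (hn : Au sQ n) (e : ∀ a ∈ (sQ : Subgroup (DU K)), pr (n a) = nuV (pr a)) (t : Fx K) :
    dl n (XZ t) = 0 := by
  have h1 : (XB t : DU K) ∈ (sQ : Subgroup (DU K)) := rfl
  have h2 : (XE 1 : DU K) ∈ (sQ : Subgroup (DU K)) := rfl
  have : (XZ t : DU K) = XB t * XE 1 * (XB t)⁻¹ * (XE 1)⁻¹ := by ext <;> simp
  rw [this, dl_mul hn e (mul_mem (mul_mem h1 h2) (inv_mem h1)) (inv_mem h2), dl_mul hn e (mul_mem h1 h2) (inv_mem h1),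
    dl_mul hn e h1 h2, dl_inv hn e h1, dl_inv hn e h2]
  ring

end RigQ

open RigQ

theorem std_V (c : Ctx p u) (st : Std u) {f : DU K → DU K} (hf : Fa u sQ f) {k : Tor K}
    (e : ∀ a ∈ (sQ : Subgroup (DU K)), pr (f a) = torV k (pr a)) :
    In u ⊤ (tor k) ∧ ∃ s ∈ (sQ : Subgroup (DU K)), ∀ a ∈ (sQ : Subgroup (DU K)), f a = s * tor k a * s⁻¹ := by
  obtain ⟨F, hF, eF⟩ := c.extQ f hf fun y hy => by
    obtain ⟨h1, h2, h3, -⟩ := pr_eq.1 ((e y hy.1).trans (pr_tor k y).symm)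
    exact ⟨hf.au.mem y hy.1, by simp [h1, hy.2.1], by simp [h2, hy.2.2.1], by simp [h3, hy.2.2.2]⟩
  obtain ⟨s, k', φ, h⟩ := st F hF
  have w : ∀ a ∈ (sQ : Subgroup (DU K)), pr (s * tor k' (fld φ a) * s⁻¹) = pr (tor k a) := fun a ha => by
    rw [← h, eF a ha, e a ha, pr_tor]
  obtain ⟨b1, b2, -, -⟩ := pr_eq.1 (w (XB 1) rfl)
  simp at b1 b2
  have sa : s.a = 0 := (mul_eq_zero.1 (show k'.μ * s.a = 0 by linear_combination -b2)).resolve_left k'.μ_ne
  have c2 : ∀ t, k'.α * φ t = k.α * t := fun t => by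
    have := (pr_eq.1 (w (XC t) rfl)).2.1
    simp [sa, b1] at this
    exact mul_left_cancel₀ k.μ_ne (by linear_combination this)
  have c1 : k'.α = k.α := by simpa using c2 1
  obtain rfl : k' = k := Tor.ext' c1 b1
  have c3 : ∀ a, fld φ a = a := fun a => by
    ext <;> exact mul_left_cancel₀ k'.α_ne (c2 _)
  refine ⟨((In.conj u ⊤ s⁻¹).comp hF.ind fun _ _ => trivial).congr fun a _ => ?_, s, sa, fun a ha => ?_⟩
  · rw [h, c3]; group
  · rw [← eF a ha, h, c3]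

theorem rigQ (c : Ctx p u) (st : Std u) (ht : ∀ k, In u ⊤ (tor k)) (h : Has (LQ u) nuV) : In u sQ nu := by
  obtain ⟨g, ⟨n, hn, e0⟩, eg⟩ := h
  have e : ∀ a ∈ (sQ : Subgroup (DU K)), pr (n a) = nuV (pr a) := fun a ha => (e0 a ha).trans (eg _)
  obtain ⟨n', hn', i1, i2⟩ := hn.exists_inv
  have key : ∀ k : Tor K, ∃ s : DU K, ∀ a ∈ (sQ : Subgroup (DU K)), dl n (tor k a) = k.μ ^ 2 * nr k.α * dl n a +
      (s.b * (k.μ * a.b) + s.e * (k.μ * nr k.α * a.e) + tr (s.c * (k.μ * k.α * a.c)) +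
        tr (s.d * (k.μ * sh k.α * a.d))) := fun k => by
    have ft : Fa u sQ (tor k) := Fa.res ⟨Au.equiv (torA k), ht k⟩ le_top (tor_Q k)
    obtain ⟨-, s, hs, es⟩ := std_V c st (hn.comp (ft.comp hn')) (k := tN k) fun a ha => by
      have h1 := hn'.au.mem a ha
      rw [e _ (tor_Q k _ h1), ← pr_nu, nu_tor, pr_tor, pr_nu, ← e _ h1, i2 a ha]
    refine ⟨s, fun a ha => ?_⟩
    have h1 := es (n a) (hn.au.mem a ha)
    rw [i1 a ha] at h1
    obtain ⟨t1, t2, t3, t4⟩ := co e (tor_Q k a ha)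
    obtain ⟨r1, r2, r3, r4⟩ := pr_eq.1 (show pr (n (tor k a)) = pr (tor (tN k) (n a)) by
      rw [h1, pr_conj _ (tor_Q _ _ (hn.au.mem a ha)), mem_sQ.1 hs, neg_zero, xv_zero])
    have m : (tN k).μ ^ 2 * nr (tN k).α = k.μ ^ 2 * nr k.α := by
      have := k.α_ne
      have h1 : σ k.α ≠ 0 := by simpa using this
      have h2 : σ (σ k.α) ≠ 0 := by simpa using this
      simp only [tN_α, tN_μ, nr, map_inv₀]
      field_simp
    rw [dl, dl, h1, conj_z hs (tor_Q _ _ (hn.au.mem a ha)), ← r1, ← r2, ← r3, ← r4, t1, t2, t3, t4, nu_tor, tor_z,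
      tor_z, m, tor_b, tor_c, tor_d, tor_e, mul_neg s.c, tr_neg]
    ring
  obtain ⟨α, a1, a2, a3⟩ := exists_norm_one (K := K)
  obtain ⟨s, hs⟩ := key (α, 1)
  have hc : ∀ t, dl n (XC t) = tr (s.c * α / (α - 1) * t) := fun t => by
    have h0 : (α : K) - 1 ≠ 0 := sub_ne_zero.2 a2
    have h1 := hs (XC (t / (α - 1))) rfl
    have h2 : tor ((α, 1) : Tor K) (XC (t / (α - 1))) = XC t * XC (t / (α - 1)) := by
      ext <;> simp
      field_simp; ring
    rw [h2, dl_mul hn.au e rfl rfl] at h1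
    simp [a1] at h1
    rw [show s.c * α / (α - 1) * t = s.c * (α * (t / (α - 1))) by ring]
    linear_combination h1
  have hd : ∀ t, dl n (XD t) = tr (s.d * sh (α : K) / (sh (α : K) - 1) * t) := fun t => by
    have h0 : sh (α : K) - 1 ≠ 0 := sub_ne_zero.2 a3
    have h1 := hs (XD (t / (sh (α : K) - 1))) rfl
    have h2 : tor ((α, 1) : Tor K) (XD (t / (sh (α : K) - 1))) = XD t * XD (t / (sh (α : K) - 1)) := by
      ext <;> simp
      field_simp; ring
    rw [h2, dl_mul hn.au e rfl rfl] at h1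
    simp [a1] at h1
    rw [show s.d * sh (α : K) / (sh (α : K) - 1) * t = s.d * (sh (α : K) * (t / (sh (α : K) - 1))) by ring]
    linear_combination h1
  have hbe : ∀ t : Fx K, dl n (XB t) = t * dl n (XB 1) ∧ dl n (XE t) = t * dl n (XE 1) := fun t => by
    by_cases big : Big K
    · obtain ⟨r, r0, r1⟩ := big
      obtain ⟨x, hx⟩ := nr_surj r
      have r0' : nr x ≠ 0 := fun k => r0 (Subtype.ext (hx ▸ k))
      have r1' : nr x - 1 ≠ 0 := fun k => r1 (Subtype.ext (hx ▸ sub_eq_zero.1 k))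
      have x0 : x ≠ 0 := fun k => r0' (nr_eq_zero.2 k)
      obtain ⟨s₁, h1⟩ := key (Units.mk0 x x0, 1)
      obtain ⟨s₂, h2⟩ := key (Units.mk0 x x0, (nru (Units.mk0 x x0))⁻¹)
      have k1 : ∀ t : Fx K, dl n (XB t) = nr x * dl n (XB t) + s₁.b * t := fun t => by
        have := h1 (XB t) rfl
        rw [show tor ((Units.mk0 x x0, 1) : Tor K) (XB t) = XB t by ext <;> simp] at this
        simpa using this
      have k2 : ∀ t : Fx K, nr x * dl n (XE t) = dl n (XE t) + nr x * s₂.e * t := fun t => by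
        have := h2 (XE t) rfl
        rw [show tor ((Units.mk0 x x0, (nru (Units.mk0 x x0))⁻¹) : Tor K) (XE t) = XE t by
          ext <;> simp [r0']] at this
        simp [r0'] at this
        field_simp at this
        linear_combination this
      have j1 := k1 1
      have j2 := k2 1
      rw [OneMemClass.coe_one] at j1 j2
      exact ⟨mul_left_cancel₀ r1' (by linear_combination t * j1 - k1 t),
        mul_left_cancel₀ r1' (by linear_combination k2 t - t * j2)⟩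
    · obtain rfl | rfl := not_big big t
      · rw [show (XB 0 : DU K) = 1 by ext <;> simp, show (XE 0 : DU K) = 1 by ext <;> simp, dl_one hn.au]
        simp
      · simp
  let s₀ : DU K := ⟨0, -dl n (XB 1), -(s.c * α / (α - 1)), -(s.d * sh (α : K) / (sh (α : K) - 1)), -dl n (XE 1), 0,
    by simp [dl], by simp [dl], by simp⟩
  refine ((In.conj u ⊤ s₀).comp hn.ind fun _ _ => trivial).congr fun a ha => ?_
  obtain ⟨t1, t2, t3, t4⟩ := co e ha
  obtain ⟨r1, r2, r3, r4⟩ := pr_eq.1 (show pr (s₀ * n a * s₀⁻¹) = pr (nu a) by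
    rw [pr_conj _ (hn.au.mem a ha), show s₀.a = 0 from rfl, neg_zero, xv_zero, e a ha, pr_nu])
  refine DU.ext (by simp [s₀, mem_sQ.1 (hn.au.mem a ha)]) r1 r2 r3 r4 ?_
  have da : dl n a = a.b * dl n (XB 1) + tr (s.c * α / (α - 1) * a.c) +
      tr (s.d * sh (α : K) / (sh (α : K) - 1) * a.d) + a.e * dl n (XE 1) := by
    have : a = XB ⟨a.b, a.hb⟩ * XC a.c * XD a.d * XE ⟨a.e, a.he⟩ * XZ ⟨a.z, a.hz⟩ := by
      ext <;> simp [mem_sQ.1 ha]
    conv_lhs => rw [this]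
    rw [dl_mul hn.au e (by simp) rfl, dl_mul hn.au e (by simp) rfl, dl_mul hn.au e (by simp) rfl,
      dl_mul hn.au e rfl rfl, dl_Z hn.au e, hc, hd, (hbe _).1, (hbe _).2, add_zero]
  rw [conj_z rfl (hn.au.mem a ha), t1, t2, t3, t4]
  simp only [s₀, mul_neg, neg_mul, neg_neg, tr_neg]
  rw [dl] at da
  linear_combination da

end Cfsg.Agent.TDF
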