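import Cfsg.Agent.TDF.Defs2
import Cfsg.Agent.TDF.Bas
import Cfsg.Agent.TDF.Fld2
import Cfsg.Agent.FK.Uniq

/-! Project TDF: rigidity on `T`.  See `notes/TDF.md`. -/

set_option autoImplicit false
set_option linter.unusedSectionVars false

namespace Cfsg.Agent.TDF

open FK RFS
open scoped commutatorElement

variable {K : Type*} [Field K] [Tri K] [Finite K] {p : ℕ} [Fact p.Prime] [CharP K p] {G : Type*} [Group G]
  [Finite G] {u : DU K →* G} {E : Subgroup (DU K)} {L : Subgroup G}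

namespace RigT

theorem add_inv {M : Type*} [Group M] {l : K → M} (h1 : ∀ x y, l (x + y) = l x * l y) {β : K} (hβ : β ≠ 1)
    (h2 : ∀ x, l (β * x) = l x) (x : K) : l x = 1 := by
  have h3 := sub_ne_zero.2 hβ
  have := h1 x (x / (β - 1))
  rw [show x + x / (β - 1) = β * (x / (β - 1)) by field_simp; ring, h2] at this
  exact right_eq_mul.1 this

theorem au_tor (k : Tor K) : Au (sT : Subgroup (DU K)) (tor k) :=
  (Au.equiv (torA k)).res le_top fun b hb => by simpa using Or.inr hb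

theorem mu_comm (α : Kˣ) (g : DU K) : mu (tor (α, 1) g) = tor (α, 1) (mu g) := by
  rw [mu_tor, show tM ((α, 1) : Tor K) = (α, 1) from Tor.ext' (by simp) (by simp)]

/-- the hypotheses of the rigidity statement -/
structure Hy (ω : DU K → DU K) : Prop where
  au : Au sT ω
  y : ∀ y ∈ (sY : Subgroup (DU K)), ω y = y
  d : ∀ w ∈ (sZ3 : Subgroup (DU K)), (ω w).d = w.d
  c : ∀ α : Kˣ, ∀ a ∈ (sT : Subgroup (DU K)), ω (tor (α, 1) a) = tor (α, 1) (ω a)

variable {ω : DU K → DU K} {X : K → DU K}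

theorem Hy.ac (h : Hy ω) {g : DU K} (hg : g ∈ (sT : Subgroup (DU K))) : (ω g).a = g.a ∧ (ω g).c = g.c := by
  have k : ∀ d, tr ((ω g).a * d) = tr (g.a * d) ∧ tr (d * (ω g).c) = tr (d * g.c) := fun d => by
    have h1 : XD d ∈ (sZ3 : Subgroup (DU K)) := by simp
    have h2 := h.au.map_comm hg (b := XD d) (by simp)
    rw [h.y _ (c_Z3 g h1)] at h2
    have h3 := comm_Z3 ((chT h.au).2 _ h1) (ω g)
    have h4 := comm_Z3 h1 g
    rw [← h2, h4.1, h4.2, h.d _ h1, mem_sT.1 hg, mem_sT.1 (h.au.mem g hg)] at h3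
    simpa [eq_comm] using h3
  refine ⟨sub_eq_zero.1 (tr_nondeg fun d => ?_), sub_eq_zero.1 (tr_nondeg fun d => ?_)⟩
  · rw [sub_mul, tr_sub, (k d).1, sub_self]
  · rw [sub_mul, tr_sub, mul_comm, (k d).2, mul_comm, sub_self]

theorem Hy.dz (h : Hy ω) (h1 : ∀ t, X t ∈ (sT : Subgroup (DU K))) (h2 : ∀ s t, X (s + t) = X s * X t)
    (h3 : ∀ (α : Kˣ) t, tor (α, 1) (X t) = X (α * t)) (h4 : ∀ s t, cr (X t).a (X s).c = 0) (t : K) :
    (ω (X t)).d = 0 := by
  have a1 : ∀ s t, (ω (X (s + t))).d = (ω (X s)).d + (ω (X t)).d := fun s t => by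
    rw [h2, h.au.mul _ (h1 s) _ (h1 t), DU.mul_d, (h.ac (h1 t)).1, (h.ac (h1 s)).2, h4,
      mem_sT.1 (h.au.mem _ (h1 s))]
    ring
  have a2 : ∀ t, (ω (X t)).d = sh t * (ω (X 1)).d := fun t => by
    rcases eq_or_ne t 0 with rfl | ht
    · have := a1 0 0
      rw [add_zero, left_eq_add] at this
      simp [this]
    · have := congrArg DU.d (h.c (Units.mk0 t ht) _ (h1 1))
      rw [h3] at this
      simpa using this
  have a3 := ded (x := 0) (y := (ω (X 1)).d) (z := (ω (X 1)).d) fun v => by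
    have := a1 1 v
    rw [a2 (1 + v), a2 v] at this
    simp only [sh, map_add, map_one] at this
    linear_combination this
  rw [a2, a3.2.1, mul_zero]

theorem Hy.fam (h : Hy ω) (h1 : ∀ t, X t ∈ (sT : Subgroup (DU K))) (h2 : ∀ s t, X (s + t) = X s * X t) {α : Kˣ}
    (hα : nr (α : K) = 1) {β : K} (hβ : β ≠ 1) (h3 : ∀ t, tor (α, 1) (X t) = X (β * t))
    (h4 : ∀ t, (ω (X t)).d = (X t).d) (t : K) : ω (X t) = X t := by
  have a1 : ∀ t, ω (X t) * (X t)⁻¹ ∈ (sY : Subgroup (DU K)) := fun t => by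
    simp [(h.ac (h1 t)).1, (h.ac (h1 t)).2, h4, mem_sT.1 (h1 t), mem_sT.1 (h.au.mem _ (h1 t)), cr]
    ring
  refine mul_inv_eq_one.1 (add_inv (l := fun t => ω (X t) * (X t)⁻¹) (fun s t => ?_) hβ (fun t => ?_) t)
  · rw [h2, h.au.mul _ (h1 s) _ (h1 t), mul_assoc (ω (X s)) (X s)⁻¹, comm_YT _ (a1 t) (inv_mem (h1 s))]
    group
  · rw [← h3, h.c α _ (h1 t), ← (au_tor _).map_inv (h1 t), ← tor_mul]
    obtain ⟨e1, e2, e3, e4⟩ := a1 t
    generalize ω (X t) * (X t)⁻¹ = y at e1 e2 e3 e4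
    ext <;> simp [e1, e2, e3, e4, hα]

theorem Hy.eq (h : Hy ω) {g : DU K} (hg : g ∈ (sT : Subgroup (DU K))) : ω g = g := by
  obtain ⟨α, h1, h2, h3⟩ := exists_norm_one (K := K)
  have mA : ∀ t : K, XA t ∈ (sT : Subgroup (DU K)) := fun _ => rfl
  have mC : ∀ t : K, XC t ∈ (sT : Subgroup (DU K)) := fun _ => rfl
  have mD : ∀ t : K, XD t ∈ (sT : Subgroup (DU K)) := fun _ => rfl
  have aA : ∀ s t : K, XA (s + t) = XA s * XA t := fun s t => by ext <;> simp
  have aC : ∀ s t : K, XC (s + t) = XC s * XC t := fun s t => by ext <;> simp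
  have tA : ∀ (α : Kˣ) (t : K), tor (α, 1) (XA t) = XA (α * t) := fun s t => by ext <;> simp
  have tC : ∀ (α : Kˣ) (t : K), tor (α, 1) (XC t) = XC (α * t) := fun s t => by ext <;> simp
  have eA := h.fam mA aA h1 h2 (tA α) (h.dz mA aA tA (by simp))
  have eC := h.fam mC aC h1 h2 (tC α) (h.dz mC aC tC (by simp))
  have eD := h.fam mD (fun s t => by ext <;> simp) h1 h3 (fun t => by ext <;> simp) fun t => h.d _ (by simp)
  have e : g = XA g.a * XC g.c * XD g.d * (XE ⟨g.e, g.he⟩ * XZ ⟨g.z, g.hz⟩) := by ext <;> simp [mem_sT.1 hg]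
  rw [e, h.au.mul _ (mul_mem (mul_mem (mA _) (mC _)) (mD _)) _ (by simp), h.au.mul _ (mul_mem (mA _) (mC _)) _ (mD _),
    h.au.mul _ (mA _) _ (mC _), eA, eC, eD, h.y _ (by simp)]

theorem tw (c : Ctx p u) (st : Std u) (ht : ∀ k, In u ⊤ (tor k)) {μ : DU K → DU K} (s : SwT u μ) (α : Kˣ) :
    ∃ x ∈ (sT : Subgroup (DU K)), ∀ a ∈ (sT : Subgroup (DU K)), μ (tor (α, 1) a) = x * tor (α, 1) (μ a) * x⁻¹ := by
  obtain ⟨ν, hν, e1, e2⟩ := s.fa.exists_inv
  have hf := s.fa.comp ((⟨au_tor (α, 1), (ht _).mono le_top⟩ : Fa u sT (tor (α, 1))).comp hν)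
  have fy : ∀ y ∈ (sY : Subgroup (DU K)), μ (tor (α, 1) (ν y)) = tor (α, 1) y := fun y hy => by
    have h1 := (chT hν.au).1 y hy
    rw [s.y _ ((chT (au_tor _)).1 _ h1), mu_comm, ← s.y _ h1, e2 y hy.2.1]
  have fd : ∀ w ∈ (sZ3 : Subgroup (DU K)), (μ (tor (α, 1) (ν w))).d = sh (α : K) * w.d := fun w hw => by
    have h1 := (chT hν.au).2 w hw
    rw [s.d _ ((chT (au_tor _)).2 _ h1), tor_d, ← s.d _ h1, e2 w hw.2.1]
    simp
  obtain ⟨F, hF, e⟩ := c.extT _ hf fun y hy => by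
    obtain ⟨h1, h2, h3, h4, h5⟩ := hy
    rw [fy y ⟨h1, h2, h3, h4⟩]
    simp [h1, h2, h3, h4, h5]
  obtain ⟨x, k, φ, e'⟩ := st F hF
  beta_reduce at e
  have a1 : ∀ d, k.μ * sh k.α * φ d = sh (α : K) * d := fun d => by
    have := fd (XD d) (by simp)
    rw [← e _ (by simp), e'] at this
    simp [cr, sh] at this
    simp only [sh]
    linear_combination this
  have a2 : k.μ * sh k.α = sh (α : K) := by simpa using a1 1
  have a3 : ∀ d, φ d = d := fun d => mul_left_cancel₀ (sh_eq_zero.not.2 α.ne_zero) (by rw [← a1 d, a2])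
  have b1 := fy (XE 1) (by simp)
  have b2 := fy (XZ 1) (by simp)
  rw [← e _ (by simp), e', mul_inv_eq_iff_eq_mul] at b1
  rw [← e _ (by simp), e', mul_inv_eq_iff_eq_mul] at b2
  have b3 : k.μ * nr k.α = nr (α : K) := by
    have := congrArg DU.e b1
    simp at this
    linear_combination this
  have b4 : x.b = 0 := (mul_eq_zero.1 (show nr (α : K) * x.b = 0 by
    have := congrArg DU.z b1
    simp at this
    linear_combination this)).resolve_left (by simp)
  have b5 : k.μ ^ 2 * nr k.α = nr (α : K) := by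
    have := congrArg DU.z b2
    simp at this
    linear_combination this
  have c1 : k.μ = 1 := mul_right_cancel₀ (nr_eq_zero.not.2 α.ne_zero) (by linear_combination b5 - k.μ * b3)
  rw [c1, one_mul] at a2 b3
  have c2 : k = (α, 1) := Tor.ext' (mul_right_cancel₀ (sh_eq_zero.not.2 α.ne_zero) (by
    rw [← mul_sh, ← mul_sh, a2] at b3; exact b3)) c1
  refine ⟨x, b4, fun a ha => ?_⟩
  have := e _ (s.fa.au.mem a ha)
  rw [e1 a ha, e', c2, show fld φ (μ a) = μ a by ext <;> simp [a3]] at this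
  exact this.symm

end RigT

open RigT in
theorem rigT (c : Ctx p u) (st : Std u) (ht : ∀ k, In u ⊤ (tor k)) {μ : DU K → DU K} (s : SwT u μ) :
    In u sT mu := by
  obtain ⟨α, -, h2, h3⟩ := exists_norm_one (K := K)
  obtain ⟨b, hb, e⟩ := rigid (Z := sY) (t := fun k : Kˣ => tor ((k, 1) : Tor K)) (k₀ := α) s.fa.au
    (fun _ => au_tor _) (fun z => ⟨fun hz => ⟨hz.2.1, fun a ha => (comm_YT z hz ha).symm⟩, fun hz => cz_T hz.2⟩)
    (fun k k' a _ => by rw [tor_tor, tor_tor, mul_comm]) (fun b hb h => by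
      obtain ⟨h4, -, h5, h6⟩ := h
      rw [mem_sT] at hb
      have a1 : b.a = 0 := (mul_eq_zero.1 (show ((α : K) - 1) * b.a = 0 by
        simp at h4; linear_combination h4)).resolve_left (sub_ne_zero.2 h2)
      have a2 : b.c = 0 := (mul_eq_zero.1 (show ((α : K) - 1) * b.c = 0 by
        simp [hb] at h5; linear_combination h5)).resolve_left (sub_ne_zero.2 h2)
      exact ⟨a1, hb, a2, (mul_eq_zero.1 (show (sh (α : K) - 1) * b.d = 0 by
        simp [hb, a1, a2] at h6; linear_combination h6)).resolve_left (sub_ne_zero.2 h3)⟩) (tw c st ht s)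
  obtain ⟨m, hm, e1, e2⟩ := (au_mu (K := K)).exists_inv
  have hf := (Fa.conj u b fun a ha => mul_mem (mul_mem hb ha) (inv_mem hb)).comp s.fa
  have H : Hy fun a => m (b * μ a * b⁻¹) := by
    refine ⟨hm.comp hf.au, fun y hy => ?_, fun w hw => ?_, fun k a ha => ?_⟩
    · rw [comm_YT _ ((chT s.fa.au).1 y hy) hb, mul_inv_cancel_right, s.y y hy, e1 y hy.2.1]
    · have h4 := (chT hf.au).2 w hw
      have h5 := congrArg DU.d (e2 _ h4.2.1)
      obtain ⟨a1, a2, a3⟩ := (chT s.fa.au).2 w hw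
      rw [mu_d, ((chT hm).2 _ h4).1, zero_cr, sub_zero] at h5
      rw [h5, ← s.d w hw]
      simp [a1, a2, a3, mem_sT.1 hb, cr]
      ring
    · have h4 := hf.au.mem a ha
      rw [e k a ha, ← e1 _ ((au_tor (k, 1)).mem _ (hm.mem _ h4)), mu_comm, e2 _ h4]
  exact hf.ind.congr fun a ha => by rw [← e2 _ (hf.au.mem a ha), H.eq ha]

end Cfsg.Agent.TDF
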