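import Cfsg.Agent.TDF.Defs2
import Cfsg.Agent.TDF.Bas
import Cfsg.Agent.TDF.Fld2
import Cfsg.Agent.FK.Uniq
import Cfsg.Agent.H62.NoFlag

/-! Project TDF: standard form for `q = 2`.  See `notes/TDF.md`. -/

set_option autoImplicit false
set_option linter.unusedSectionVars false

namespace Cfsg.Agent.TDF

open FK RFS
open scoped commutatorElement

namespace StdB

section grp
variable {Γ : Type*} [Group Γ] [Finite Γ]

theorem syl_conj {q : ℕ} [Fact q.Prime] {P T : Subgroup Γ} (hP : IsPGroup q P) (hT : Nat.card T = q)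
    (h : ¬ q ^ 2 ∣ Nat.card Γ) : ∃ θ : Γ, ∀ x ∈ P, θ * x * θ⁻¹ ∈ T := by
  have hi : ¬ q ∣ T.index := fun e => h (by
    rw [← T.card_mul_index, hT, sq]; exact Nat.mul_dvd_mul_left _ e)
  have hT' : IsPGroup q T := IsPGroup.of_card (n := 1) (by rw [hT, pow_one])
  obtain ⟨Q, hQ⟩ := hP.exists_le_sylow
  obtain ⟨θ, e⟩ := MulAction.exists_smul_eq Γ Q (hT'.toSylow hi)
  refine ⟨θ, fun x hx => ?_⟩
  have : MulAut.conj θ • x ∈ ((θ • Q : Sylow q Γ) : Subgroup Γ) := by
    rw [Sylow.coe_subgroup_smul]; exact Subgroup.smul_mem_pointwise_smul _ _ _ (hQ hx)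
  rw [e] at this
  exact this

theorem odd_cases {n : ℕ} (h : Nat.card Γ ∣ 2 ^ n * 21) {X T C : Subgroup Γ} (hX : ¬ 2 ∣ Nat.card X)
    (hT : Nat.card T = 7) (hC : Nat.card C = 3) :
    ∃ θ : Γ, (∀ x ∈ X, ∀ t ∈ T, (θ * x * θ⁻¹) * t * (θ * x * θ⁻¹)⁻¹ ∈ T) ∨ ∀ x ∈ X, θ * x * θ⁻¹ ∈ C := by
  haveI : Fact (Nat.Prime 7) := ⟨by norm_num⟩
  haveI : Fact (Nat.Prime 3) := ⟨by norm_num⟩
  have h21 : Nat.card X ∣ 21 :=
    (Nat.Coprime.pow_right n ((Nat.coprime_comm.1 (Nat.prime_two.coprime_iff_not_dvd.2 hX)))).dvd_of_dvd_mul_left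
      (X.card_subgroup_dvd_card.trans h)
  have n7 : ¬ 7 ^ 2 ∣ Nat.card Γ := fun e => by
    have := (Nat.Coprime.pow_right n (by norm_num : Nat.Coprime (7 ^ 2) 2)).dvd_of_dvd_mul_left (e.trans h)
    omega
  have n3 : ¬ 3 ^ 2 ∣ Nat.card Γ := fun e => by
    have := (Nat.Coprime.pow_right n (by norm_num : Nat.Coprime (3 ^ 2) 2)).dvd_of_dvd_mul_left (e.trans h)
    omega
  by_cases h7 : 7 ∣ Nat.card X
  · obtain ⟨P, hP⟩ := Sylow.exists_subgroup_card_pow_prime 7 (n := 1) (G := X) (by rwa [pow_one])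
    rw [pow_one] at hP
    have hm := P.card_mul_index
    have hN : P.Normal := by
      have : Nat.card X = 7 ∨ Nat.card X = 21 := by
        have := Nat.le_of_dvd (by norm_num) h21
        obtain ⟨m, hm⟩ := h7
        have : m ≤ 3 := by omega
        rw [hm] at h21 ⊢
        interval_cases m <;> simp_all
      rcases this with e | e
      · exact Subgroup.normal_of_index_eq_one (by rw [hP, e] at hm; omega)
      · refine Subgroup.normal_of_index_eq_minFac_card ?_
        rw [hP, e] at hm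
        rw [e]
        have : Nat.minFac 21 = 3 := by norm_num
        omega
    have hc : Nat.card (P.map X.subtype) = 7 := by
      rw [Subgroup.card_map_of_injective X.subtype_injective, hP]
    obtain ⟨θ, hθ⟩ := syl_conj (P := P.map X.subtype) (IsPGroup.of_card (n := 1) (by rw [hc, pow_one])) hT n7
    have e : (P.map X.subtype).map (MulAut.conj θ).toMonoidHom = T := by
      refine Subgroup.eq_of_le_of_card_ge ?_ ?_
      · rintro _ ⟨x, hx, rfl⟩
        exact hθ x hx
      · rw [Subgroup.card_map_of_injective (MulAut.conj θ).injective, hc, hT]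
    refine ⟨θ, .inl fun x hx t ht => ?_⟩
    rw [← e] at ht ⊢
    obtain ⟨_, ⟨y, hy, rfl⟩, rfl⟩ := ht
    refine ⟨_, ⟨_, hN.conj_mem y hy ⟨x, hx⟩, rfl⟩, ?_⟩
    simp [mul_assoc]
  · have : Nat.card X ∣ 3 ^ 1 := ((Nat.Prime.coprime_iff_not_dvd (by norm_num)).2 h7).symm.dvd_of_dvd_mul_right
      (show Nat.card X ∣ 3 ^ 1 * 7 from h21)
    obtain ⟨k, -, hk⟩ := (Nat.dvd_prime_pow (by norm_num)).1 this
    obtain ⟨θ, hθ⟩ := syl_conj (IsPGroup.of_card hk) hC n3
    exact ⟨θ, .inr hθ⟩

end grp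

variable {K : Type*} [Field K] [Tri K] [Finite K]

theorem Z4_le : (sZ4 : Subgroup (DU K)) ≤ commutator (DU K) := by
  have cm : ∀ g h : DU K, ⁅g, h⁆ ∈ commutator (DU K) := fun g h =>
    Subgroup.commutator_mem_commutator (Subgroup.mem_top g) (Subgroup.mem_top h)
  have st : ∀ {w g : DU K}, g ∈ commutator (DU K) → w * g⁻¹ ∈ commutator (DU K) → w ∈ commutator (DU K) :=
    fun {w g} hg h => by simpa using mul_mem h hg
  have hZ : (sZ : Subgroup (DU K)) ≤ commutator (DU K) := fun w hw => by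
    obtain ⟨h1, h2, h3, h4, h5⟩ := hw
    have : w = ⁅XB (1 : Fx K), XE ⟨w.z, w.hz⟩⁆ := by ext <;> simp [commutatorElement_def, *]
    rw [this]
    exact cm _ _
  have hY : (sY : Subgroup (DU K)) ≤ commutator (DU K) := fun w hw => by
    obtain ⟨h1, h2, h3, h4⟩ := hw
    obtain ⟨d, hd⟩ := tr_surj (one_ne_zero (α := K)) ⟨w.e, w.he⟩
    have := (comm_Z3 (w := XD d) (by simp) (XA 1)).1
    refine st (cm (XD d) (XA 1)) (hZ ?_)
    simp at hd this
    simp [*]
  have h3 : (sZ3 : Subgroup (DU K)) ≤ commutator (DU K) := fun w hw => by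
    obtain ⟨h1, h2, h3⟩ := hw
    obtain ⟨a, c, a', c', e⟩ := cr_span w.d
    refine st (mul_mem (cm (XC c) (XA a)) (cm (XC c') (XA a'))) (hY ?_)
    simp [*]
  intro w hw
  obtain ⟨h1, h2⟩ := hw
  refine st (cm (XB 1) (XA w.c)) (h3 ?_)
  simp [*]

/-- the action on the first coordinate -/
def fa (α : MulAut (DU K)) (t : K) : K := (α (XA t)).a

theorem fa_eq (α : MulAut (DU K)) (g : DU K) : (α g).a = fa α g.a := by
  have h := (chS (Au.equiv α)).2.2.2.2.1 ((XA g.a)⁻¹ * g) (by simp)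
  rw [map_mul, map_inv, mem_sQ, DU.mul_a, DU.inv_a] at h
  rw [fa]
  linear_combination h

theorem fa_add (α : MulAut (DU K)) (s t : K) : fa α (s + t) = fa α s + fa α t := by
  have : XA (s + t) = XA s * XA t := by ext <;> simp
  rw [fa, this, map_mul]
  rfl

theorem fa_zero (α : MulAut (DU K)) : fa α 0 = 0 := by
  have := fa_add α 0 0
  rw [add_zero] at this
  linear_combination -this

theorem fa_mul (α β : MulAut (DU K)) (t : K) : fa (α * β) t = fa α (fa β t) := fa_eq α (β (XA t))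

theorem fa_inj (α : MulAut (DU K)) : Function.Injective (fa α) := fun s t e => by
  have := congrArg (fa α⁻¹) e
  rwa [← fa_mul, ← fa_mul, inv_mul_cancel] at this

theorem b_cases (hq : ¬ Big K) (g : DU K) : g.b = 0 ∨ g.b = 1 :=
  (not_big hq ⟨g.b, g.hb⟩).imp (congrArg Subtype.val) (congrArg Subtype.val)

theorem b_eq (hq : ¬ Big K) (α : MulAut (DU K)) (g : DU K) : (α g).b = g.b := by
  have k : ∀ (α : MulAut (DU K)) (g : DU K), g.b = 0 → (α g).b = 0 := fun α g => (chS (Au.equiv α)).2.2.2.2.2 g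
  rcases b_cases hq g with h | h
  · rw [h, k α g h]
  · rcases b_cases hq (α g) with h' | h'
    · have := k α⁻¹ _ h'
      rw [MulAut.inv_apply_self] at this
      rw [h', this]
    · rw [h, h']

/-- the action on `S / Q` -/
def rho (hq : ¬ Big K) : MulAut (DU K) →* Module.End (Fx K) K where
  toFun α :=
    { toFun := fa α
      map_add' := fa_add α
      map_smul' := fun t x => by
        rcases not_big hq t with rfl | rfl <;> simp [fa_zero] }
  map_one' := LinearMap.ext fun _ => rfl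
  map_mul' α β := LinearMap.ext (fa_mul α β)

theorem card_F (hq : ¬ Big K) : Nat.card (Fx K) = 2 := by
  have h := card_K (K := K)
  rw [card_eight hq] at h
  exact (Nat.pow_left_injective (n := 3) (by norm_num) (h.symm.trans (by norm_num : 8 = 2 ^ 3)))

theorem card_GL (hq : ¬ Big K) : Nat.card (Module.End (Fx K) K)ˣ = 168 := by
  classical
  haveI := Fintype.ofFinite (Fx K)
  have b := Module.finBasisOfFinrankEq (Fx K) K finrank_K
  have e := Nat.card_congr (Matrix.GeneralLinearGroup.toLin' b).toEquiv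
  have h2 : Fintype.card (Fx K) = 2 := by rw [← Nat.card_eq_fintype_card, card_F hq]
  rw [Matrix.card_GL_field, h2] at e
  refine e.symm.trans ?_
  decide

end StdB

open StdB

variable {K : Type*} [Field K] [Tri K] [Finite K] {p : ℕ} [Fact p.Prime] [CharP K p]

theorem A1_normal : (A1 : Subgroup (MulAut (DU K))).Normal := ⟨fun x hx α g => by
  obtain ⟨g, rfl⟩ := α.surjective g
  have h := (chS (Au.equiv α)).2.2.2.1 (g⁻¹ * x g) (by simp [hx g])
  rw [map_mul, map_inv, mem_sZ4, DU.mul_a, DU.inv_a, DU.mul_b, DU.inv_b] at h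
  simp only [MulAut.mul_apply, MulAut.inv_apply_self]
  exact ⟨by linear_combination h.1, by linear_combination h.2⟩⟩

theorem A1_pg : IsPGroup p (A1 : Subgroup (MulAut (DU K))) := fun x => by
  obtain ⟨v, hv⟩ := H62.pElt_of_frattini (pg_DU (p := p)) (α := x.1) fun g =>
    H3.commutator_le_frattini (pg_DU (p := p)) (Z4_le (by simp [x.2 g]))
  exact ⟨v, Subtype.ext hv⟩

theorem std_two (hq : ¬ Big K) (X : Subgroup (MulAut (DU K))) (hX : ¬ 2 ∣ Nat.card X) :
    ∃ θ, ∀ x ∈ X, θ * x * θ⁻¹ ∈ (St : Subgroup (MulAut (DU K))) := by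
  haveI : Finite (MulAut (DU K)) := Uniq.finA
  haveI : CharP K 2 := CharTwo.of_one_ne_zero_of_two_eq_zero one_ne_zero (two_zero hq)
  haveI := A1_normal (K := K)
  have hA := A1_pg (K := K) (p := 2)
  -- the order of the automorphism group
  obtain ⟨n, hn⟩ : ∃ n, Nat.card (MulAut (DU K)) ∣ 2 ^ n * 21 := by
    have hk : (rho hq).toHomUnits.ker ≤ A1 := fun α hα g => by
      have : rho hq α = 1 := congrArg Units.val (MonoidHom.mem_ker.1 hα)
      exact ⟨(fa_eq α g).trans (LinearMap.congr_fun this g.a), b_eq hq α g⟩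
    obtain ⟨m, hm⟩ := IsPGroup.iff_card.1 (hA.to_le hk)
    have h1 := (rho hq).toHomUnits.range.card_subgroup_dvd_card
    rw [card_GL hq, ← Subgroup.index_ker] at h1
    refine ⟨m + 3, ?_⟩
    rw [← (rho hq).toHomUnits.ker.card_mul_index, hm, pow_add, mul_assoc]
    exact Nat.mul_dvd_mul_left _ h1
  -- the torus
  have hT : Nat.card ((torA (K := K)).comp (MonoidHom.inl Kˣ (Fx K)ˣ)).range = 7 := by
    rw [← Nat.card_congr (MonoidHom.ofInjective ?_).toEquiv, Nat.card_units, card_eight hq]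
    refine (injective_iff_map_eq_one _).2 fun α h => Units.ext ?_
    simpa using congrArg (fun x : MulAut (DU K) => (x (XA 1)).a) h
  -- the field automorphism
  obtain ⟨φ, hφ⟩ := exists_σA (K := K)
  have hC : Nat.card (Subgroup.zpowers (fldA φ)) = 3 := by
    haveI : Fact (Nat.Prime 3) := ⟨by norm_num⟩
    rw [Nat.card_zpowers]
    refine orderOf_eq_prime ?_ fun h => ?_
    · rw [← map_pow, show φ ^ 3 = 1 from RingEquiv.ext fun x => by simp [pow_succ, hφ], map_one]
    · obtain ⟨r, hr⟩ := Tri.ne (K := K)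
      exact hr (by simpa [hφ] using congrArg (fun x : MulAut (DU K) => (x (XA r)).a) h)
  obtain ⟨θ, h | h⟩ := odd_cases hn hX hT hC
  swap
  · exact ⟨θ, fun x hx => Subgroup.zpowers_le.2 (mem_St.2 ⟨1, φ, by simp⟩) (h x hx)⟩
  have key : ∀ x : MulAut (DU K), (∀ t ∈ ((torA (K := K)).comp (MonoidHom.inl Kˣ (Fx K)ˣ)).range,
      x * t * x⁻¹ ∈ ((torA (K := K)).comp (MonoidHom.inl Kˣ (Fx K)ˣ)).range) → ∃ a ∈ A1, a * x ∈ St := fun x hx => by
    have h1 : fa x 1 ≠ 0 := fun e => one_ne_zero (fa_inj x (e.trans (fa_zero x).symm))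
    have hm : ∀ s t, fa x (s * t) * fa x 1 = fa x s * fa x t := fun s t => by
      by_cases hs : s = 0
      · simp [hs, fa_zero]
      obtain ⟨β, e⟩ := hx _ ⟨Units.mk0 s hs, rfl⟩
      have k : ∀ t, (β : K) * fa x t = fa x (s * t) := fun t => by
        have := congrArg (fun y : MulAut (DU K) => (y (x (XA t))).a) e
        simp only [MulAut.mul_apply, MulAut.inv_apply_self] at this
        rw [fa_eq x] at this
        simpa [fa] using this
      rw [← k t, ← mul_one s, ← k 1]
      ring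
    let ψ : K →+* K :=
      { toFun := fun t => fa x t / fa x 1
        map_one' := div_self h1
        map_mul' := fun s t => by field_simp; exact hm s t
        map_zero' := by rw [fa_zero, zero_div]
        map_add' := fun s t => by rw [fa_add, add_div] }
    let ψ' : RingAut K := RingEquiv.ofBijective ψ (Finite.injective_iff_bijective.1 ψ.injective)
    refine ⟨torA (Units.mk0 _ h1, 1) * fldA ψ' * x⁻¹, fun g => ?_, by
      rw [inv_mul_cancel_right]; exact ⟨_, _, rfl⟩⟩
    obtain ⟨g, rfl⟩ := x.surjective g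
    simp only [MulAut.mul_apply, MulAut.inv_apply_self]
    rw [fa_eq x, b_eq hq x]
    refine ⟨?_, ?_⟩
    · change fa x 1 * (fa x g.a / fa x 1) = _
      field_simp
    · rcases b_cases hq g with e | e <;> simp [e]
  obtain ⟨θ', -, h'⟩ := conj_into (p := 2) (X := X.map (MulAut.conj θ).toMonoidHom) hA A1_inf_St
    (by rwa [Subgroup.card_map_of_injective (MulAut.conj θ).injective]) (by
      rintro _ ⟨x, hx, rfl⟩
      exact key _ (h x hx))
  refine ⟨θ' * θ, fun x hx => ?_⟩
  have := h' _ ⟨x, hx, rfl⟩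
  simpa [mul_assoc] using this

end Cfsg.Agent.TDF
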