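import Cfsg.Agent.TDF.Defs2
import Cfsg.Agent.TDF.Bas
import Cfsg.Agent.TDF.Fld2
import Cfsg.Agent.FK.TI

/-! Project TDF: from the fusion system to the linear group.  See `notes/TDF.md`. -/

set_option autoImplicit false
set_option linter.unusedSectionVars false

namespace Cfsg.Agent.TDF

open FK RFS
open scoped commutatorElement

variable {K : Type*} [Field K] [Tri K] [Finite K] {p : ℕ} [Fact p.Prime] [CharP K p] {G : Type*} [Group G]
  [Finite G] {u : DU K →* G} {E : Subgroup (DU K)} {L : Subgroup G}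

namespace ToLin

theorem mkL (f : VV K → VV K) (h1 : ∀ v w, f (v + w) = f v + f w)
    (h2 : ∀ (t : Fx K) v, f (t • v) = t • f v) (h3 : Function.Surjective f) : ∃ g : GV K, ∀ v, g v = f v :=
  ⟨LinearEquiv.ofBijective (⟨⟨f, h1⟩, h2⟩ : VV K →ₗ[Fx K] VV K) (Finite.surjective_iff_bijective.1 h3),
    fun _ => rfl⟩

theorem smul_K (t : Fx K) (x : K) : t • x = (t : K) * x := rfl

theorem xv_add (t : K) (v w : VV K) : xv t (v + w) = xv t v + xv t w := by
  ext <;> simp [xv, tr, sh, cr, nr] <;> ring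

theorem xv_smul (t : K) (s : Fx K) (v : VV K) : xv t (s • v) = s • xv t v := by
  ext <;> simp [xv, smul_K, tr, sh, cr, nr] <;> ring

theorem om_smul (s : Fx K) (v w : VV K) : om (s • v) w = s * om v w := by
  simp [om, smul_K, tr]; ring

theorem om_be : om (b0 : VV K) e0 = 1 := by simp [om, b0, e0]

theorem om_inj {v v' : VV K} (h : ∀ w, om v w = om v' w) : v = v' := by
  have h1 := h e0
  have h2 := h b0
  have h3 : v.2.1 - v'.2.1 = 0 := tr_nondeg fun d => by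
    have := h (0, 0, d, 0)
    simp only [om, ZeroMemClass.coe_zero, mul_zero, tr_zero] at this
    rw [sub_mul, tr_sub]; linear_combination -this
  have h4 : v.2.2.1 - v'.2.2.1 = 0 := tr_nondeg fun d => by
    have := h (0, d, 0, 0)
    simp only [om, ZeroMemClass.coe_zero, mul_zero, tr_zero] at this
    rw [sub_mul, tr_sub]; linear_combination this
  simp [om, e0, b0] at h1 h2
  exact Prod.ext h1 (Prod.ext (sub_eq_zero.1 h3) (Prod.ext (sub_eq_zero.1 h4) h2))

/-- the form with values in the fixed field -/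
def omF (v w : VV K) : Fx K := ⟨om v w, by rw [mem_Fx]; simp [om]⟩

theorem sec_mem (v : VV K) : sec v ∈ (sQ : Subgroup (DU K)) := rfl

theorem pr_mul {a b : DU K} (hb : b ∈ (sQ : Subgroup (DU K))) : pr (a * b) = pr a + pr b := by
  rw [mem_sQ] at hb
  ext <;> simp [pr, hb]

theorem comm_eq {a b : DU K} (ha : a ∈ (sQ : Subgroup (DU K))) (hb : b ∈ (sQ : Subgroup (DU K))) :
    ⁅a, b⁆ = XZ (omF (pr a) (pr b)) := by
  obtain ⟨h1, h2, h3, h4, h5⟩ := c_Q ha hb
  exact DU.ext h1 h2 h3 h4 h5 (comm_Q ha hb).2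

theorem Z_le_Q : (sZ : Subgroup (DU K)) ≤ sQ := fun _ h => h.1
theorem Y_le_Q : (sY : Subgroup (DU K)) ≤ sQ := fun _ h => h.1

variable {f : DU K → DU K}

theorem pr_f (h : Au sQ f) {a : DU K} (ha : a ∈ (sQ : Subgroup (DU K))) : pr (f a) = pr (f (sec (pr a))) := by
  have hz : (sec (pr a))⁻¹ * a ∈ (sZ : Subgroup (DU K)) := by
    rw [mem_sQ] at ha
    simp [pr, ha]
  obtain ⟨h1, h2, h3, h4, h5⟩ := chQ h _ hz
  conv_lhs => rw [← mul_inv_cancel_left (sec (pr a)) a, h.mul _ (sec_mem _) _ (Z_le_Q hz), pr_mul h1]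
  ext <;> simp [pr] <;> assumption

theorem om_f (h : Au sQ f) (v w : VV K) : om (pr (f (sec v))) (pr (f (sec w))) = (f (XZ (omF v w))).z := by
  have := h.map_comm (sec_mem v) (sec_mem w)
  rw [comm_eq (sec_mem v) (sec_mem w), comm_eq (h.mem _ (sec_mem v)) (h.mem _ (sec_mem w))] at this
  exact (congrArg DU.z this).symm

theorem pr_Y {y : DU K} (hy : y ∈ (sY : Subgroup (DU K))) : pr y = (⟨y.e, y.he⟩ : Fx K) • e0 := by
  obtain ⟨-, h2, h3, h4⟩ := hy
  ext <;> simp [pr, e0, h2, h3, h4]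

theorem mem_Y {y : DU K} (hy : y ∈ (sQ : Subgroup (DU K))) {t : Fx K} (h : pr y = t • e0) :
    y ∈ (sY : Subgroup (DU K)) := by
  simp only [pr, e0, Prod.smul_mk, smul_zero, Prod.mk.injEq] at h
  exact ⟨hy, congrArg Subtype.val h.1, h.2.1, h.2.2.1⟩

theorem Y_of_fy (h : Au sQ f) {g : GV K} (e : ∀ a ∈ (sQ : Subgroup (DU K)), pr (f a) = g (pr a)) (hg : Fy g) :
    ∀ y ∈ (sY : Subgroup (DU K)), f y ∈ (sY : Subgroup (DU K)) := fun y hy => by
  obtain ⟨t, ht⟩ := hg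
  exact mem_Y (h.mem _ (Y_le_Q hy)) (by rw [e y (Y_le_Q hy), pr_Y hy, map_smul, ht, smul_smul])

theorem pr_XE : pr (XE (1 : Fx K)) = e0 := by ext <;> simp [pr, e0]

theorem fy_of_Y {g : GV K} (e : ∀ a ∈ (sQ : Subgroup (DU K)), pr (f a) = g (pr a))
    (h : ∀ y ∈ (sY : Subgroup (DU K)), f y ∈ (sY : Subgroup (DU K))) : Fy g :=
  ⟨_, by rw [← pr_XE, ← e _ (by simp), pr_Y (h _ (by simp)), pr_XE]⟩

theorem frat (c : Ctx p u) (hf : Fa u sQ f) : ∃ l F : DU K → DU K, Fa u sQ l ∧ (∀ b ∈ (sZ : Subgroup (DU K)), l b = b) ∧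
    (∀ y ∈ (sY : Subgroup (DU K)), F y ∈ (sY : Subgroup (DU K))) ∧
      ∀ a ∈ (sQ : Subgroup (DU K)), f a = l (F a) := by
  obtain ⟨l, F, h1, h2, h3, -, h5⟩ := c.two.sat.frat c.two.nQ Z_le_Q (fun s b hb => comm_Z b hb s)
    (fun f hf => chQ hf.au) hf
  exact ⟨l, F, h1, h2, (chS h3.au).2.1, h5⟩

end ToLin

open ToLin

theorem tau (c : Ctx p u) (st : Std u) (e : EssQ u) (hq : ¬ Big K) (α : Kˣ) : In u ⊤ (tor (α, 1)) := by
  classical
  have h2 := two_zero hq
  obtain rfl : p = 2 := eq_two h2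
  obtain ⟨f, hf, hn⟩ := e
  have key : ∀ r : Kˣ, ∃ φ : RingAut K, torA (r, 1) * fldA φ ∈ Gam u := fun r => by
    obtain ⟨F, hF, h⟩ := c.two.trans2 hf hn (x := XA 1) (y := XA r) (by simp) (by simp)
      (by simpa [← two_mul] using h2) (by simp [← two_mul, h2])
    obtain ⟨s, k, φ, e⟩ := st F hF
    rw [e] at h
    have h1 : k.α = r := by simpa [sub_eq_zero, ← sub_eq_add_neg] using h
    obtain rfl : k = (r, 1) := Tor.ext' h1 (by
      rcases not_big hq k.2 with h | h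
      · exact absurd h k.2.ne_zero
      · exact congrArg Subtype.val h)
    refine ⟨φ, ((In.conj u ⊤ s⁻¹).comp hF.ind fun _ _ => trivial).congr fun a _ => ?_⟩
    rw [e]
    simp [mul_assoc]
  choose φ hφ using key
  haveI := Fintype.ofFinite Kˣ
  have h7 : Nat.card Kˣ = 7 := by rw [Nat.card_units, card_eight hq]
  obtain ⟨r, -, r', -, hne, he⟩ := Finset.exists_ne_map_eq_of_card_lt_of_maps_to (s := Finset.univ)
    (t := ({fun x => x, fun x => σ x, fun x => σ (σ x)} : Finset (K → K))) (f := fun r => (φ r : K → K))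
    (Finset.card_le_three.trans_lt (by rw [Finset.card_univ, ← Nat.card_eq_fintype_card, h7]; omega))
    fun r _ => by
      have hg : Gal (φ r) := fun t => by rcases not_big hq t with rfl | rfl <;> simp
      rcases gal_cases hg with h | h | h <;> simp [funext h]
  have he' : φ r = φ r' := DFunLike.coe_injective he
  haveI : Fact (Nat.card Kˣ).Prime := ⟨by rw [h7]; norm_num⟩
  let S : Subgroup Kˣ := (Gam u).comap (torA.comp (MonoidHom.inl _ _))
  have hS : r * r'⁻¹ ∈ S := by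
    have := mul_mem (hφ r) (inv_mem (hφ r'))
    rw [he', mul_inv_rev, mul_assoc, mul_inv_cancel_left, ← map_inv, ← map_mul] at this
    simpa [S] using this
  rcases S.eq_bot_or_eq_top_of_prime_card with h | h
  · rw [h, Subgroup.mem_bot, mul_inv_eq_one] at hS
    exact absurd hS hne
  · exact (h.ge (Subgroup.mem_top α) : α ∈ S)

theorem has_tor {k : Tor K} (h : In u ⊤ (tor k)) : Has (LQ u) (torV k) := by
  obtain ⟨g, hg⟩ := mkL (torV k) (fun v w => by ext <;> simp [torV] <;> ring)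
    (fun t v => by ext <;> simp [torV, smul_K] <;> ring)
    fun v => ⟨torV k⁻¹ v, by rw [torV_torV, mul_inv_cancel, torV_one]⟩
  exact ⟨g, ⟨tor k, ⟨(Au.equiv (torA k)).res le_top fun b hb => by simp_all, h.mono le_top⟩,
    fun a _ => by rw [hg, pr_tor]⟩, hg⟩

/-- an automorphism of `Q` trivial on `Z` is linear on `Q / Z` -/
theorem has_of_cz {l : DU K → DU K} (h : Fa u sQ l) (hz : ∀ z ∈ (sZ : Subgroup (DU K)), l z = z) :
    ∃ g ∈ LQ u, ∀ a ∈ (sQ : Subgroup (DU K)), pr (l a) = g (pr a) := by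
  have ho : ∀ v w, om (pr (l (sec v))) (pr (l (sec w))) = om v w := fun v w => by
    rw [om_f h.au, hz _ (by simp)]; rfl
  have hs : Function.Surjective fun v => pr (l (sec v)) := fun v => by
    obtain ⟨a, ha, e⟩ := h.au.sur _ (sec_mem v)
    exact ⟨pr a, by simp only; rw [← pr_f h.au ha, e, pr_sec]⟩
  obtain ⟨g, hg⟩ := mkL (fun v => pr (l (sec v))) (fun v w => by
      have := pr_f h.au (mul_mem (sec_mem v) (sec_mem w))
      rw [pr_mul (sec_mem w), h.au.mul _ (sec_mem v) _ (sec_mem w), pr_mul (h.au.mem _ (sec_mem w))] at this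
      exact this.symm)
    (fun t v => om_inj fun w => by
      obtain ⟨w, rfl⟩ := hs w
      simp only
      rw [om_smul, ho, ho, om_smul]) hs
  have e : ∀ a ∈ (sQ : Subgroup (DU K)), pr (l a) = g (pr a) := fun a ha => by rw [hg, pr_f h.au ha]
  exact ⟨g, ⟨l, h, e⟩, e⟩

theorem lin (c : Ctx p u) (st : Std u) (e : EssQ u) (h : ∀ l, In u ⊤ (tor (hb l))) : Lin (LQ u) := by
  refine ⟨?_, fun t => ?_, ?_, ?_, fun l => has_tor (h l), ?_, fun hq α => has_tor (tau c st e hq α), ?_⟩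
  · rintro g ⟨f, hf, eg⟩
    have h1 : ∀ v w, om (g v) (g w) = (f (XZ (omF v w))).z := fun v w => by
      rw [← om_f hf.au, eg _ (sec_mem v), eg _ (sec_mem w), pr_sec, pr_sec]
    have h2 : ∀ v w, om (g v) (g w) = omF (g b0) (g e0) * om v w := fun v w => by
      have h3 : omF (omF v w • b0) e0 = omF v w := Subtype.ext (by
        change om _ _ = _
        rw [om_smul, om_be, mul_one])
      rw [h1, ← h3, ← h1, map_smul, om_smul, mul_comm]; rfl
    refine ⟨_, fun h0 => ?_, h2⟩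
    have := h2 (g.symm b0) (g.symm e0)
    rw [h0, g.apply_symm_apply, g.apply_symm_apply, om_be] at this
    simp at this
  · obtain ⟨g, hg⟩ := mkL (xv t) (xv_add t) (xv_smul t) fun v => ⟨xv (-t) v, by simp [xv_xv]⟩
    exact ⟨g, ⟨_, Fa.conj u (XA (-t)) (c.two.nQ _), fun a ha => by rw [hg, pr_conj _ ha]; simp⟩, hg⟩
  · rintro g ⟨f, hf, eg⟩ hg
    obtain ⟨F, hF, eF⟩ := c.extQ f hf (Y_of_fy hf.au eg hg)
    obtain ⟨s, k, φ, e⟩ := st F hF
    have h1 : ∀ v, g v = xv (-s.a) (torV k (pr (fld φ (sec v)))) := fun v => by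
      rw [← pr_tor, ← pr_conj _ (by simp), ← e, eF _ (sec_mem v), eg _ (sec_mem v), pr_sec]
    have h2 : Gal φ := fun t => by
      have := congrArg (fun v : VV K => (v.1 : K)) (g.map_smul t b0)
      simp only [h1] at this
      simp [xv, torV, pr, b0] at this
      exact mul_left_cancel₀ k.μ_ne (this.trans (mul_comm _ _))
    refine ⟨-s.a, k, φ, h2, fun v => ?_⟩
    rw [h1]
    congr 2
    ext <;> simp [pr, galV, h2 v.1, h2 v.2.2.2]
  · rintro g ⟨f, hf, eg⟩ t ht ⟨s, hs⟩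
    obtain ⟨f', hf', e1, e2⟩ := hf.exists_inv
    have hh := hf'.comp ((Fa.conj u (XA (-t)) (c.two.nQ _)).comp hf)
    obtain ⟨F, hF, eF⟩ := c.extQ _ hh fun y hy => by
      have hy' := hf.au.mem _ (Y_le_Q hy)
      have hm := c.two.nQ (XA (-t)) _ hy'
      refine mem_Y (hf'.au.mem _ hm) (t := ⟨y.e, y.he⟩ * s) (g.injective ?_)
      rw [← eg _ (hf'.au.mem _ hm), e2 _ hm, pr_conj _ hy', eg _ (Y_le_Q hy), pr_Y hy, map_smul, map_smul,
        xv_smul, XA_a, neg_neg, hs, smul_smul]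
    have h1 := c.two.ti hf' (x := XA (-t)) (by simpa using ht) hF fun a ha => by
      simp only [eF _ (hf'.au.mem a ha), e2 a ha]
    obtain ⟨F', hF', eF'⟩ := h1.of_inv hf.au.mem e1
    exact fy_of_Y eg fun y hy => eF' y (Y_le_Q hy) ▸ (chS hF'.au).2.1 y hy
  · rintro h2 g ⟨f, hf, eg⟩
    have hX : XE (1 : Fx K) ∈ (sQ : Subgroup (DU K)) := by simp
    have h1 : XE (1 : Fx K) * XE 1 = 1 := by ext <;> simp [← two_mul, h2]
    have h3 := congrArg DU.z ((hf.au.mul _ hX _ hX).symm.trans ((congrArg f h1).trans hf.au.one))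
    have h4 : (f (XE 1)).a = 0 := hf.au.mem _ hX
    rw [← pr_XE, ← eg _ hX]
    simp [h4] at h3
    simp only [ka, pr]
    rw [mul_comm (f (XE 1)).c]
    linear_combination h3 + ((f (XE 1)).b * (f (XE 1)).e - (f (XE 1)).z) * h2
  · obtain ⟨f, hf, hn⟩ := e
    obtain ⟨l, F, h1, h2, h3, h4⟩ := frat c hf
    obtain ⟨g, hg, eg⟩ := has_of_cz h1 h2
    exact ⟨g, hg, fun hy => hn (c.extQ f hf fun y k => by
      rw [h4 y (Y_le_Q k)]; exact Y_of_fy h1.au eg hy _ (h3 y k))⟩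

theorem orb_of (c : Ctx p u) (h : Orb (LQ u)) {f : DU K → DU K} (hf : Fa u sQ f) :
    (∀ y ∈ (sY : Subgroup (DU K)), f y ∈ (sY : Subgroup (DU K))) ∨
      ∃ s : DU K, ∀ y ∈ (sY : Subgroup (DU K)), s * f y * s⁻¹ ∈ (sY0 : Subgroup (DU K)) := by
  obtain ⟨l, F, h1, h2, h3, h4⟩ := frat c hf
  obtain ⟨g, hg, eg⟩ := has_of_cz h1 h2
  rcases h (g e0) ⟨g, hg, 1, one_ne_zero, (one_smul _ _).symm⟩ with hy | ⟨t, s, hs⟩
  · exact .inl fun y k => by rw [h4 y (Y_le_Q k)]; exact Y_of_fy h1.au eg hy _ (h3 y k)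
  · refine .inr ⟨XA (-t), fun y k => ?_⟩
    have hy := hf.au.mem _ (Y_le_Q k)
    have e := pr_conj (XA (-t)) hy
    rw [h4 y (Y_le_Q k), eg _ (Y_le_Q (h3 y k)), pr_Y (h3 y k), map_smul, xv_smul, XA_a, neg_neg, hs,
      ← h4 y (Y_le_Q k)] at e
    simp only [pr, b0, Prod.smul_mk, smul_zero, Prod.mk.injEq] at e
    exact ⟨c.two.nQ _ _ hy, e.2.1, e.2.2.1, congrArg Subtype.val e.2.2.2⟩

end Cfsg.Agent.TDF
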