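import Cfsg.Agent.TDF.Defs2
import Cfsg.Agent.TDF.Bas
import Cfsg.Agent.TDF.Fld2

/-! Project TDF: the torus and the reflection of `T`.  See `notes/TDF.md`. -/

set_option autoImplicit false
set_option linter.unusedSectionVars false

namespace Cfsg.Agent.TDF

open FK RFS
open scoped commutatorElement

variable {K : Type*} [Field K] [Tri K] [Finite K] {p : ℕ} [Fact p.Prime] [CharP K p] {G : Type*} [Group G]
  [Finite G] {u : DU K →* G} {E : Subgroup (DU K)} {L : Subgroup G}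

namespace TorT

/-- the elements of `Y` -/
@[simps] def EY (a b : Fx K) : DU K := ⟨0, 0, 0, 0, a, b, by simp, by simp, by simp⟩

/-- the `e`-coordinate -/
@[simps] def eF (g : DU K) : Fx K := ⟨g.e, g.he⟩
/-- the `z`-coordinate -/
@[simps] def zF (g : DU K) : Fx K := ⟨g.z, g.hz⟩

theorem EY_Y (a b : Fx K) : EY a b ∈ (sY : Subgroup (DU K)) := by simp
theorem EY_T (a b : Fx K) : EY a b ∈ (sT : Subgroup (DU K)) := by simp
theorem EY_Z (b : Fx K) : EY 0 b ∈ (sZ : Subgroup (DU K)) := by simp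
theorem EY_inj {a b a' b' : Fx K} (h : EY a b = EY a' b') : a = a' ∧ b = b' :=
  ⟨Subtype.ext (congrArg DU.e h), Subtype.ext (congrArg DU.z h)⟩
theorem eq_Z {y : DU K} (h : y ∈ (sZ : Subgroup (DU K))) : y = EY 0 (zF y) := by
  simp only [mem_sZ] at h
  ext <;> simp [h]
theorem eq_EY {y : DU K} (h : y ∈ (sY : Subgroup (DU K))) : y = EY (eF y) (zF y) := by
  simp only [mem_sY] at h
  ext <;> simp [h]
theorem XE_XZ (a b : Fx K) : XE a * XZ b = EY a b := by ext <;> simp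
theorem EY_mul (a b a' b' : Fx K) : EY a b * EY a' b' = EY (a + a') (b + b') := by ext <;> simp
theorem conj_EY (t a b : Fx K) : XB t * EY a b * (XB t)⁻¹ = EY a (b + t * a) := by
  ext <;> simp
  ring
@[simp] theorem eF_EY (a b : Fx K) : eF (EY a b) = a := rfl
theorem nm_T (s : DU K) : ∀ a ∈ (sT : Subgroup (DU K)), s * a * s⁻¹ ∈ (sT : Subgroup (DU K)) :=
  fun _ h => Subgroup.Normal.conj_mem inferInstance _ h s
theorem Z3_T {a : DU K} (h : a ∈ (sZ3 : Subgroup (DU K))) : a ∈ (sT : Subgroup (DU K)) := h.2.1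
theorem conj_d (s : DU K) {w : DU K} (h : w ∈ (sZ3 : Subgroup (DU K))) : (s * w * s⁻¹).d = w.d := by
  obtain ⟨h1, h2, h3⟩ := h
  simp [h1, h2, h3, sh, cr]
  ring
theorem conj_e (s : DU K) {w : DU K} (h : w ∈ (sY : Subgroup (DU K))) : (s * w * s⁻¹).e = w.e := by
  obtain ⟨h1, h2, h3, h4⟩ := h
  simp [h1, h2, h3, h4, sh, cr, tr, nr]
  ring

/-- automorphisms of `T` that are trivial on `Z₃ / Y` -/
structure Pd (u : DU K →* G) (f : DU K → DU K) : Prop where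
  fa : FK.Fa u sT f
  d : ∀ w ∈ (sZ3 : Subgroup (DU K)), (f w).d = w.d

theorem Pd.comp {f g : DU K → DU K} (h : Pd u f) (h' : Pd u g) : Pd u fun a => f (g a) :=
  ⟨h.fa.comp h'.fa, fun w hw => (h.d _ ((chT h'.fa.au).2 w hw)).trans (h'.d w hw)⟩

theorem Pd.conj (u : DU K →* G) (s : DU K) : Pd u fun a => s * a * s⁻¹ :=
  ⟨FK.Fa.conj u s (nm_T s), fun _ hw => conj_d s hw⟩

/-- the lower triangular transvections occur -/
def Low (u : DU K →* G) : Prop := ∀ s : Fx K, ∃ f, Pd u f ∧ ∀ a b, f (EY a b) = EY (a + s * b) b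

theorem low (c : Ctx p u) (e : EssT u) : Low u := by
  obtain ⟨v, hv, hz⟩ := e
  obtain ⟨a0, b0, -, h0⟩ := t2 hv.au
  have hb : a0 ≠ 0 := fun e => hz (c.extT v hv fun y hy => by
    obtain ⟨r, hr⟩ := h0 y hy
    rw [hr, e]; simp)
  obtain ⟨v, hv, h1⟩ : ∃ v, FK.Fa u sT v ∧ ∀ t, ∃ r, v (EY 0 t) = EY r 0 :=
    ⟨_, (FK.Fa.conj u (XB (-b0 / a0)) (nm_T _)).comp hv, fun t => by
      obtain ⟨r, hr⟩ := h0 _ (EY_Z t)
      refine ⟨r * a0, ?_⟩
      simp only [hr, XE_XZ, conj_EY]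
      congr 1
      field_simp
      ring⟩
  choose g hg using h1
  have gs : Function.Surjective g := Finite.surjective_of_injective fun t t' e =>
    (EY_inj (hv.au.inj _ (EY_T 0 t) _ (EY_T 0 t') (by rw [hg, hg, e]))).2
  obtain ⟨w, hw, wv, vw⟩ := hv.exists_inv
  have wY : ∀ a b, w (EY a b) ∈ (sY : Subgroup (DU K)) := fun a b => (chT hw.au).1 _ (EY_Y a b)
  have w6 : ∀ a b, eF (w (EY a b)) = eF (w (EY 0 b)) := fun a b => by
    obtain ⟨t, rfl⟩ := gs a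
    rw [show EY (g t) b = EY 0 b * EY (g t) 0 by rw [EY_mul]; simp,
      hw.au.mul _ (EY_T _ _) _ (EY_T _ _), ← hg, wv _ (EY_T _ _), eq_EY (wY 0 b), EY_mul]
    simp
  have c1 : eF (w (EY 0 1)) ≠ 0 := fun e => by
    have := vw _ (EY_T 0 1)
    rw [eq_EY (wY 0 1), e, hg] at this
    exact zero_ne_one (EY_inj this).2
  intro s
  obtain ⟨t0, rfl⟩ := gs s
  obtain ⟨t, rfl⟩ : ∃ t, t0 = t * eF (w (EY 0 1)) := ⟨t0 / eF (w (EY 0 1)), by field_simp⟩
  have hf := (hv.comp (FK.Fa.conj u (XB t) (nm_T _))).comp hw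
  have e1 : ∀ a b, v (XB t * w (EY a b) * (XB t)⁻¹) = EY (a + g (t * eF (w (EY 0 b)))) b := fun a b => by
    have : XB t * w (EY a b) * (XB t)⁻¹ = w (EY a b) * EY 0 (t * eF (w (EY 0 b))) := by
      rw [← w6 a b]
      generalize w (EY a b) = y, wY a b = hy
      rw [eq_EY hy, conj_EY, EY_mul]; simp
    rw [this, hv.au.mul _ (hw.au.mem _ (EY_T _ _)) _ (EY_T _ _), vw _ (EY_T _ _), hg, EY_mul, add_zero]
  obtain ⟨a1, b1, -, h1⟩ := t2 hf.au
  refine ⟨_, ⟨hf, fun a ha => ?_⟩, fun a b => ?_⟩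
  · have hx := (chT hw.au).2 a ha
    have hy := c_Z3 (XB t) hx
    have hy' := (chT hv.au).1 _ hy
    rw [show XB t * w a * (XB t)⁻¹ = ⁅XB t, w a⁆ * w a by simp [commutatorElement_def],
      hv.au.mul _ hy.2.1 _ (Z3_T hx), vw a (Z3_T ha)]
    generalize v ⁅XB t, w a⁆ = y at hy'
    obtain ⟨h1, h2, h3, h4⟩ := hy'
    simp [h2, h3, h4]
  · obtain ⟨r, hr⟩ := h1 _ (EY_Z b)
    obtain ⟨r1, hr1⟩ := h1 _ (EY_Z 1)
    simp only [XE_XZ, e1, zero_add] at hr hr1 ⊢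
    rw [(EY_inj hr).1, (EY_inj hr1).1]
    congr 2
    have h2 := (EY_inj hr).2
    have h3 := (EY_inj hr1).2
    linear_combination (r * a1) * h3 - (r1 * a1) * h2

theorem exists_w (l : Low u) (r : (Fx K)ˣ) :
    ∃ w, Pd u w ∧ ∀ a b, w (EY a b) = EY (-((r : Fx K)⁻¹ * b)) (r * a) := by
  obtain ⟨f, hf, e⟩ := l (-(r : Fx K)⁻¹)
  have c := Pd.conj u (XB (r : Fx K))
  refine ⟨_, (c.comp hf).comp c, fun a b => ?_⟩
  simp only [conj_EY, e]
  have := r.ne_zero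
  congr 1 <;> field_simp <;> ring

theorem diag (c : Ctx p u) (st : Std u) {f : DU K → DU K} (hf : Pd u f) (l : (Fx K)ˣ)
    (h : ∀ a b, f (EY a b) = EY ((l : Fx K)⁻¹ * a) (l * b)) : FK.In u ⊤ (tor (hb l)) := by
  obtain ⟨F, hF, e⟩ := c.extT f hf.fa fun y hy => by rw [eq_Z hy, h]; simp
  obtain ⟨s, k, φ, e1⟩ := st F hF
  have hd : ∀ d, k.μ * sh k.α * φ d = d := fun d => by
    have := hf.d (XD d) (by simp)
    rw [← e _ (by simp), e1, conj_d _ (by simp)] at this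
    simpa using this
  have h1 : k.μ * sh k.α = 1 := by simpa using hd 1
  have hφ : ∀ d, φ d = d := fun d => by simpa [h1] using hd d
  have h2 : k.μ * nr k.α = ((l : Fx K) : K)⁻¹ := by
    have := congrArg DU.e (h 1 0)
    rw [← e _ (EY_T _ _), e1, conj_e _ (by simp)] at this
    simpa using this
  have h3 : k.α = ((l : Fx K) : K)⁻¹ := by
    rw [← h2, ← mul_sh]; linear_combination (-k.α) * h1
  have h0 : ((l : Fx K) : K) ≠ 0 := fun h => l.ne_zero (Subtype.ext h)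
  have h4 : k.μ = ((l : Fx K) : K) ^ 2 := by
    rw [h3, sh, map_inv₀, map_inv₀, σ_Fx, σ_Fx] at h1
    field_simp at h1
    exact h1
  obtain rfl : k = hb l := Tor.ext' (by simp [h3]) (by simp [h4])
  exact ((FK.In.conj u ⊤ s⁻¹).comp hF.ind fun _ _ => trivial).congr fun a _ => by
    rw [e1, show fld φ a = a by ext <;> simp [hφ]]; group

end TorT

open TorT

theorem hbT (c : Ctx p u) (st : Std u) (e : EssT u) : (∀ l, In u ⊤ (tor (hb l))) ∧ ∃ μ, SwT u μ := by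
  have l := low c e
  refine ⟨fun t => ?_, ?_⟩
  · obtain ⟨w, hw, e⟩ := exists_w l t
    obtain ⟨w1, hw1, e1⟩ := exists_w l (-1)
    exact diag c st (hw.comp hw1) t fun a b => by simp [e, e1]
  · obtain ⟨μ, hμ, e⟩ := exists_w l 1
    refine ⟨μ, hμ.fa, fun y hy => ?_, hμ.d⟩
    rw [eq_EY hy, e]
    ext <;> simp

end Cfsg.Agent.TDF
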