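import Cfsg.Agent.TDF.IB
import Cfsg.Agent.TDF.ID
import Cfsg.Agent.TDF.IE
import Cfsg.Agent.TDF.IF
import Cfsg.Agent.TDF.IH
import Cfsg.Agent.TDF.II
import Cfsg.Agent.TDF.AuS
import Cfsg.Agent.TDF.StdB
import Cfsg.Agent.TDF.TorT
import Cfsg.Agent.TDF.ToLin
import Cfsg.Agent.TDF.LinC
import Cfsg.Agent.TDF.LinD
import Cfsg.Agent.TDF.LinF
import Cfsg.Agent.TDF.RigQ
import Cfsg.Agent.TDF.RigT
import Cfsg.Agent.H92.GroupFS

/-! Project TDF: the main theorem.  See `notes/TDF.md`. -/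

set_option autoImplicit false
set_option linter.unusedSectionVars false

namespace Cfsg.Agent.TDF

open FK
open RFS (Au)

variable {K : Type*} [Field K] [Tri K] [Finite K] {p : ℕ} [Fact p.Prime] [CharP K p] {G : Type*} [Group G]
  [Finite G] {u : DU K →* G}

theorem ess {E : Subgroup (DU K)} {L : Subgroup G} (h : Pr p u E L) : E = sQ ∨ E = sT := by
  by_cases hQ : E ≤ sQ
  · exact .inl (eqQ h hQ)
  by_cases hT : E ≤ sT
  · obtain ⟨h3, L', h', hY⟩ := T_Y h hT hQ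
    by_cases hp : (2 : K) = 0
    · exact .inr (T_two h' hp hT hQ h3 hY)
    · exact .inr (T_odd h' (fun e => hp (by subst e; exact CharTwo.two_eq_zero)) hT hQ h3 hY)
  exfalso
  obtain ⟨u', E', L', h', hY, hT', hQ', hZ⟩ := gen_Z h (Y_le h) hT hQ
  obtain ⟨h3, k | ⟨L₁, l, h₁, k⟩⟩ := gen_red h' hY hT' hQ' hZ
  · by_cases hp : (2 : K) = 0
    · exact gen_fin h' h3 hT' hQ' hZ (over_two h' hp k hQ' hZ)
    · obtain ⟨L₁, l, h₁, k⟩ := over_odd h' (fun e => hp (by subst e; exact CharTwo.two_eq_zero)) k hQ' hZ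
      exact gen_fin h₁ h3 hT' hQ' (hZ.mono l) k
  · exact gen_fin h₁ h3 hT' hQ' (hZ.mono l) k

theorem two_of (h : Sat p u) : Two p u sQ sT where
  sat := h
  ess _ _ := ess
  nQ := Nm.of_normal _
  nT := Nm.of_normal _
  cQ _ k := (cz_Q k).1
  cT _ k := (cz_T k).2.1
  chQ _ k := (chS k).2.2.2.2.1
  chT _ k := (chS k).2.2.2.2.2
  QT k := one_ne_zero (α := K) (k (x := XB 1) rfl)
  TQ k := one_ne_zero (α := K) (k (x := XA 1) rfl)

theorem ctx_of (h : Sat p u) : Ctx p u :=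
  ⟨two_of h, fun _ hf hY => ((two_of h).ext_or (B := sY) (fun _ k => k.1) (Nm.of_normal _) hf hY).resolve_right
    fun ⟨_, a, b⟩ => noQ a b, fun _ hf hZ => ((two_of h).symm.ext_or (B := sZ) (fun _ k => k.2.1)
      (Nm.of_normal _) hf hZ).resolve_right fun ⟨_, a, b⟩ => noT a b⟩

theorem exists_std (h : Sat p u) : ∃ β : DU K ≃* DU K, Std (u.comp β.toMonoidHom) := by
  obtain ⟨β, hβ⟩ := h.exists_std (St := St) fun X hX => by
    by_cases hq : Big K
    · have := A1_normal (K := K)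
      obtain ⟨θ, -, e⟩ := conj_into (A1_pg (p := p)) A1_inf_St hX fun x _ => by
        obtain ⟨k, φ, e⟩ := aut_dec hq x
        refine ⟨torA k * fldA φ * x⁻¹, fun g => ?_, by rw [inv_mul_cancel_right]; exact ⟨k, φ, rfl⟩⟩
        have := e (x⁻¹ g)
        rw [MulAut.apply_inv_self] at this
        exact ⟨this.1.symm, this.2.symm⟩
      exact ⟨θ, e⟩
    · obtain rfl := eq_two (p := p) (two_zero hq)
      exact std_two hq X hX
  exact ⟨β, fun F hF => by
    obtain ⟨s, _, ⟨k, φ, rfl⟩, e⟩ := hβ F hF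
    exact ⟨s, k, φ, e⟩⟩

theorem nf_of (c : Ctx p u) (st : Std u) (eQ : EssQ u) (eT : EssT u) : NF p u := by
  obtain ⟨h1, μ, s⟩ := hbT c st eT
  have l := lin c st eQ h1
  have o := l.orb ((em _).elim l.np_two l.np_odd)
  obtain ⟨ν, w⟩ := l.exists_sw o
  obtain ⟨hn, ht⟩ := l.has_nu o w
  have ht' : ∀ k, In u ⊤ (tor k) := fun k => by
    obtain ⟨g, ⟨f, hf, e⟩, e'⟩ := ht k
    exact (std_V c st hf fun a ha => (e a ha).trans (e' _)).1
  exact ⟨c, st, ht', rigQ c st ht' hn, rigT c st ht' s, fun f hf => orb_of c o hf⟩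

section uniq

variable {G' : Type*} [Group G'] [Finite G'] {u' : DU K →* G'} (h : NF p u) (h' : NF p u')
  (hφ : ∀ φ : RingAut K, In u ⊤ (fld φ) → In u' ⊤ (fld φ))
include h h' hφ

theorem NF.top {F : DU K → DU K} (hF : Fa u ⊤ F) : In u' ⊤ F := by
  obtain ⟨s, k, φ, e⟩ := h.std F hF
  have h1 : In u ⊤ (fld φ) :=
    ((h.tor k⁻¹).comp ((In.conj u ⊤ s⁻¹).comp hF.ind fun _ _ => trivial) fun _ _ => trivial).congr
      fun a _ => by
        rw [e a, show s⁻¹ * (s * TDF.tor k (fld φ a) * s⁻¹) * s⁻¹⁻¹ = TDF.tor k (fld φ a) by group, tor_tor,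
          inv_mul_cancel, tor_one]
  exact ((In.conj u' ⊤ s).comp ((h'.tor k).comp (hφ φ h1) fun _ _ => trivial)
    fun _ _ => trivial).congr fun a _ => (e a).symm

theorem NF.onQ {f : DU K → DU K} (hf : Fa u sQ f) : In u' sQ f := by
  have key : ∀ g, Fa u sQ g → (∀ y ∈ (sY : Subgroup (DU K)), g y ∈ (sY : Subgroup (DU K))) →
      In u' sQ g := fun g hg hY => by
    obtain ⟨F, hF, e⟩ := h.ctx.extQ g hg hY
    exact ((h.top h' hφ hF).mono le_top).congr e
  rcases h.orb f hf with hY | ⟨s, hs⟩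
  · exact key f hf hY
  · have h1 := (Fa.conj u s (Nm.of_normal _ s)).comp hf
    have h2 := (Fa.mk au_nu h.nu).comp h1
    obtain ⟨ν, k1, k2, -⟩ := (Fa.mk au_nu h'.nu).exists_inv
    refine ((In.conj u' sQ s⁻¹).comp (k1.ind.comp (key _ h2 fun y hy => ?_) h2.au.mem)
      fun a ha => k1.au.mem _ (h2.au.mem a ha)).congr fun a ha => by rw [k2 _ (h1.au.mem a ha)]; group
    obtain ⟨-, e1, e2, e3⟩ := hs y hy
    exact ⟨rfl, neg_eq_zero.2 e3, e2, neg_eq_zero.2 e1⟩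

theorem NF.onT {f : DU K → DU K} (hf : Fa u sT f) : In u' sT f := by
  have key : ∀ g, Fa u sT g → (∀ y ∈ (sZ : Subgroup (DU K)), g y ∈ (sZ : Subgroup (DU K))) →
      In u' sT g := fun g hg hZ => by
    obtain ⟨F, hF, e⟩ := h.ctx.extT g hg hZ
    exact ((h.top h' hφ hF).mono le_top).congr e
  obtain ⟨a, b, -, hab⟩ := t2 hf.au
  by_cases ha : a = 0
  · refine key f hf fun y hy => ?_
    obtain ⟨r, hr⟩ := hab y hy
    simp [hr, ha]
  · have h1 := (Fa.conj u (XB (-b / a)) (Nm.of_normal _ _)).comp hf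
    have h2 := (Fa.mk au_mu h.mu).comp h1
    obtain ⟨ν, k1, k2, -⟩ := (Fa.mk au_mu h'.mu).exists_inv
    refine ((In.conj u' sT (XB (-b / a))⁻¹).comp (k1.ind.comp (key _ h2 fun y hy => ?_) h2.au.mem)
      fun c hc => k1.au.mem _ (h2.au.mem c hc)).congr fun c hc => by rw [k2 _ (h1.au.mem c hc)]; group
    obtain ⟨r, hr⟩ := hab y hy
    have ha' : (a : K) ≠ 0 := fun e => ha (Subtype.ext e)
    simp [hr]
    field_simp
    ring

theorem NF.uniq {X : Subgroup (DU K)} {f : DU K → DU K} (hf : In u X f) : In u' X f :=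
  h.ctx.two.uniq (fun _ => h.top h' hφ) (fun _ => h.onQ h' hφ) (fun _ => h.onT h' hφ) hf

end uniq

universe w

open SemidirectProduct in
theorem model_nf {K G₀ : Type w} [Field K] [Tri K] [Finite K] [CharP K p] [Group G₀] [Finite G₀] {u₀ : DU K →* G₀}
    (m : Md p u₀) (Φ : Subgroup (RingAut K)) (hΦ : ¬ p ∣ Nat.card Φ) :
    ∃ (G : Type w) (_ : Group G) (_ : Finite G) (u : DU K →* G), NF p u ∧ ¬ p ∣ u.range.index ∧
      ∀ φ : RingAut K, In u ⊤ (fld φ) ↔ φ ∈ Φ := by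
  obtain ⟨θ, hθ⟩ := m.fld
  have : Finite Φ := Nat.finite_of_card_ne_zero fun e => hΦ (e ▸ dvd_zero p)
  have : Finite (G₀ ⋊[θ.comp Φ.subtype] Φ) := Finite.of_equiv _ equivProd.symm
  let u : DU K →* G₀ ⋊[θ.comp Φ.subtype] Φ := inl.comp u₀
  have k0 : ∀ {A : Subgroup (DU K)} {F : DU K → DU K}, In u₀ A F → In u A F := fun ⟨g, h⟩ => ⟨inl g, fun a ha => by
    change inl g * inl _ * _ = inl _
    rw [← h a ha, map_mul, map_mul, map_inv]⟩
  have k1 : ∀ (g : G₀ ⋊[θ.comp Φ.subtype] Φ) a,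
      g * u a * g⁻¹ = inl (g.left * u₀ (fld (g.right : RingAut K) a) * g.left⁻¹) := fun g a => by
    rw [← hθ, map_mul, map_mul, map_inv]
    refine Eq.trans ?_ (congrArg (fun x => inl g.left * x * (inl g.left)⁻¹) (inl_aut g.right (u₀ a)).symm)
    conv_lhs => rw [← inl_left_mul_inr_right g]
    simp only [map_inv, mul_inv_rev, mul_assoc]
    rfl
  have k2 : ∀ F, In u ⊤ F → ∃ s k, ∃ φ ∈ Φ, ∀ a, F a = s * tor k (fld φ a) * s⁻¹ := by
    rintro F ⟨g, h⟩
    have h1 : ∀ a, g.left * u₀ (fld (g.right : RingAut K) a) * g.left⁻¹ = u₀ (F a) := fun a =>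
      inl_injective ((k1 g a).symm.trans (h a trivial))
    obtain ⟨s, k, e⟩ := m.norm g.left fun b => by
      obtain ⟨a, rfl⟩ := (fldA (g.right : RingAut K)).surjective b
      exact ⟨_, (h1 a).symm⟩
    exact ⟨s, k, g.right, g.right.2, fun a => m.inj ((h1 a).symm.trans (e _))⟩
  have k3 : ¬ p ∣ u.range.index := by
    rw [← MonoidHom.map_range, Subgroup.index_map_of_injective _ inl_injective, range_inl_eq_ker_rightHom,
      Subgroup.index_ker, MonoidHom.range_eq_top.2 rightHom_surjective, Subgroup.card_top]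
    exact fun h => ((Fact.out : p.Prime).dvd_mul.1 h).elim m.syl hΦ
  have k4 : IsPGroup p u.range := u.range_eq_map ▸ (pg_DU.to_subgroup ⊤).map u
  refine ⟨_, inferInstance, this, u, nf_of (ctx_of ⟨pg_DU, inl_injective.comp m.inj,
    H92.saturated_group (k4.toSylow k3)⟩) (fun F h => ?_) ⟨nu, ⟨au_nu, k0 m.nu⟩, fun ⟨F, hF, e⟩ => ?_⟩
    ⟨mu, ⟨au_mu, k0 m.mu⟩, fun ⟨F, hF, e⟩ => ?_⟩, k3, fun φ => ⟨fun h => ?_, fun h => ⟨inr ⟨φ, h⟩, fun a _ => ?_⟩⟩⟩
  · obtain ⟨s, k, φ, -, e⟩ := k2 F h.ind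
    exact ⟨s, k, φ, e⟩
  · have := (chS hF.au).2.1 (XE 1) (by simp)
    simp [e (XE 1) rfl] at this
  · have := (chS hF.au).1 (XZ 1) (by simp)
    simp [e (XZ 1) rfl] at this
  · obtain ⟨s, k, ψ, h1, e⟩ := k2 _ h
    have e1 : ∀ t, φ t = k.α * ψ t := fun t => by simpa using congrArg DU.a (e (XA t))
    have e2 := e1 1
    rw [map_one, map_one, mul_one] at e2
    rwa [show φ = ψ from RingEquiv.ext fun t => by rw [e1, ← e2, one_mul]]
  · rw [k1, left_inr, right_inr, one_mul, inv_one, mul_one]; rfl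

theorem main {K G₀ : Type w} [Field K] [Tri K] [Finite K] [CharP K p] [Group G₀] [Finite G₀] {u₀ : DU K →* G₀}
    (m : Md p u₀) {u : DU K →* G} (h : Sat p u) {Ω : Type*} [Group Ω] {S : Subgroup Ω} [Finite S]
    {F : FusionSystem S} {j : Ω → G} {k : G → Ω} (i : H92.FIso F (groupFusionSystem u.range) j k) :
    F.IsRealizable p := by
  obtain ⟨β, st⟩ := exists_std h
  have h := h.tw β
  rw [← range_tw u β] at i
  generalize u.comp β.toMonoidHom = u₁ at st h i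
  by_cases eQ : EssQ u₁
  swap
  · exact realizable_of_fIso i ((two_of h).real fun f hf => by_contra fun k => eQ ⟨f, hf, k⟩)
  by_cases eT : EssT u₁
  swap
  · exact realizable_of_fIso i ((two_of h).symm.real fun f hf => by_contra fun k => eT ⟨f, hf, k⟩)
  have n := nf_of (ctx_of h) st eQ eT
  have : Finite (RingAut K) := .of_injective (fun φ : RingAut K => (φ : K → K)) DFunLike.coe_injective
  obtain ⟨G', _, _, u', n', o, hφ⟩ := model_nf m (fldS u₁) (h.not_dvd (fldA.comp (fldS u₁).subtype) (fun φ => φ.2)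
    fun φ s e => Subtype.ext (RingEquiv.ext fun t => by simpa using congrArg DU.a (e (XA t))))
  exact realizable_of i h.inj n'.ctx.two.sat.inj h.pg
    (fun X f => ⟨n.uniq n' fun φ k => (hφ φ).2 k, n'.uniq n fun φ k => (hφ φ).1 k⟩) o

end Cfsg.Agent.TDF
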