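import Cfsg.Agent.TDF.Defs2

/-! Project TDF: a homomorphism from relations.  See `notes/TDF.md`. -/

set_option autoImplicit false
set_option linter.unusedSectionVars false

namespace Cfsg.Agent.TDF

open FK RFS
open scoped commutatorElement

variable {K : Type*} [Field K] [Tri K] {G : Type*} [Group G]

namespace ModA

theorem tl {x y w : G} (h : x * y = w) (r : G) : x * (y * r) = w * r := by rw [← h, mul_assoc]

theorem zero_of {A : Type*} [AddMonoid A] {x : A → G} (h : ∀ s t, x (s + t) = x s * x t) : x 0 = 1 := by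
  simpa using h 0 0

theorem cg {xa xc xd : K → G} {xb xe xz : Fx K → G} {a c d a' c' d' : K} {b e z b' e' z' : Fx K} (r : G)
    (h1 : a = a') (h2 : (b : K) = b') (h3 : c = c') (h4 : d = d') (h5 : (e : K) = e') (h6 : (z : K) = z') :
    xa a * (xb b * (xc c * (xd d * (xe e * (xz z * r))))) =
      xa a' * (xb b' * (xc c' * (xd d' * (xe e' * (xz z' * r))))) := by
  rw [h1, h3, h4, Subtype.ext h2, Subtype.ext h5, Subtype.ext h6]

/-- the ordered product -/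
def pd (xa xc xd : K → G) (xb xe xz : Fx K → G) (g : DU K) : G :=
  xa g.a * xb ⟨g.b, g.hb⟩ * xc g.c * xd g.d * xe ⟨g.e, g.he⟩ * xz ⟨g.z, g.hz⟩

theorem pd_mul {xa xc xd : K → G} {xb xe xz : Fx K → G} (h : Rl xa xc xd xb xe xz) (g k : DU K) (r : G) :
    pd xa xc xd xb xe xz g * (pd xa xc xd xb xe xz k * r) = pd xa xc xd xb xe xz (g * k) * r := by
  simp only [pd, mul_assoc, fun s t => tl (h.aa s t).symm, fun s t => tl (h.bb s t).symm,
    fun s t => tl (h.cc s t).symm, fun s t => tl (h.dd s t).symm, fun s t => tl (h.ee s t).symm,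
    fun s t => tl (h.zz s t).symm, fun s t => tl (h.ba s t), fun s t => tl (h.ca s t), fun s t => tl (h.da s t),
    fun s t => tl (h.ea s t), fun s t => tl (h.za s t), fun s t => tl (h.cb s t), fun s t => tl (h.db s t),
    fun s t => tl (h.eb s t), fun s t => tl (h.zb s t), fun s t => tl (h.dc s t), fun s t => tl (h.ec s t),
    fun s t => tl (h.zc s t), fun s t => tl (h.ed s t), fun s t => tl (h.zd s t), fun s t => tl (h.ze s t)]
  refine cg r ?_ ?_ ?_ ?_ ?_ ?_ <;> simp [tr, nr, sh, cr] <;> ring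

theorem exists_tr_ne (K : Type*) [Field K] [Tri K] : ∃ x : K, tr x ≠ 0 := by
  obtain ⟨r, hr⟩ := Tri.ne (K := K)
  by_contra k
  push Not at k
  have h1 := k 1
  have h2 := k r
  have h3 := k (r * r)
  simp only [tr, map_one, map_mul] at h1 h2 h3
  have : (r - σ r) * (r - σ (σ r)) = 0 := by
    linear_combination h3 - (σ r + σ (σ r)) * h2 + σ r * σ (σ r) * h1
  rcases mul_eq_zero.1 this with e | e
  · exact hr (sub_eq_zero.1 e).symm
  · have := congrArg σ (sub_eq_zero.1 e)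
    rw [cube] at this
    exact hr this

end ModA

theorem Rl.exists_hom {xa xc xd : K → G} {xb xe xz : Fx K → G} (h : Rl xa xc xd xb xe xz) :
    ∃ u : DU K →* G, (∀ t, u (XA t) = xa t) ∧ (∀ t, u (XB t) = xb t) ∧ (∀ t, u (XC t) = xc t) ∧
      (∀ t, u (XD t) = xd t) ∧ (∀ t, u (XE t) = xe t) ∧ ∀ t, u (XZ t) = xz t := by
  have a0 := ModA.zero_of h.aa
  have c0 := ModA.zero_of h.cc
  have d0 := ModA.zero_of h.dd
  have b0 : ∀ k, xb ⟨0, k⟩ = 1 := fun _ => ModA.zero_of h.bb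
  have e0 : ∀ k, xe ⟨0, k⟩ = 1 := fun _ => ModA.zero_of h.ee
  have z0 : ∀ k, xz ⟨0, k⟩ = 1 := fun _ => ModA.zero_of h.zz
  refine ⟨MonoidHom.mk' (ModA.pd xa xc xd xb xe xz) fun g k => by simpa using (ModA.pd_mul h g k 1).symm,
    ?_, ?_, ?_, ?_, ?_, ?_⟩ <;> intro t <;> simp [ModA.pd, a0, b0, c0, d0, e0, z0]

/-- a homomorphism that is injective on the centre is injective -/
theorem inj_of_Z {u : DU K →* G} (h : ∀ t, u (XZ t) = 1 → t = 0) : Function.Injective u := by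
  have cm : ∀ s {g : DU K}, u g = 1 → u ⁅s, g⁆ = 1 := fun s g k => by
    rw [map_commutatorElement, k, commutatorElement_one_right]
  have h1 : ∀ g ∈ (sZ : Subgroup (DU K)), u g = 1 → g = 1 := fun g ⟨k1, k2, k3, k4, k5⟩ k => by
    have e : g = XZ ⟨g.z, g.hz⟩ := by ext <;> simp [*]
    have : g.z = 0 := congrArg Subtype.val (h _ (e ▸ k))
    exact DU.ext k1 k2 k3 k4 k5 this
  have h3 : ∀ g ∈ (sZ3 : Subgroup (DU K)), u g = 1 → g = 1 := fun g hg k => by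
    have z0 : ∀ s : DU K, s.a = 0 → s.b * g.e - tr (g.d * s.c) = 0 := fun s hs => by
      rw [← (comm_Z3 hg s).2, h1 _ (by simp [(comm_Z3 hg s).1, hs, hg.1, hg.2.1, hg.2.2]) (cm s k), DU.one_z]
    refine h1 g ⟨hg.1, hg.2.1, hg.2.2, ?_, by simpa using z0 (XB 1) rfl⟩ k
    by_contra hd
    obtain ⟨x, hx⟩ := ModA.exists_tr_ne K
    have := z0 (XC (g.d⁻¹ * x)) rfl
    simp [hd, hx] at this
  have h4 : ∀ g ∈ (sZ4 : Subgroup (DU K)), u g = 1 → g = 1 := fun g hg k => by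
    have z0 : ∀ t : K, cr t g.c = 0 := fun t => by
      have := congrArg DU.d (h3 _ (by simp [hg.1, hg.2]) (cm (XA t) k))
      simpa [hg.1, hg.2] using this
    refine h3 g ⟨hg.1, hg.2, ?_⟩ k
    obtain ⟨r, hr⟩ := Tri.ne (K := K)
    have e1 := z0 1
    have e2 := z0 r
    simp only [cr, map_one] at e1 e2
    have : (σ r - σ (σ r)) * σ (σ g.c) = 0 := by linear_combination e2 - σ (σ r) * e1
    simpa [sub_eq_zero, (σ_inj.ne hr).symm] using this
  refine (injective_iff_map_eq_one u).2 fun g k => h4 g ⟨?_, ?_⟩ k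
  · simpa using congrArg DU.c (h4 _ (by simp) (cm (XB 1) k))
  · simpa using congrArg DU.c (h4 _ (by simp) (cm (XA 1) k))

/-- it suffices to check an automorphism on root elements -/
theorem ind_of_root {u : DU K →* G} {θ : MulAut G} {A : Subgroup (DU K)} {f : DU K → DU K}
    (hf : ∀ a ∈ A, ∀ b ∈ A, f (a * b) = f a * f b)
    (hA : ∀ g ∈ A, XA g.a ∈ A ∧ XB ⟨g.b, g.hb⟩ ∈ A ∧ XC g.c ∈ A ∧ XD g.d ∈ A ∧ XE ⟨g.e, g.he⟩ ∈ A ∧ XZ ⟨g.z, g.hz⟩ ∈ A)
    (ha : ∀ t, XA t ∈ A → θ (u (XA t)) = u (f (XA t))) (hb : ∀ t, XB t ∈ A → θ (u (XB t)) = u (f (XB t)))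
    (hc : ∀ t, XC t ∈ A → θ (u (XC t)) = u (f (XC t))) (hd : ∀ t, XD t ∈ A → θ (u (XD t)) = u (f (XD t)))
    (he : ∀ t, XE t ∈ A → θ (u (XE t)) = u (f (XE t))) (hz : ∀ t, XZ t ∈ A → θ (u (XZ t)) = u (f (XZ t))) :
    ∀ a ∈ A, θ (u a) = u (f a) := by
  have m : ∀ {a b : DU K}, (a ∈ A ∧ θ (u a) = u (f a)) → (b ∈ A ∧ θ (u b) = u (f b)) →
      a * b ∈ A ∧ θ (u (a * b)) = u (f (a * b)) := fun k k' =>
    ⟨mul_mem k.1 k'.1, by rw [hf _ k.1 _ k'.1, map_mul, map_mul, map_mul, k.2, k'.2]⟩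
  intro g hg
  obtain ⟨k1, k2, k3, k4, k5, k6⟩ := hA g hg
  have := (m (m (m (m (m ⟨k1, ha _ k1⟩ ⟨k2, hb _ k2⟩) ⟨k3, hc _ k3⟩) ⟨k4, hd _ k4⟩) ⟨k5, he _ k5⟩) ⟨k6, hz _ k6⟩).2
  rwa [← nf g] at this

theorem card_DU [Finite K] : Nat.card (DU K) = Nat.card K ^ 3 * Nat.card (Fx K) ^ 3 := by
  rw [Nat.card_congr (DU.equiv K)]
  simp only [Nat.card_prod]
  ring

end Cfsg.Agent.TDF
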