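import Cfsg.Agent.TDF.ModD
import Cfsg.Agent.TDF.ModA
import Cfsg.Agent.TDF.Fld
import Cfsg.Agent.H64.OutF4

/-! Project TDF: the triality group is a model.  See `notes/TDF.md`. -/

set_option autoImplicit false
set_option linter.unusedSectionVars false

namespace Cfsg.Agent.TDF

namespace MD

open Cfsg.Lie Cfsg.Agent.H37 Cfsg.Agent.H40 FK

variable {K : Type*} [Field K] [Tri K]

local notation "W" => gword (StRel.x (matRel isChev_D4 _))

/-- `U` sends root elements to root elements -/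
structure Rt (U : DU K →* GL chevD4.Idx K) : Prop where
  a : ∀ t, U (XA t) = xa t
  b : ∀ t, U (XB t) = xb t
  c : ∀ t, U (XC t) = xc t
  d : ∀ t, U (XD t) = xd t
  e : ∀ t, U (XE t) = xe t
  z : ∀ t, U (XZ t) = xz t

theorem exists_rt : ∃ U : DU K →* GL chevD4.Idx K, Rt U :=
  let ⟨U, h1, h2, h3, h4, h5, h6⟩ := (rl (K := K)).exists_hom
  ⟨U, h1, h2, h3, h4, h5, h6⟩

variable {U : DU K →* GL chevD4.Idx K} (h : Rt U)
include h

theorem Rt.mem {M : Subgroup (GL chevD4.Idx K)} (h1 : ∀ t, xa t ∈ M) (h2 : ∀ t, xb t ∈ M) (h3 : ∀ t, xc t ∈ M)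
    (h4 : ∀ t, xd t ∈ M) (h5 : ∀ t, xe t ∈ M) (h6 : ∀ t, xz t ∈ M) (g : DU K) : U g ∈ M := by
  rw [nf g]
  simp only [map_mul, h.a, h.b, h.c, h.d, h.e, h.z]
  exact mul_mem (mul_mem (mul_mem (mul_mem (mul_mem (h1 _) (h2 _)) (h3 _)) (h4 _)) (h5 _)) (h6 _)

theorem Rt.mem_U (g : DU K) : U g ∈ (SD K).U := by
  refine h.mem ?_ ?_ ?_ ?_ ?_ ?_ g <;> intro t <;> refine word_mem_U ?_ <;> simp only [List.map_cons, List.map_nil] <;>
    decide

theorem Rt.inj : Function.Injective U := inj_of_Z fun t e => by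
  rw [h.z, xz, gword_cons] at e
  exact Subtype.ext (x_eq_one (matRel_sep _ _) (r := 23) (by decide) ((mul_one _).symm.trans e))

theorem Rt.nu : ∀ a ∈ (sQ : Subgroup (DU K)), na K * U a * (na K)⁻¹ = U (nu a) := by
  obtain ⟨k1, k2, k3, k4, k5⟩ := na_rel (K := K)
  refine ind_of_root (θ := MulAut.conj (na K)) (fun g hg k hk => ?_) (fun g hg => by simp_all) (fun t ht => ?_)
    (fun t _ => ?_) (fun t _ => ?_) (fun t _ => ?_) (fun t _ => ?_) fun t _ => ?_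
  · rw [mem_sQ] at hg hk
    ext <;> simp [hk, tr] <;> ring
  · obtain rfl : t = 0 := ht
    rw [show XA (0 : K) = 1 from rfl, show TDF.nu (1 : DU K) = 1 by ext <;> simp, map_one, map_one]
  all_goals rw [MulAut.conj_apply, mul_inv_eq_iff_eq_mul]
  · rw [show TDF.nu (XB t) = XE t by ext <;> simp, h.b, h.e, k1]
  · rw [show TDF.nu (XC t) = XD (-t) by ext <;> simp, h.c, h.d, k2]
  · rw [show TDF.nu (XD t) = XC t by ext <;> simp, h.d, h.c, k3]
  · rw [show TDF.nu (XE t) = XB (-t) by ext <;> simp, h.e, h.b, k4]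
  · rw [show TDF.nu (XZ t) = XZ t by ext <;> simp, h.z, k5]

theorem Rt.mu : ∀ a ∈ (sT : Subgroup (DU K)), nb K * U a * (nb K)⁻¹ = U (mu a) := by
  obtain ⟨k1, k2, k3, k4, k5⟩ := nb_rel (K := K)
  refine ind_of_root (θ := MulAut.conj (nb K)) (fun g hg k hk => ?_) (fun g hg => by simp_all) (fun t _ => ?_)
    (fun t ht => ?_) (fun t _ => ?_) (fun t _ => ?_) (fun t _ => ?_) fun t _ => ?_
  · rw [mem_sT] at hg hk
    ext <;> simp [hg, hk, tr, sh, cr, nr] <;> ring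
  rotate_left
  · obtain rfl : t = 0 := Subtype.ext ht
    rw [show XB (0 : Fx K) = 1 from rfl, show TDF.mu (1 : DU K) = 1 by ext <;> simp, map_one, map_one]
  all_goals rw [MulAut.conj_apply, mul_inv_eq_iff_eq_mul]
  · rw [show TDF.mu (XC t) = XA (-t) by ext <;> simp, h.c, h.a, k2]
  · rw [show TDF.mu (XD t) = XD t by ext <;> simp, h.d, k3]
  · rw [show TDF.mu (XE t) = XZ t by ext <;> simp, h.e, h.z, k4]
  · rw [show TDF.mu (XZ t) = XE (-t) by ext <;> simp, h.z, h.e, k5]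
  · rw [show TDF.mu (XA t) = XC t by ext <;> simp, h.a, h.c, k1]

omit h in
theorem car : ∀ r < 12, ∀ i < 4, chevD4.cartan i (r + 12) = ([[0, -1, 0, 2], [0, -1, 2, 0], [-1, 2, -1, -1],
    [-1, 1, -1, 1], [-1, 1, 1, -1], [-1, 0, 1, 1], [2, -1, 0, 0], [1, 1, -1, -1], [1, 0, -1, 1], [1, 0, 1, -1],
    [1, -1, 1, 1], [0, 1, 0, 0]].getD r []).getD i 0 := by decide +kernel

omit h in
theorem chi_eq (β l : Kˣ) (hl : l ∈ fixU (σ : K →+* K)) (r : ℕ) (hr : r < 12) {a b c d : ℤ}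
    (e : ([[0, -1, 0, 2], [0, -1, 2, 0], [-1, 2, -1, -1],
    [-1, 1, -1, 1], [-1, 1, 1, -1], [-1, 0, 1, 1], [2, -1, 0, 0], [1, 1, -1, -1], [1, 0, -1, 1], [1, 0, 1, -1],
    [1, -1, 1, 1], [0, 1, 0, 0]].getD r []) = [a, b, c, d]) : (chi chevD4 (dc σ (β, ⟨l, hl⟩)) (r + 12) : K) =
    (β : K) ^ a * (l : K) ^ b * σ (β : K) ^ c * σ (σ (β : K)) ^ d := by
  rw [chiD4, car r hr 0 (by decide), car r hr 1 (by decide), car r hr 2 (by decide), car r hr 3 (by decide), e]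
  simp [dc]

theorem Rt.tor (k : Kˣ × fixU (σ : K →+* K)) : ∃ k' : Tor K, ∀ a, dh σ k * U a * (dh σ k)⁻¹ = U (tor k' a) := by
  obtain ⟨β, l, hl⟩ := k
  have hl' : σ (l : K) = l := (mem_fixU _).1 hl
  have l0 := l.ne_zero
  have b0 := β.ne_zero
  have b1 : σ (β : K) ≠ 0 := by simp
  have b2 : σ (σ (β : K)) ≠ 0 := by simp
  obtain ⟨k, hα, hμ⟩ : ∃ k : Tor K, k.α = β ^ 2 * (l : K)⁻¹ ∧ k.μ = (nr (β : K))⁻¹ * l ^ 2 :=
    ⟨ha β * hb (Units.mk0 (⟨l, hl'⟩ : Fx K) fun e => l0 (congrArg Subtype.val e)), by simp, by simp⟩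
  refine ⟨k, fun a => ?_⟩
  have c := chi_eq β l hl
  have w := fun w hw => (isH_dh σ (β, ⟨l, hl⟩)).conj_word (w := w) hw
  refine ind_of_root (A := ⊤) (θ := MulAut.conj (dh σ (β, ⟨l, hl⟩))) (fun g _ k _ => tor_mul _ g k)
    (fun g hg => by simp) (fun t _ => ?_) (fun t _ => ?_) (fun t _ => ?_) (fun t _ => ?_) (fun t _ => ?_)
    (fun t _ => ?_) a trivial
  on_goal 1 => rw [show TDF.tor k (XA t) = XA (k.α * t) by ext <;> simp, h.a, h.a]
  on_goal 2 => rw [show TDF.tor k (XB t) = XB ((k.2 : Fx K) * t) by ext <;> simp, h.b, h.b]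
  on_goal 3 => rw [show TDF.tor k (XC t) = XC (k.μ * k.α * t) by ext <;> simp, h.c, h.c]
  on_goal 4 => rw [show TDF.tor k (XD t) = XD (k.μ * sh k.α * t) by ext <;> simp, h.d, h.d]
  on_goal 5 => rw [show TDF.tor k (XE t) = XE ((k.2 : Fx K) * nrF k.α * t) by ext <;> simp, h.e, h.e]
  on_goal 6 => rw [show TDF.tor k (XZ t) = XZ ((k.2 : Fx K) ^ 2 * nrF k.α * t) by ext <;> simp, h.z, h.z]
  all_goals
    simp only [MulAut.conj_apply, xa, xb, xc, xd, xe, xz]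
    rw [w _ (by simp only [List.forall_mem_cons, List.not_mem_nil, IsEmpty.forall_iff, implies_true]; decide)]
    simp only [List.map_cons, List.map_nil, c 0 (by decide) rfl, c 1 (by decide) rfl, c 2 (by decide) rfl,
      c 3 (by decide) rfl, c 4 (by decide) rfl, c 5 (by decide) rfl, c 6 (by decide) rfl, c 7 (by decide) rfl,
      c 8 (by decide) rfl, c 9 (by decide) rfl, c 10 (by decide) rfl, c 11 (by decide) rfl]
    congr 1
    simp only [List.cons.injEq, Prod.mk.injEq, true_and, and_true, Subfield.coe_mul, SubmonoidClass.coe_pow,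
      Tor.coe_snd, nrF_coe, hα, hμ, nr, sh, map_mul, map_inv₀, map_pow, hl', cube, zpow_ofNat, zpow_neg]
    try refine ⟨?_, ?_, ?_⟩
    all_goals field_simp

theorem Rt.fld (φ : RingAut K) (a : DU K) : H39.glMap chevD4 (φ : K →+* K) (U a) = U (fld φ a) := by
  have e : ∀ t : Fx K, σ (φ t) = φ t := fun t => by rw [← map_σ, σ_Fx]
  rw [nf a]
  simp only [map_mul, fld_mul]
  rw [show TDF.fld φ (XA a.a) = XA (φ a.a) by ext <;> simp, show TDF.fld φ (XC a.c) = XC (φ a.c) by ext <;> simp,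
    show TDF.fld φ (XD a.d) = XD (φ a.d) by ext <;> simp,
    show TDF.fld φ (XB ⟨a.b, a.hb⟩) = XB ⟨φ a.b, e ⟨a.b, a.hb⟩⟩ by ext <;> simp,
    show TDF.fld φ (XE ⟨a.e, a.he⟩) = XE ⟨φ a.e, e ⟨a.e, a.he⟩⟩ by ext <;> simp,
    show TDF.fld φ (XZ ⟨a.z, a.hz⟩) = XZ ⟨φ a.z, e ⟨a.z, a.hz⟩⟩ by ext <;> simp]
  simp [h.a, h.b, h.c, h.d, h.e, h.z, xa, xb, xc, xd, xe, xz, H64.glMap_gword, map_σ]

variable {q : ℕ} (hq : ∀ t : K, σ t = t ^ q)
include hq

omit h in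
theorem gens : (∀ t : K, xa t ∈ twistedD4 K q) ∧ (∀ t : Fx K, xb t ∈ twistedD4 K q) ∧ na K ∈ twistedD4 K q ∧
    nb K ∈ twistedD4 K q := by
  have e2 : ∀ t : K, σ (σ t) = t ^ q ^ 2 := fun t => by rw [hq, hq, ← pow_mul, sq]
  have h1 : ∀ t : K, xa t ∈ twistedD4 K q := fun t => by
    rw [xa, e2, hq]; exact gword_mem_gen _ (Or.inr ⟨t, (d4p1, d4p3, d4p4), by simp, rfl⟩)
  have h2 : ∀ t : Fx K, xb t ∈ twistedD4 K q := fun t =>
    gword_mem_gen _ (Or.inl ⟨_, (hq _).symm.trans (σ_Fx t), d4p2, by simp, rfl⟩)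
  have h3 : W [(5, 1), (10, 1), (11, 1)] ∈ twistedD4 K q :=
    gword_mem_gen _ (Or.inr ⟨1, (d4m1, d4m3, d4m4), by simp, by simp only [one_pow]; rfl⟩)
  have h4 : W [(9, -1)] ∈ twistedD4 K q :=
    gword_mem_gen _ (Or.inl ⟨_, (hq _).symm.trans (by simp), d4m2, by simp, rfl⟩)
  refine ⟨h1, h2, ?_, ?_⟩
  · have := mul_mem (mul_mem (h1 (-1)) h3) (h1 (-1))
    simp only [xa, ← gword_append, map_neg, map_one] at this
    exact this
  · have := mul_mem (mul_mem (h2 1) h4) (h2 1)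
    simp only [xb, ← gword_append] at this
    exact this

theorem Rt.mem_G (g : DU K) : U g ∈ twistedD4 K q := by
  obtain ⟨h1, h2, h3, h4⟩ := gens hq
  obtain ⟨k1, k2, -⟩ := na_rel (K := K)
  obtain ⟨l1, -, -, l4, -⟩ := nb_rel (K := K)
  have c : ∀ {n x y : GL chevD4.Idx K}, n * x = y * n → n ∈ twistedD4 K q → x ∈ twistedD4 K q → y ∈ twistedD4 K q :=
    fun e hn hx => (Subgroup.mul_mem_cancel_right _ hn).1 (e ▸ mul_mem hn hx)
  have h5 := fun t => c (l1 t) h4 (h1 t)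
  have h6 := fun t => c (k1 t) h3 (h2 t)
  exact h.mem h1 h2 h5 (fun t => neg_neg t ▸ c (k2 (-t)) h3 (h5 _)) h6 (fun t => c (l4 t) h4 (h6 t)) g

omit h hq [Tri K] in
theorem glMap_mem (φ : K →+* K) {g : GL chevD4.Idx K} (hg : g ∈ twistedD4 K q) :
    H39.glMap chevD4 φ g ∈ twistedD4 K q := by
  refine gen_le isChev_D4 (K := (twistedD4 K q).comap (H39.glMap chevD4 φ)) ?_ hg
  rintro _ (⟨t, ht, r, hr, rfl⟩ | ⟨t, r, hr, rfl⟩) <;> rw [Subgroup.mem_comap, H64.glMap_gword]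
  · exact gword_mem_gen _ (Or.inl ⟨φ t, by rw [← map_pow, ht], r, hr, rfl⟩)
  · exact gword_mem_gen _ (Or.inr ⟨φ t, r, hr, by simp⟩)

omit h hq [Tri K] in
/-- the field automorphisms -/
noncomputable def fldG (K : Type*) [Field K] (q : ℕ) : RingAut K →* MulAut (twistedD4 K q) where
  toFun φ :=
    { toFun := fun g => ⟨_, glMap_mem (φ : K →+* K) g.2⟩
      invFun := fun g => ⟨_, glMap_mem (φ.symm : K →+* K) g.2⟩
      left_inv := fun g => by ext i j; simp [H39.glMap_coe]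
      right_inv := fun g => by ext i j; simp [H39.glMap_coe]
      map_mul' := fun g k => Subtype.ext (map_mul _ _ _) }
  map_one' := by ext g i j; simp [H39.glMap_coe]
  map_mul' φ ψ := by ext g i j; simp [H39.glMap_coe]

end MD

open Cfsg.Lie Cfsg.Agent.H37 Cfsg.Agent.H40 FK MD in
theorem model {K : Type*} [Field K] [Fintype K] (p : ℕ) [Fact p.Prime] [CharP K p] {n : ℕ} (hn : 1 ≤ n)
    (hK : Fintype.card K = (p ^ n) ^ 3) : ∃ (_ : Tri K) (u : DU K →* twistedD4 K (p ^ n)), Md p u ∧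
      Finite (twistedD4 K (p ^ n)) := by
  have hp : p.Prime := Fact.out
  have hq : IsPrimePow (p ^ n) := hp.isPrimePow.pow (by omega)
  obtain ⟨φ, hφ⟩ := exists_frob hq hK
  have h3 := frob_iter_self hK hφ
  have c1 := card_fix_one hq hK hφ
  let _ : Tri K := ⟨φ, h3, ⟨_, hφ⟩, by
    by_contra! e
    rw [Nat.card_congr (Equiv.subtypeUnivEquiv (p := fun t => φ^[1] t = t) e), Nat.card_eq_fintype_card, hK] at c1
    exact absurd (Nat.pow_right_injective hq.two_le (c1.trans (pow_one _).symm)) (by decide)⟩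
  have e := Fix_D4 h3 hφ
  have hd : p ∣ p ^ n := dvd_pow_self p (by omega)
  have hx := (TD φ).hx_ox (TD_e φ) orbD4
  obtain ⟨U, h⟩ := exists_rt (K := K)
  let u : DU K →* twistedD4 K (p ^ n) := U.codRestrict _ (h.mem_G hφ)
  have hu : Function.Injective u := fun a b e => h.inj (congrArg Subtype.val e)
  have c2 : Nat.card (DU K) = (p ^ n) ^ 12 := by
    rw [card_DU, show Nat.card (Fx K) = p ^ n from c1, Nat.card_eq_fintype_card, hK]; ring
  have c3 : U.range = (SD K).U ⊓ twistedD4 K (p ^ n) := Subgroup.eq_of_le_of_card_ge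
    (by rintro _ ⟨g, rfl⟩; exact ⟨h.mem_U g, h.mem_G hφ g⟩) (by
      rw [matRel_U, card_U1_D4 hq hK hφ, ← c2]
      exact (Nat.card_congr (MonoidHom.ofInjective h.inj).toEquiv).le)
  obtain ⟨-, -, g3, g4⟩ := gens (K := K) hφ
  refine ⟨_, u, ⟨hu, ?_, fun g hg => ?_, ⟨⟨_, g3⟩, fun a ha => Subtype.ext (h.nu a ha)⟩,
    ⟨⟨_, g4⟩, fun a ha => Subtype.ext (h.mu a ha)⟩, fldG K _, fun φ a => Subtype.ext (h.fld φ a)⟩, inferInstance⟩
  · have hi := u.range.card_mul_index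
    rw [← Nat.card_congr (MonoidHom.ofInjective hu).toEquiv, c2, card_D4 hq hK hφ, mul_assoc, mul_assoc,
      Nat.mul_right_inj (pow_pos hq.pos _).ne'] at hi
    rw [hi]
    simp only [hp.dvd_mul, not_or]
    exact ⟨H64.not_dvd_pow_sub_one hp hd hq.pos (by decide), H64.not_dvd_pow_sub_one hp hd hq.pos (by decide),
      H64.not_dvd_add_one hp (dvd_add (dvd_pow hd (by decide)) (dvd_pow hd (by decide)))⟩
  · have hf : g.1 ∈ (TD φ).mt.Fix := e.ge g.2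
    obtain ⟨x, x1, x2, y, y1, y2, e'⟩ := (TD φ).mt.mem_B_fix (H64.mem_B_of_norm hx hf fun v v1 v2 => by
      obtain ⟨a, rfl⟩ : v ∈ U.range := c3 ▸ ⟨(TD φ).mt_U ▸ v1, e ▸ v2⟩
      obtain ⟨b, hb⟩ := hg a
      have hb' : U b = g.1 * U a * g.1⁻¹ := congrArg Subtype.val hb
      exact Subgroup.mem_sup_left ((TD φ).mt_U.ge (hb' ▸ h.mem_U b))) hf
    obtain ⟨s, rfl⟩ : x ∈ U.range := c3 ▸ ⟨(TD φ).mt_U ▸ x1, e ▸ x2⟩
    obtain ⟨k, rfl⟩ : y ∈ (dh φ).range := range_dh h3 ▸ ⟨y1, y2⟩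
    obtain ⟨k', hk⟩ := h.tor k
    refine ⟨s, k', fun a => Subtype.ext ?_⟩
    change g.1 * U a * g.1⁻¹ = U _
    rw [e', map_mul, map_mul, map_inv, ← hk, mul_inv_rev]
    simp only [mul_assoc]
    rfl

end Cfsg.Agent.TDF
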