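import Cfsg.Agent.TDF.U

/-! Project TDF: automorphisms, the module `Q / Z`, normal forms.  See `notes/TDF.md`. -/

set_option autoImplicit false
set_option linter.unusedSectionVars false

namespace Cfsg.Agent.TDF

open FK RFS
open scoped commutatorElement

variable {K : Type*} [Field K] [Tri K]

theorem map_tr (φ : RingAut K) (x : K) : φ (tr x) = tr (φ x) := by simp [tr, map_σ]
theorem map_nr (φ : RingAut K) (x : K) : φ (nr x) = nr (φ x) := by simp [nr, map_σ]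
theorem map_sh (φ : RingAut K) (x : K) : φ (sh x) = sh (φ x) := by simp [sh, map_σ]
theorem map_cr (φ : RingAut K) (x y : K) : φ (cr x y) = cr (φ x) (φ y) := by simp [cr, map_σ]

/-- the fixed field has more than two elements -/
def Big (K : Type*) [Field K] [Tri K] : Prop := ∃ t : Fx K, t ≠ 0 ∧ t ≠ 1

/-- `φ` fixes the fixed field -/
def Gal (φ : RingAut K) : Prop := ∀ t : Fx K, φ t = t

/-- the torus -/
abbrev Tor (K : Type*) [Field K] [Tri K] := Kˣ × (Fx K)ˣ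

/-- first parameter -/
def Tor.α (k : Tor K) : K := k.1
/-- second parameter -/
def Tor.μ (k : Tor K) : K := (k.2 : Fx K)

theorem Tor.α_ne (k : Tor K) : k.α ≠ 0 := k.1.ne_zero
theorem Tor.μ_ne (k : Tor K) : k.μ ≠ 0 := fun h => k.2.ne_zero (Subtype.ext h)
@[simp] theorem Tor.σ_μ (k : Tor K) : σ k.μ = k.μ := σ_Fx _
@[simp] theorem Tor.coe_fst (k : Tor K) : (k.1 : K) = k.α := rfl
@[simp] theorem Tor.coe_snd (k : Tor K) : ((k.2 : Fx K) : K) = k.μ := rfl
@[simp] theorem Tor.α_mk (a : Kˣ) (m : (Fx K)ˣ) : Tor.α (a, m) = a := rfl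
@[simp] theorem Tor.μ_mk (a : Kˣ) (m : (Fx K)ˣ) : Tor.μ (a, m) = (m : Fx K) := rfl
@[simp] theorem Tor.α_one : Tor.α (1 : Tor K) = 1 := rfl
@[simp] theorem Tor.μ_one : Tor.μ (1 : Tor K) = 1 := rfl
@[simp] theorem Tor.α_mul (k k' : Tor K) : (k * k').α = k.α * k'.α := rfl
@[simp] theorem Tor.μ_mul (k k' : Tor K) : (k * k').μ = k.μ * k'.μ := rfl
@[simp] theorem Tor.α_inv (k : Tor K) : k⁻¹.α = k.α⁻¹ := Units.val_inv_eq_inv_val k.1
@[simp] theorem Tor.μ_inv (k : Tor K) : k⁻¹.μ = k.μ⁻¹ := congrArg Subtype.val (Units.val_inv_eq_inv_val k.2)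
theorem Tor.ext' {k k' : Tor K} (h1 : k.α = k'.α) (h2 : k.μ = k'.μ) : k = k' :=
  Prod.ext (Units.ext h1) (Units.ext (Subtype.ext h2))

/-- the inclusion of the unit groups -/
def inc : (Fx K)ˣ →* Kˣ := Units.map (Fx K).subtype.toMonoidHom

@[simp] theorem coe_inc (l : (Fx K)ˣ) : ((inc l : Kˣ) : K) = (l : Fx K) := rfl

/-- the norm on units -/
def nru : Kˣ →* (Fx K)ˣ := Units.map (MonoidHom.mk ⟨nrF, Subtype.ext nr_one⟩ fun x y =>
  Subtype.ext (by simp [nr]; ring))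

@[simp] theorem coe_nru (β : Kˣ) : (((nru β : (Fx K)ˣ) : Fx K) : K) = nr (β : K) := rfl

/-- diagonal automorphisms -/
@[simps] def tor (k : Tor K) (g : DU K) : DU K :=
  ⟨k.α * g.a, k.μ * g.b, k.μ * k.α * g.c, k.μ * sh k.α * g.d, k.μ * nr k.α * g.e, k.μ ^ 2 * nr k.α * g.z,
    by simp, by simp, by simp⟩

theorem tor_mul (k : Tor K) (g h : DU K) : tor k (g * h) = tor k g * tor k h := by
  ext <;> simp [tr, nr, sh, cr] <;> ring

theorem tor_tor (k k' : Tor K) (g : DU K) : tor k (tor k' g) = tor (k * k') g := by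
  ext <;> simp [nr, sh] <;> ring

@[simp] theorem tor_one (g : DU K) : tor 1 g = g := by ext <;> simp

/-- diagonal automorphisms -/
def torA : Tor K →* MulAut (DU K) where
  toFun k :=
    { toFun := tor k
      invFun := tor k⁻¹
      left_inv := fun g => by rw [tor_tor, inv_mul_cancel, tor_one]
      right_inv := fun g => by rw [tor_tor, mul_inv_cancel, tor_one]
      map_mul' := tor_mul k }
  map_one' := MulEquiv.ext tor_one
  map_mul' k k' := MulEquiv.ext fun g => (tor_tor k k' g).symm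

@[simp] theorem torA_apply (k : Tor K) (g : DU K) : torA k g = tor k g := rfl

/-- field automorphisms -/
@[simps] def fld (φ : RingAut K) (g : DU K) : DU K :=
  ⟨φ g.a, φ g.b, φ g.c, φ g.d, φ g.e, φ g.z, by simp [← map_σ], by simp [← map_σ], by simp [← map_σ]⟩

theorem fld_mul (φ : RingAut K) (g h : DU K) : fld φ (g * h) = fld φ g * fld φ h := by
  ext <;> simp [map_tr, map_nr, map_sh, map_cr]

/-- field automorphisms -/
def fldA : RingAut K →* MulAut (DU K) where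
  toFun φ :=
    { toFun := fld φ
      invFun := fld φ.symm
      left_inv := fun g => by ext <;> simp
      right_inv := fun g => by ext <;> simp
      map_mul' := fld_mul φ }
  map_one' := rfl
  map_mul' _ _ := rfl

@[simp] theorem fldA_apply (φ : RingAut K) (g : DU K) : fldA φ g = fld φ g := rfl

/-- the reflection in `a`, on `Q` -/
@[simps] def nu (g : DU K) : DU K :=
  ⟨0, -g.e, g.d, -g.c, g.b, g.z + g.b * g.e - tr (g.c * g.d), by simp, by simp, by simp⟩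

/-- the reflection in `b`, on `T` -/
@[simps] def mu (g : DU K) : DU K :=
  ⟨-g.c, 0, g.a, g.d - cr g.a g.c, tr (g.a * sh g.c) - g.z, g.e - tr (sh g.a * g.c), by simp, by simp, by simp⟩

theorem au_nu [Finite K] : Au (sQ : Subgroup (DU K)) nu :=
  .of_inj (fun _ _ => rfl) (fun g hg h hh => by
    rw [mem_sQ] at hg hh
    ext <;> simp [hh, tr] <;> ring) fun g hg h hh e => by
    have e1 := congrArg DU.b e
    have e2 := congrArg DU.c e
    have e3 := congrArg DU.d e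
    have e4 := congrArg DU.e e
    have e5 := congrArg DU.z e
    rw [mem_sQ] at hg hh
    clear e
    simp only [nu_b, nu_c, nu_d, nu_e, nu_z, neg_inj] at e1 e2 e3 e4 e5
    rw [e1, e2, e3, e4, sub_left_inj, add_left_inj] at e5
    exact DU.ext (hg.trans hh.symm) e4 e3 e2 e1 e5

theorem au_mu [Finite K] : Au (sT : Subgroup (DU K)) mu :=
  .of_inj (fun _ _ => rfl) (fun g hg h hh => by
    rw [mem_sT] at hg hh
    ext <;> simp [hg, hh, tr, sh, cr, nr] <;> ring) fun g hg h hh e => by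
    have e1 := congrArg DU.a e
    have e2 := congrArg DU.c e
    have e3 := congrArg DU.d e
    have e4 := congrArg DU.e e
    have e5 := congrArg DU.z e
    rw [mem_sT] at hg hh
    clear e
    simp only [mu_a, mu_c, mu_d, mu_e, mu_z, neg_inj] at e1 e2 e3 e4 e5
    rw [e1, e2] at e3 e4 e5
    exact DU.ext e2 (hg.trans hh.symm) e1 (sub_left_inj.1 e3) (sub_left_inj.1 e5) (sub_right_inj.1 e4)

/-- the action of the reflection in `a` on the torus -/
def tN (k : Tor K) : Tor K := (k.1⁻¹, k.2 * nru k.1)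
/-- the action of the reflection in `b` on the torus -/
def tM (k : Tor K) : Tor K := (inc k.2 * k.1, k.2⁻¹)
/-- the coroot of `b` -/
def hb (l : (Fx K)ˣ) : Tor K := ((inc l)⁻¹, l ^ 2)
/-- the coroot of `a` -/
def ha (β : Kˣ) : Tor K := (β ^ 2, (nru β)⁻¹)

@[simp] theorem tN_α (k : Tor K) : (tN k).α = k.α⁻¹ := by simp [tN]
@[simp] theorem tN_μ (k : Tor K) : (tN k).μ = k.μ * nr k.α := rfl
@[simp] theorem tM_α (k : Tor K) : (tM k).α = k.μ * k.α := rfl
@[simp] theorem tM_μ (k : Tor K) : (tM k).μ = k.μ⁻¹ := by simp [tM]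
@[simp] theorem hb_α (l : (Fx K)ˣ) : (hb l).α = ((l : Fx K) : K)⁻¹ := by simp [hb]
@[simp] theorem hb_μ (l : (Fx K)ˣ) : (hb l).μ = ((l : Fx K) : K) ^ 2 := by simp [hb]
@[simp] theorem ha_α (β : Kˣ) : (ha β).α = (β : K) ^ 2 := by simp [ha]
@[simp] theorem ha_μ (β : Kˣ) : (ha β).μ = (nr (β : K))⁻¹ := by simp [ha]

theorem nu_tor (k : Tor K) (g : DU K) : nu (tor k g) = tor (tN k) (nu g) := by
  have := k.α_ne
  have h1 : σ k.α ≠ 0 := by simpa using this
  have h2 : σ (σ k.α) ≠ 0 := by simpa using this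
  ext <;> simp only [nu_a, nu_b, nu_c, nu_d, nu_e, nu_z, tor_a, tor_b, tor_c, tor_d, tor_e, tor_z, tN_α, tN_μ, tr,
    sh, nr, map_mul, map_inv₀, cube, Tor.σ_μ, mul_zero] <;> field_simp

theorem mu_tor (k : Tor K) (g : DU K) : mu (tor k g) = tor (tM k) (mu g) := by
  have := k.μ_ne
  ext <;> simp only [mu_a, mu_b, mu_c, mu_d, mu_e, mu_z, tor_a, tor_b, tor_c, tor_d, tor_e, tor_z, tM_α, tM_μ, tr,
    sh, nr, cr, map_mul, cube, Tor.σ_μ, mul_zero] <;> field_simp

/-- the module `Q / Z` -/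
abbrev VV (K : Type*) [Field K] [Tri K] := Fx K × K × K × Fx K

/-- the projection `Q → Q / Z` -/
def pr (g : DU K) : VV K := (⟨g.b, g.hb⟩, g.c, g.d, ⟨g.e, g.he⟩)

/-- a section of `pr` -/
@[simps] def sec (v : VV K) : DU K := ⟨0, v.1, v.2.1, v.2.2.1, v.2.2.2, 0, by simp, by simp, by simp⟩

/-- the symplectic form -/
def om (v w : VV K) : K := v.1 * w.2.2.2 - v.2.2.2 * w.1 - tr (v.2.1 * w.2.2.1) + tr (v.2.2.1 * w.2.1)

/-- the quadratic form in characteristic two -/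
def ka (v : VV K) : K := v.1 * v.2.2.2 + tr (v.2.1 * v.2.2.1)

/-- the action of `x_a(t)⁻¹` -/
def xv (t : K) (v : VV K) : VV K :=
  (v.1, v.2.1 + v.1 * t, v.2.2.1 + cr t v.2.1 + v.1 * sh t,
    v.2.2.2 + trF (t * v.2.2.1) + trF (sh t * v.2.1) + v.1 * nrF t)

/-- the action of the torus -/
def torV (k : Tor K) (v : VV K) : VV K :=
  (k.2 * v.1, k.μ * k.α * v.2.1, k.μ * sh k.α * v.2.2.1, k.2 * nrF k.α * v.2.2.2)

/-- the action of a Galois automorphism -/
def galV (φ : RingAut K) (v : VV K) : VV K := (v.1, φ v.2.1, φ v.2.2.1, v.2.2.2)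

/-- the action of the reflection -/
def nuV (v : VV K) : VV K := (-v.2.2.2, v.2.2.1, -v.2.1, v.1)

/-- the fixed vector -/
def e0 : VV K := (0, 0, 0, 1)
/-- the opposite vector -/
def b0 : VV K := (1, 0, 0, 0)

theorem pr_sec (v : VV K) : pr (sec v) = v := rfl

theorem pr_conj (s : DU K) {g : DU K} (hg : g ∈ (sQ : Subgroup (DU K))) : pr (s * g * s⁻¹) = xv (-s.a) (pr g) := by
  rw [mem_sQ] at hg
  ext <;> simp [pr, xv, hg, tr, sh, cr, nr] <;> ring

theorem pr_tor (k : Tor K) (g : DU K) : pr (tor k g) = torV k (pr g) := by ext <;> simp [pr, torV]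

theorem pr_nu (g : DU K) : pr (nu g) = nuV (pr g) := by ext <;> simp [pr, nuV]

/-- linear automorphisms of the module -/
abbrev GV (K : Type*) [Field K] [Tri K] := VV K ≃ₗ[Fx K] VV K

/-- the function `f` is an element of `𝓛` -/
def Has (𝓛 : Subgroup (GV K)) (f : VV K → VV K) : Prop := ∃ g ∈ 𝓛, ∀ v, g v = f v

/-- `g` fixes the point `y` -/
def Fy (g : GV K) : Prop := ∃ t : Fx K, g e0 = t • e0

/-- what is known of the linear group induced on `Q / Z` -/
structure Lin (𝓛 : Subgroup (GV K)) : Prop where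
  sim : ∀ g ∈ 𝓛, ∃ m : Fx K, m ≠ 0 ∧ ∀ v w, om (g v) (g w) = m * om v w
  x : ∀ t, Has 𝓛 (xv t)
  std : ∀ g ∈ 𝓛, Fy g → ∃ (t : K) (k : Tor K) (φ : RingAut K), Gal φ ∧ ∀ v, g v = xv t (torV k (galV φ v))
  ti : ∀ g ∈ 𝓛, ∀ t : K, t ≠ 0 → (∃ s : Fx K, xv t (g e0) = s • g e0) → Fy g
  hb : ∀ l, Has 𝓛 (torV (hb l))
  sing : (2 : K) = 0 → ∀ g ∈ 𝓛, ka (g e0) = 0
  tau : ¬ Big K → ∀ α, Has 𝓛 (torV (α, 1))
  ne : ∃ g ∈ 𝓛, ¬ Fy g

variable {G : Type*} [Group G]

/-- the linear maps induced on `Q / Z` -/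
def LQ (u : DU K →* G) : Subgroup (GV K) where
  carrier := {g | ∃ f, Fa u sQ f ∧ ∀ a ∈ (sQ : Subgroup (DU K)), pr (f a) = g (pr a)}
  one_mem' := ⟨_, Fa.id u _, fun _ _ => rfl⟩
  mul_mem' := fun ⟨_, hf, e⟩ ⟨_, hf', e'⟩ => ⟨_, hf.comp hf', fun a ha => by
    rw [e _ (hf'.au.mem a ha), e' a ha]; rfl⟩
  inv_mem' := fun {g} ⟨_, hf, e⟩ => let ⟨f', h1, _, h3⟩ := hf.exists_inv
    ⟨f', h1, fun a ha => g.injective (by
      rw [← e _ (h1.au.mem a ha), h3 a ha]; exact (g.apply_symm_apply _).symm)⟩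

/-- what is used of saturation -/
structure Ctx (p : ℕ) (u : DU K →* G) : Prop where
  two : Two p u sQ sT
  extQ : ∀ f, Fa u sQ f → (∀ y ∈ (sY : Subgroup (DU K)), f y ∈ (sY : Subgroup (DU K))) → Ext u sQ f
  extT : ∀ f, Fa u sT f → (∀ y ∈ (sZ : Subgroup (DU K)), f y ∈ (sZ : Subgroup (DU K))) → Ext u sT f

/-- `Q` is essential -/
def EssQ (u : DU K →* G) : Prop := ∃ f, Fa u sQ f ∧ ¬ Ext u sQ f

/-- `T` is essential -/
def EssT (u : DU K →* G) : Prop := ∃ f, Fa u sT f ∧ ¬ Ext u sT f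

/-- the automorphisms of `S` are inner, diagonal and field automorphisms -/
def Std (u : DU K →* G) : Prop :=
  ∀ F, Fa u ⊤ F → ∃ (s : DU K) (k : Tor K) (φ : RingAut K), ∀ a, F a = s * tor k (fld φ a) * s⁻¹

/-- `μ` acts as the reflection on `Y` and trivially on `Z₃ / Y` -/
structure SwT (u : DU K →* G) (μ : DU K → DU K) : Prop where
  fa : Fa u sT μ
  y : ∀ y ∈ (sY : Subgroup (DU K)), μ y = mu y
  d : ∀ w ∈ (sZ3 : Subgroup (DU K)), (μ w).d = w.d

/-- the normal form -/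
structure NF (p : ℕ) (u : DU K →* G) : Prop where
  ctx : Ctx p u
  std : Std u
  tor : ∀ k, In u ⊤ (tor k)
  nu : In u sQ nu
  mu : In u sT mu
  orb : ∀ f, Fa u sQ f → (∀ y ∈ (sY : Subgroup (DU K)), f y ∈ (sY : Subgroup (DU K))) ∨
    ∃ s : DU K, ∀ y ∈ (sY : Subgroup (DU K)), s * f y * s⁻¹ ∈ (sY0 : Subgroup (DU K))

/-- the model -/
structure Md (p : ℕ) (u : DU K →* G) : Prop where
  inj : Function.Injective u
  syl : ¬ p ∣ u.range.index
  norm : ∀ g : G, (∀ a, g * u a * g⁻¹ ∈ u.range) → ∃ s k, ∀ a, g * u a * g⁻¹ = u (s * tor k a * s⁻¹)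
  nu : In u sQ nu
  mu : In u sT mu
  fld : ∃ θ : RingAut K →* MulAut G, ∀ φ a, θ φ (u a) = u (fld φ a)

end Cfsg.Agent.TDF
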