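import Cfsg.Agent.TDF.Defs

/-! Project TDF: orbits on `Q / Z`, standard automorphisms.  See `notes/TDF.md`. -/

set_option autoImplicit false
set_option linter.unusedSectionVars false

namespace Cfsg.Agent.TDF

open FK RFS

variable {K : Type*} [Field K] [Tri K]

/-- `v` spans a point of the orbit of `y` -/
def Ob (𝓛 : Subgroup (GV K)) (v : VV K) : Prop := ∃ g ∈ 𝓛, ∃ s : Fx K, s ≠ 0 ∧ v = s • g e0

/-- no other point of the orbit is perpendicular to `y` -/
def NP (𝓛 : Subgroup (GV K)) : Prop := ∀ v, Ob 𝓛 v → v.1 = 0 → v.2.1 = 0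

/-- the orbit is the standard one -/
def Orb (𝓛 : Subgroup (GV K)) : Prop :=
  ∀ v, Ob 𝓛 v → (∃ s : Fx K, v = s • e0) ∨ ∃ (t : K) (s : Fx K), xv t v = s • b0

/-- `ν` interchanges the two points -/
structure Sw (𝓛 : Subgroup (GV K)) (ν : GV K) : Prop where
  mem : ν ∈ 𝓛
  e : ∃ s : Fx K, ν e0 = s • b0
  b : ∃ s : Fx K, ν b0 = s • e0

/-- the inverse of `nuV` -/
def nuI (v : VV K) : VV K := (v.2.2.2, -v.2.2.1, v.2.1, -v.1)

theorem nuV_nuI (v : VV K) : nuV (nuI v) = v := by simp [nuV, nuI]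
theorem nuI_nuV (v : VV K) : nuI (nuV v) = v := by simp [nuV, nuI]

theorem xv_xv (s t : K) (v : VV K) : xv s (xv t v) = xv (s + t) v := by
  ext <;> simp [xv, tr, sh, cr, nr] <;> ring

@[simp] theorem xv_zero (v : VV K) : xv 0 v = v := by ext <;> simp [xv]

theorem om_xv (t : K) (v w : VV K) : om (xv t v) (xv t w) = om v w := by
  simp [om, xv, tr, sh, cr, nr]; ring

theorem torV_torV (k k' : Tor K) (v : VV K) : torV k (torV k' v) = torV (k * k') v := by
  ext <;> simp [torV, sh, nr] <;> ring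

@[simp] theorem torV_one (v : VV K) : torV 1 v = v := by ext <;> simp [torV]

theorem torV_xv (k : Tor K) (t : K) (v : VV K) : torV k (xv t v) = xv (k.α * t) (torV k v) := by
  ext <;> simp [torV, xv, tr, sh, cr, nr] <;> ring

theorem galV_xv {φ : RingAut K} (h : Gal φ) (t : K) (v : VV K) : galV φ (xv t v) = xv (φ t) (galV φ v) := by
  have h1 : ∀ x, φ (tr x) = tr x := fun x => h (trF x)
  have h2 : ∀ x, φ (nr x) = nr x := fun x => h (nrF x)
  ext <;> simp [galV, xv, map_cr, map_sh, h v.1]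
  rw [← h1 (t * _), ← h1 (sh t * _), ← h2 t, map_tr, map_tr, map_nr, map_mul, map_mul, map_sh]

theorem n_eq (β : Kˣ) (v : VV K) :
    xv (β : K) (nuV (xv (β : K)⁻¹ (nuI (xv (β : K) v)))) = torV (ha β) (nuV v) := by
  have h0 : (β : K) ≠ 0 := β.ne_zero
  have h1 : σ (β : K) ≠ 0 := by simp
  have h2 : σ (σ (β : K)) ≠ 0 := by simp
  ext <;> simp [xv, nuV, nuI, torV, tr, sh, cr, nr] <;> field_simp <;> ring

/-- the action of field automorphisms on the torus -/
def tφ (φ : RingAut K) (k : Tor K) : Tor K :=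
  (Units.map (φ : K →* K) k.1, Units.mk0 ⟨φ k.μ, by rw [mem_Fx, ← map_σ, Tor.σ_μ]⟩
    fun h => k.μ_ne (φ.injective ((congrArg Subtype.val h).trans (map_zero φ).symm)))

@[simp] theorem tφ_α (φ : RingAut K) (k : Tor K) : (tφ φ k).α = φ k.α := rfl
@[simp] theorem tφ_μ (φ : RingAut K) (k : Tor K) : (tφ φ k).μ = φ k.μ := rfl

theorem fld_tor (φ : RingAut K) (k : Tor K) : fldA φ * torA k = torA (tφ φ k) * fldA φ := by
  ext g <;> simp [map_sh, map_nr]

/-- diagonal times field automorphisms -/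
def St : Subgroup (MulAut (DU K)) where
  carrier := {x | ∃ k φ, x = torA k * fldA φ}
  one_mem' := ⟨1, 1, by simp⟩
  mul_mem' := by
    rintro _ _ ⟨k, φ, rfl⟩ ⟨k', φ', rfl⟩
    exact ⟨k * tφ φ k', φ * φ', by
      rw [map_mul, map_mul, mul_assoc, ← mul_assoc (fldA φ), fld_tor]; simp only [mul_assoc]⟩
  inv_mem' := by
    rintro _ ⟨k, φ, rfl⟩
    exact ⟨tφ φ⁻¹ k⁻¹, φ⁻¹, by rw [mul_inv_rev, ← map_inv, ← map_inv, fld_tor]⟩

theorem mem_St {x : MulAut (DU K)} : x ∈ (St : Subgroup _) ↔ ∃ k φ, x = torA k * fldA φ := Iff.rfl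

/-- the automorphisms that are trivial modulo the derived group -/
def A1 : Subgroup (MulAut (DU K)) where
  carrier := {x | ∀ g, (x g).a = g.a ∧ (x g).b = g.b}
  one_mem' := fun _ => ⟨rfl, rfl⟩
  mul_mem' := fun {x y} hx hy g => ⟨(hx (y g)).1.trans (hy g).1, (hx (y g)).2.trans (hy g).2⟩
  inv_mem' := fun {x} hx g => by
    have := hx (x⁻¹ g)
    rw [MulAut.apply_inv_self] at this
    exact ⟨this.1.symm, this.2.symm⟩

theorem mem_A1 {x : MulAut (DU K)} : x ∈ (A1 : Subgroup _) ↔ ∀ g, (x g).a = g.a ∧ (x g).b = g.b := Iff.rfl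

theorem A1_inf_St : (A1 ⊓ St : Subgroup (MulAut (DU K))) = ⊥ := by
  refine eq_bot_iff.2 ?_
  rintro _ ⟨h, k, φ, rfl⟩
  have h1 : ∀ t, k.α * φ t = t := fun t => by simpa using (h (XA t)).1
  have h2 : k.μ = 1 := by simpa using (h (XB 1)).2
  have h3 : k.α = 1 := by simpa using h1 1
  obtain rfl : k = 1 := Tor.ext' h3 h2
  obtain rfl : φ = 1 := RingEquiv.ext fun t => by simpa using h1 t
  simp

/-- the field automorphisms that occur -/
def fldS {G : Type*} [Group G] (u : DU K →* G) : Subgroup (RingAut K) where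
  carrier := {φ | In u ⊤ (fld φ)}
  one_mem' := (In.id u ⊤).congr fun _ _ => rfl
  mul_mem' := fun ha hb => (In.comp ha hb fun _ _ => trivial).congr fun _ _ => rfl
  inv_mem' := fun {φ} ha => In.of_inv ha (fun _ _ => trivial) fun b _ => (fldA φ).apply_symm_apply b

/-- root elements satisfying the commutator relations -/
structure Rl {G : Type*} [Group G] (xa xc xd : K → G) (xb xe xz : Fx K → G) : Prop where
  aa : ∀ s t, xa (s + t) = xa s * xa t
  bb : ∀ s t, xb (s + t) = xb s * xb t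
  cc : ∀ s t, xc (s + t) = xc s * xc t
  dd : ∀ s t, xd (s + t) = xd s * xd t
  ee : ∀ s t, xe (s + t) = xe s * xe t
  zz : ∀ s t, xz (s + t) = xz s * xz t
  ba : ∀ s t, xb s * xa t = xa t * xb s * xc (s * t) * xd (s * sh t) * xe (s * nrF t) * xz (s ^ 2 * nrF t)
  ca : ∀ s t, xc s * xa t = xa t * xc s * xd (cr t s) * xe (trF (sh t * s)) * xz (trF (t * sh s))
  da : ∀ s t, xd s * xa t = xa t * xd s * xe (trF (t * s))
  ea : ∀ s t, xe s * xa t = xa t * xe s
  za : ∀ s t, xz s * xa t = xa t * xz s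
  cb : ∀ s t, xc s * xb t = xb t * xc s
  db : ∀ s t, xd s * xb t = xb t * xd s
  eb : ∀ s t, xe s * xb t = xb t * xe s * xz (-(s * t))
  zb : ∀ s t, xz s * xb t = xb t * xz s
  dc : ∀ s t, xd s * xc t = xc t * xd s * xz (trF (s * t))
  ec : ∀ s t, xe s * xc t = xc t * xe s
  zc : ∀ s t, xz s * xc t = xc t * xz s
  ed : ∀ s t, xe s * xd t = xd t * xe s
  zd : ∀ s t, xz s * xd t = xd t * xz s
  ze : ∀ s t, xz s * xe t = xe t * xz s

end Cfsg.Agent.TDF
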