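import Cfsg.Agent.TDF.Bas
import Cfsg.Agent.FK.FF

/-! Project TDF: subgroups of `Q`; no pairs with an invariant root group.  See `notes/TDF.md`. -/

set_option autoImplicit false
set_option linter.unusedSectionVars false

namespace Cfsg.Agent.TDF

open FK RFS
open scoped commutatorElement

variable {K : Type*} [Field K] [Tri K] [Finite K] {p : ℕ} [Fact p.Prime] [CharP K p] {G : Type*} [Group G]
  [Finite G] {u : DU K →* G} {E : Subgroup (DU K)} {L : Subgroup G}

namespace IA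

omit [Finite K]

/-- the commutator form -/
def w (g h : DU K) : K := g.b * h.e - g.e * h.b - tr (g.c * h.d) + tr (g.d * h.c)

/-- scalar multiples -/
@[simps] def sc (t : Fx K) (g : DU K) : DU K :=
  ⟨0, t * g.b, t * g.c, t * g.d, t * g.e, 0, by simp, by simp, by simp⟩

theorem σ_w (g h : DU K) : σ (w g h) = w g h := by simp [w]

theorem w_sc (t : Fx K) (g h : DU K) : w (sc t g) h = t * w g h := by simp [w, tr]; ring

theorem w_anti (g h : DU K) : w g h = -w h g := by simp [w, tr]; ring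

theorem w_self (g : DU K) : w g g = 0 := by simp [w, tr]; ring

theorem w_mul (g : DU K) {h : DU K} (hh : h ∈ (sQ : Subgroup (DU K))) (k : DU K) :
    w (g * h) k = w g k + w h k := by
  rw [mem_sQ] at hh
  simp [w, tr, hh]; ring

theorem w_inv {g : DU K} (hg : g ∈ (sQ : Subgroup (DU K))) (k : DU K) : w g⁻¹ k = -w g k := by
  rw [mem_sQ] at hg
  simp [w, tr, hg]; ring

theorem comm_eq {g h z : DU K} (hg : g ∈ (sQ : Subgroup (DU K))) (hh : h ∈ (sQ : Subgroup (DU K)))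
    (hz : z ∈ (sZ : Subgroup (DU K))) : ⁅g, h⁆ = z ↔ w g h = z.z := by
  obtain ⟨h1, h2, h3, h4, h5⟩ := c_Q hg hh
  obtain ⟨k1, k2, k3, k4, k5⟩ := hz
  have e : ⁅g, h⁆.z = w g h := (comm_Q hg hh).2
  exact ⟨fun k => by rw [← e, k], fun k => DU.ext (h1.trans k1.symm) (h2.trans k2.symm) (h3.trans k3.symm)
    (h4.trans k4.symm) (h5.trans k5.symm) (e.trans k)⟩

theorem comm_iff {g h : DU K} (hg : g ∈ (sQ : Subgroup (DU K))) (hh : h ∈ (sQ : Subgroup (DU K))) :
    ⁅g, h⁆ = 1 ↔ w g h = 0 := comm_eq hg hh (one_mem _)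

theorem sc_mem (t : Fx K) (g : DU K) : sc t g ∈ (sQ : Subgroup (DU K)) := rfl

theorem w_two {x e e' : DU K} (he : e ∈ (sQ : Subgroup (DU K))) (he' : e' ∈ (sQ : Subgroup (DU K)))
    (h : w e e' = 0) (t t' : Fx K) : w (sc t x * e) (sc t' x * e') = t * w x e' - t' * w x e := by
  rw [w_mul _ he, w_sc, w_anti x, w_mul _ he', w_sc, w_self, w_anti e, w_mul _ he', w_sc, w_anti e', w_anti e', h]
  ring

end IA

open IA

theorem IA.le_of_Z (h : Pr p u E L) (hE : E ≤ sQ) (hZ : Iv u E L sZ) : E = sQ :=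
  le_antisymm hE fun _ hx => h.chain1 hZ (fun _ he => c_Q hx (hE he)) fun b hb => comm_Z b hb _

theorem IA.sc_E (h : Pr p u E L) (hE : E ≤ sQ) (t : Fx K) {g : DU K} (hg : g ∈ E) : sc t g ∈ E := by
  refine h.chain1 (h.iv_om h.iv_bot) (fun e he => Z_le_Om h (c_Q (sc_mem t g) (hE he))) fun v hv => ?_
  have h1 := (comm_iff (hE hg) (hE hv.1)).1 (hv.2.2 g hg)
  exact commutatorElement_eq_one_iff_mul_comm.1 ((comm_iff (sc_mem t g) (hE hv.1)).2 (by rw [w_sc, h1, mul_zero]))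

theorem eqQ (h : Pr p u E L) (hE : E ≤ sQ) : E = sQ := by
  by_cases hab : ∀ g ∈ E, ∀ g' ∈ E, w g g' = 0
  swap
  · push Not at hab
    obtain ⟨g, hg, g', hg', hne⟩ := hab
    refine le_of_Z h hE ?_
    have e : ⁅E, E⁆ = sZ := by
      refine le_antisymm (Subgroup.commutator_le.2 fun a ha b hb => c_Q (hE ha) (hE hb)) fun z hz => ?_
      have := (comm_eq (sc_mem ⟨z.z / w g g', by rw [mem_Fx, map_div₀, σ_w, z.hz]⟩ g) (hE hg') hz).2
        (by rw [w_sc]; exact div_mul_cancel₀ _ hne)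
      rw [← this]
      exact Subgroup.commutator_mem_commutator (sc_E h hE _ hg) hg'
    exact e ▸ h.iv_comm h.iv_top h.iv_top
  by_contra hne
  obtain ⟨x, hx, hxE⟩ := SetLike.exists_of_lt (lt_of_le_of_ne hE hne)
  have hxa : x.a = 0 := hx
  have nm : ∀ y ∈ (sQ : Subgroup (DU K)), Nm E y := fun y hy => .of_comm fun e he => Z_le h (c_Q hy (hE he))
  have out : sc 1 x ∉ E := fun k => hxE <| by
    have := mul_mem k (Z_le h (show (sc 1 x)⁻¹ * x ∈ (sZ : Subgroup (DU K)) by simp [hxa]))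
    rwa [mul_inv_cancel_left] at this
  have o : Off p E ⊥ (Om p E ⊥) (fun t : Fx K => sc t x) fun v => (⟨w x v, σ_w x v⟩ : Fx K) := by
    refine ⟨fun i => nm _ (sc_mem i x), fun i j => Z_le h (c_Q (sc_mem i x) (sc_mem j x)),
      fun i => Z_le h (pow_Q (sc_mem i x)), fun i j k => ?_, ⟨1, out⟩, fun v hv v' hv' e i => ?_⟩
    · by_contra hij
      have h0 : (j : K) - i ≠ 0 := sub_ne_zero.2 fun e => hij (Subtype.ext e).symm
      refine out ?_
      convert sc_E h hE (j - i)⁻¹ k using 1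
      ext <;> simp <;> field_simp <;> ring
    · have e' : w x v = w x v' := congrArg Subtype.val e
      refine (comm_iff (sc_mem i x) (mul_mem (inv_mem (hE hv.1)) (hE hv'.1))).2 ?_
      rw [w_sc, w_anti, w_mul _ (hE hv'.1), w_inv (hE hv.1), w_anti v, w_anti v', e']
      ring
  rcases h.ff (h.sec_om h.iv_bot) o with a | b
  · obtain ⟨L', -, h', hZ⟩ := a.normal sZ bot_le (Z_le_Om h)
    exact hne (le_of_Z h' hE hZ)
  · obtain ⟨c, hc⟩ := tr_surj (one_ne_zero : (1 : K) ≠ 0) 1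
    obtain ⟨t1, e1, m1, k1⟩ := b.gen (XB 1) (nm _ rfl)
    obtain ⟨t2, e2, m2, k2⟩ := b.gen (XE 1) (nm _ rfl)
    obtain ⟨t3, e3, m3, k3⟩ := b.gen (XD 1) (nm _ rfl)
    obtain ⟨t4, e4, m4, k4⟩ := b.gen (XC c) (nm _ rfl)
    have r12 := w_two (x := x) (hE m1) (hE m2) (hab _ m1 _ m2) t1 t2
    have r34 := w_two (x := x) (hE m3) (hE m4) (hab _ m3 _ m4) t3 t4
    have r13 := w_two (x := x) (hE m1) (hE m3) (hab _ m1 _ m3) t1 t3
    have r24 := w_two (x := x) (hE m2) (hE m4) (hab _ m2 _ m4) t2 t4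
    have r14 := w_two (x := x) (hE m1) (hE m4) (hab _ m1 _ m4) t1 t4
    have r23 := w_two (x := x) (hE m2) (hE m3) (hab _ m2 _ m3) t2 t3
    simp only [← k1, ← k2, ← k3, ← k4] at r12 r34 r13 r24 r14 r23
    have s12 : w (XB 1 : DU K) (XE 1) = 1 := by simp [w]
    have s34 : w (XD 1 : DU K) (XC c) = 1 := by simpa [w] using hc
    have s13 : w (XB 1 : DU K) (XD 1) = 0 := by simp [w]
    have s14 : w (XB 1 : DU K) (XC c) = 0 := by simp [w]
    have : w (XB 1 : DU K) (XE 1) * w (XD 1 : DU K) (XC c) - w (XB 1 : DU K) (XD 1) * w (XE 1 : DU K) (XC c)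
        + w (XB 1 : DU K) (XC c) * w (XE 1 : DU K) (XD 1) = 0 := by
      rw [r12, r34, r13, r24, r14, r23]; ring
    rw [s12, s34, s13, s14] at this
    simp at this

theorem noQ (h : Pr p u sQ L) (hY : Iv u sQ L sY) : False := by
  have hZ : Iv u sQ L sZ := h.iv_of (fun _ k => k.1) fun _ hf _ => chQ hf
  have h4 : Iv u sQ L sZ4 := h.iv_cz h.iv_top hY h.iv_bot fun a => by
    refine ⟨fun k => ⟨k.1, fun b hb => commutatorElement_eq_one_iff_mul_comm.2 (comm_YT b hb k.2)⟩,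
      fun k => ⟨k.1, ?_⟩⟩
    have h1 : ⁅a, XE 1⁆ = 1 := k.2 (XE 1) (by simp)
    have h2 := (comm_Z3 (w := XE 1) (by simp) a).2
    rw [h1] at h2
    simpa using h2.symm
  have zy : (sZ : Subgroup (DU K)) ≤ sY := fun _ k => ⟨k.1, k.2.1, k.2.2.1, k.2.2.2.1⟩
  have out : XA 1 ∉ (sQ : Subgroup (DU K)) := by simp
  have o : Off p (sQ : Subgroup (DU K)) sY sZ4 XA fun v => v.c := by
    refine ⟨fun i => .of_normal _ _, fun i j => by simp, fun i => (pow_S _).1, fun i j k => ?_, ⟨1, out⟩,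
      fun v hv v' hv' e i => c_Z3 _ ?_⟩
    · simpa [neg_add_eq_zero] using k
    · have e' : v.c = v'.c := e
      simp [hv.1, hv.2, hv'.1, hv'.2, e']
  rcases h.ff ⟨hY, h4, fun _ k => ⟨k.1, k.2.1⟩, fun v hv => zy (pow_Q hv.1), fun e he v hv => zy (c_Q he hv.1)⟩ o
    with a | b
  · obtain ⟨L', hl, h', h3⟩ := a.normal sZ3 (fun _ k => ⟨k.1, k.2.1, k.2.2.1⟩) fun _ k => ⟨k.1, k.2.1⟩
    exact out (h'.chain (.step (h4.mono hl) (fun b _ => c_S _ b) (.step h3 (fun b hb => c_Z4 _ hb)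
      (.step (hY.mono hl) (fun b hb => c_Z3 _ hb) (.step (hZ.mono hl) (fun b hb => c_Y _ hb)
        (.step h'.iv_bot (fun b hb => commutatorElement_eq_one_iff_mul_comm.2 (comm_Z b hb _)) .bot))))))
  · by_cases h2 : (2 : K) = 0
    · obtain ⟨r, hr⟩ := Tri.ne (K := K)
      have h1 := (b.ti (XA 1) (.of_normal _ _) out (XC 1) (by simp)
        (by simp [cr]; linear_combination -h2) (XA r) (.of_normal _ _)).2.2.2
      simp [cr] at h1
      exact hr (σ_inj (by linear_combination -h1 - σ r * h2))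
    · have hp : p ≠ 2 := fun e => h2 (by
        have := CharP.cast_eq_zero K p
        rw [e] at this
        exact_mod_cast this)
      obtain ⟨t, ht⟩ := tr_surj (one_ne_zero : (1 : K) ≠ 0) 1
      have h1 := (b.quad hp sZ ⟨hZ, h4, fun _ k => ⟨k.1, k.2.1⟩, fun v hv => pow_Q hv.1, fun e he v hv => c_Q he hv.1⟩
        zy (fun x _ v hv => c_Y x hv) (XA t) (.of_normal _ _) (XA 1) (.of_normal _ _) (XC 1) (by simp)).2.2.2.2
      rw [(comm_Z3 (c_Z4 _ (by simp)) _).1] at h1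
      simp [cr, tr] at h1 ht
      refine h2 ?_
      linear_combination h1 - 2 * ht

theorem noT (h : Pr p u sT L) (hZ : Iv u sT L sZ) : False := by
  have h3 : Iv u sT L sZ3 := h.iv_of (fun _ k => k.2.1) fun _ hf _ => (chT hf).2
  have h4 : Iv u sT L sZ4 := h.iv_cz h.iv_top h3 hZ fun a => by
    refine ⟨fun k => ⟨k.2, fun b hb => c_Q k.1 hb.1⟩, fun k => ⟨tr_nondeg fun d => ?_, k.1⟩⟩
    have h1 := (k.2 (XD d) (by simp)).2.2.2.2
    rw [(comm_Z3 (w := XD d) (by simp) a).1] at h1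
    simpa using h1
  have := h.chain2 (x := XB 1) h4 hZ (fun e _ => c_S _ e) (fun b hb => c_Q (by simp) hb.1) fun c hc => comm_Z c hc _
  simp at this

end Cfsg.Agent.TDF
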