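import Cfsg.Agent.TDF.IA

/-! Project TDF: the second centre lies in `E`.  See `notes/TDF.md`. -/

set_option autoImplicit false
set_option linter.unusedSectionVars false

namespace Cfsg.Agent.TDF

open FK RFS
open scoped commutatorElement

variable {K : Type*} [Field K] [Tri K] [Finite K] {p : ℕ} [Fact p.Prime] [CharP K p] {G : Type*} [Group G]
  [Finite G] {u : DU K →* G} {E : Subgroup (DU K)} {L : Subgroup G}

namespace IB

theorem swap {H : Type*} [Group H] {B : Subgroup H} {x y : H} (h : ⁅x, y⁆ ∈ B) : ⁅y, x⁆ ∈ B := by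
  rw [← commutatorElement_inv]; exact inv_mem h

theorem XE_Y (t : Fx K) : XE t ∈ (sY : Subgroup (DU K)) := by simp

theorem shape {g v : DU K} (h2 : (2 : K) ≠ 0) (ha : v.a ≠ 0) (hb : v.b ≠ 0) (hc : v.c = 0)
    (h : ⁅g, v⁆ = 1) : ∃ l m : Fx K, g.a = l * v.a ∧ g.c = m * v.a := by
  have e1 := congrArg DU.c h
  have e2 := congrArg DU.d h
  rw [DU.comm_c, DU.one_c] at e1
  rw [DU.comm_d, DU.one_d, hc] at e2
  obtain ⟨l, hl⟩ : ∃ l : Fx K, g.b = l * v.b :=
    ⟨⟨g.b / v.b, by rw [mem_Fx, map_div₀, g.hb, v.hb]⟩, by simp [hb]⟩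
  have hga : g.a = l * v.a := by
    apply mul_left_cancel₀ hb
    rw [hl] at e1
    linear_combination -e1
  have hσ2 : σ (2 : K) = 2 := map_ofNat _ 2
  refine ⟨l, ⟨v.b * (l ^ 2 - l) / 2, by
    rw [mem_Fx, map_div₀, map_mul, map_sub, map_pow, v.hb, σ_Fx, hσ2]⟩, hga, ?_⟩
  rw [← sub_eq_zero]
  apply cr_inj h2 ha
  rw [hga, hl] at e2
  simp only [cr, sh, map_mul, map_sub, map_div₀, map_pow, σ_Fx, DU.hb, hσ2, map_zero] at e2 ⊢
  field_simp
  linear_combination 2 * e2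

theorem main (h : Pr p u E L) {v : DU K} (hv : v ∈ Om p E ⊥) (ha : v.a ≠ 0) (hb : v.b ≠ 0)
    (hc : v.c = 0) : False := by
  obtain ⟨hvE, hvp, hvc⟩ := mem_Om.1 hv
  simp only [Subgroup.mem_bot] at hvp hvc
  have h2 : (2 : K) ≠ 0 := two_ne (reg_odd (p := p) ha hb (by rw [hvp]; rfl))
  have hY : ∀ w ∈ (sY : Subgroup (DU K)), w ∈ E → w.e = 0 := fun w hw hE => by
    obtain ⟨w1, w2, w3, w4⟩ := hw
    have := ((comm_Z3_iff (g := v) (w := w) ⟨w1, w2, w3⟩).1
      (commutatorElement_eq_one_iff_mul_comm.1 (hvc w hE)).symm).2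
    rw [w4, zero_mul, tr_zero] at this
    exact (mul_eq_zero.1 this).resolve_left hb
  have hout : XE (1 : Fx K) ∉ E := fun hE => by simpa using hY _ (XE_Y 1) hE
  have o : Off p E ⊥ (Om p E ⊥) (XE : Fx K → DU K) fun w => ⟨w.b, w.hb⟩ :=
    { nm := fun i => Nm.of_comm fun e _ => Z_le h (swap (c_Y e (XE_Y i)))
      ab := fun i j => Z_le h (c_Y _ (XE_Y j))
      pow := fun i => by rw [pow_Z3 (by simp)]; exact one_mem _
      inj := fun i j hij => by
        have := hY _ (mul_mem (inv_mem (XE_Y i)) (XE_Y j)) hij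
        simp at this
        exact Subtype.ext (by linear_combination -this)
      out := ⟨1, hout⟩
      fib := fun a _ b _ e i => by
        have e' : a.b = b.b := congrArg Subtype.val e
        rw [Subgroup.mem_bot, commutatorElement_eq_one_iff_mul_comm]
        exact (comm_YT _ (XE_Y i) (by simp [e'])).symm }
  rcases h.ff (h.sec_om h.iv_bot) o with al | be
  · obtain ⟨L', -, h', iz⟩ := al.normal sZ bot_le (Z_le_Om h)
    exact hout (h'.chain1 iz (fun e _ => swap (c_Y e (XE_Y 1))) fun b hb' => comm_Z b hb' _)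
  have hD : ∀ w ∈ (sZ3 : Subgroup (DU K)), tr (v.a * w.d) = 0 → w.e = 0 → w ∈ E := fun w hw h1 h3 =>
    h.cen w fun g hg => by
      obtain ⟨l, m, e1, e2⟩ := shape h2 ha hb hc (hvc g hg)
      refine ((comm_Z3_iff hw).2 ⟨?_, ?_⟩).symm
      · rw [e1, mul_assoc, tr_smul, h1, mul_zero]
      · rw [h3, e2, mul_zero, mul_left_comm, tr_smul, mul_comm w.d, h1, mul_zero]
  obtain ⟨c, c0, c1, -⟩ := perp2 (sh v.a) (sh v.a)
  have hn : Nm E (XC c) := Nm.of_comm fun g hg => swap (by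
    obtain ⟨l, m, e1, e2⟩ := shape h2 ha hb hc (hvc g hg)
    have hz : XC c ∈ (sZ4 : Subgroup (DU K)) := by simp
    refine hD _ (c_Z4 g hz) ?_ ?_
    · rw [DU.comm_d, e1]
      simp only [tr, sh, cr, XC_a, XC_b, XC_c, map_mul, map_sub, map_add, map_zero, σ_Fx, cube,
        DU.hb] at c1 ⊢
      linear_combination (-2 * (l : K)) * c1
    · rw [comm_Z4 hz, e1]
      simp only [tr, sh, XC_d, XC_c, map_mul, map_zero, σ_Fx, cube, mul_zero] at c1 ⊢
      linear_combination ((l : K) ^ 2) * c1)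
  obtain ⟨t, g, hg, e⟩ := be.gen _ hn
  have g1 : g.a = 0 := by simpa using (congrArg DU.a e).symm
  have g2 : g.b = 0 := by simpa using (congrArg DU.b e).symm
  have g3 : g.c = c := by simpa using (congrArg DU.c e).symm
  have e2 := congrArg DU.d (hvc g hg)
  rw [DU.comm_d, g1, g2, g3] at e2
  exact c0 (cr_inj h2 ha (by simpa using e2))

end IB

theorem Y_le (h : Pr p u E L) : sY ≤ E := by
  intro y hy
  by_contra hyE
  obtain ⟨v, hv, hb⟩ : ∃ v ∈ Om p E ⊥, v.b ≠ 0 := by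
    by_contra hn
    push Not at hn
    exact hyE (h.chain1 (h.iv_om h.iv_bot) (fun e _ => Z_le_Om h (IB.swap (c_Y e hy)))
      fun b hb => (comm_YT y hy (hn b hb)).symm)
  obtain ⟨hvE, hvp, hvc⟩ := mem_Om.1 hv
  simp only [Subgroup.mem_bot] at hvp hvc
  have ha : v.a ≠ 0 := fun ha => by
    have hQ : E ≤ sQ := fun g hg => by
      have e1 := congrArg DU.c (hvc g hg)
      rw [DU.comm_c, ha] at e1
      simpa [hb] using e1
    exact hyE (by rw [eqQ h hQ]; exact hy.1)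
  obtain ⟨u', E', h', hE', -⟩ := h.conj (XA (v.c / v.b))
  refine IB.main h' (v := XA (v.c / v.b) * v * (XA (v.c / v.b))⁻¹) (mem_Om.2 ⟨(hE' v).2 hvE, ?_, ?_⟩)
    (by simpa using ha) (by simpa using hb) ?_
  · rw [conj_pow, hvp]; simp
  · intro e he
    have h1 : (XA (v.c / v.b))⁻¹ * e * XA (v.c / v.b) ∈ E := (hE' _).1 (by simpa [mul_assoc] using he)
    have h2 := hvc _ h1
    rw [Subgroup.mem_bot]
    rw [commutatorElement_eq_one_iff_mul_comm] at h2 ⊢
    generalize XA (v.c / v.b) = s at h2 ⊢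
    calc e * (s * v * s⁻¹) = s * (s⁻¹ * e * s * v) * s⁻¹ := by group
      _ = _ := by rw [h2]; group
  · simp
    field_simp
    ring

end Cfsg.Agent.TDF
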