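import Cfsg.Agent.TDF.Bas
import Cfsg.Agent.FK.FF

/-! Project TDF: subgroups of `T`, first step.  See `notes/TDF.md`. -/

set_option autoImplicit false
set_option linter.unusedSectionVars false

namespace Cfsg.Agent.TDF

open FK RFS
open scoped commutatorElement

variable {K : Type*} [Field K] [Tri K] [Finite K] {p : ℕ} [Fact p.Prime] [CharP K p] {G : Type*} [Group G]
  [Finite G] {u : DU K →* G} {E : Subgroup (DU K)} {L : Subgroup G}

namespace IC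

variable {v w : DU K}

theorem XD3 (d : K) : XD d ∈ (sZ3 : Subgroup (DU K)) := by simp

theorem YV (h : Pr p u E L) (hT : E ≤ sT) : sY ≤ Om p E ⊥ := fun y hy =>
  ⟨h.cen y fun e he => (comm_YT y hy (hT he)).symm, by
    rw [pow_Z3 ⟨hy.1, hy.2.1, hy.2.2.1⟩]; exact one_mem _,
    fun e he => commutatorElement_eq_one_iff_mul_comm.2 (comm_YT y hy (hT he))⟩

theorem nm3 (h : Pr p u E L) (hT : E ≤ sT) (hw : w ∈ (sZ3 : Subgroup (DU K))) : Nm E w :=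
  .of_comm fun e _ => (YV h hT (Bas.sw (c_Z3 e hw))).1

theorem cm (hv : v ∈ Om p E ⊥) (hE : w ∈ E) : v * w = w * v :=
  (commutatorElement_eq_one_iff_mul_comm.1 (hv.2.2 w hE)).symm

theorem cz (hT : E ≤ sT) (hv : v ∈ Om p E ⊥) (hw : w ∈ (sZ3 : Subgroup (DU K))) (hE : w ∈ E) :
    tr (v.a * w.d) = 0 ∧ tr (v.c * w.d) = 0 := by
  obtain ⟨h1, h2⟩ := (comm_Z3_iff hw).1 (cm hv hE)
  rw [mem_sT.1 (hT hv.1), zero_mul, mul_comm] at h2
  exact ⟨h1, h2.symm⟩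

theorem c1 (hv : v ∈ (sT : Subgroup (DU K))) (hw : w ∈ (sZ3 : Subgroup (DU K))) (h1 : tr (v.a * w.d) = 0)
    (h2 : tr (v.c * w.d) = 0) : ⁅w, v⁆ ∈ (⊥ : Subgroup (DU K)) :=
  commutatorElement_eq_one_iff_mul_comm.2 ((comm_Z3_iff hw).2
    ⟨h1, by rw [mem_sT.1 hv, zero_mul, mul_comm, h2]⟩).symm

theorem no3 (hT : E ≤ sT) (hv : v ∈ Om p E ⊥) (ha : v.a ≠ 0) : ¬ sZ3 ≤ E := fun k =>
  ha (tr_nondeg fun d => (cz hT hv (XD3 d) (k (XD3 d))).1)

theorem be (h : Pr p u E L) (hT : E ≤ sT) (hv : v ∈ Om p E ⊥) (ha : v.a ≠ 0) {I : Type*} [Finite I] {δ : I → K}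
    {lam : DU K → I} (inj : ∀ i j, (∀ w ∈ Om p E ⊥, tr (w.a * (δ i - δ j)) = 0) → i = j) (nt : ∃ i j : I, i ≠ j)
    (fib : ∀ v ∈ Om p E ⊥, ∀ w ∈ Om p E ⊥, lam v = lam w → ∀ i,
      tr ((v⁻¹ * w).a * δ i) = 0 ∧ tr ((v⁻¹ * w).c * δ i) = 0) :
    Be p u E L ⊥ (Om p E ⊥) (fun i => XD (δ i)) lam := by
  have inj' : ∀ i j, (XD (δ i))⁻¹ * XD (δ j) ∈ E → i = j := fun i j k => (inj j i fun w hw => by
    have := (cz hT hw (mul_mem (inv_mem (XD3 _)) (XD3 _)) k).1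
    rwa [show ((XD (δ i))⁻¹ * XD (δ j)).d = δ j - δ i by simp; ring] at this).symm
  refine (h.ff (h.sec_om h.iv_bot) ⟨fun i => nm3 h hT (XD3 _), fun i j => (YV h hT (c_Z3 _ (XD3 _))).1,
    fun i => by rw [pow_Z3 (XD3 _)]; exact one_mem _, inj', ?_, fun v hv w hw e i =>
      c1 (hT (mul_mem (inv_mem hv.1) hw.1)) (XD3 _) (fib v hv w hw e i).1 (fib v hv w hw e i).2⟩).resolve_left
    fun k => ?_
  · obtain ⟨i, j, hij⟩ := nt
    by_contra! c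
    exact hij (inj' i j (mul_mem (inv_mem (c i)) (c j)))
  · obtain ⟨L', -, h', iY⟩ := k.normal sY bot_le (YV h hT)
    exact no3 hT hv ha fun x hx => h'.chain1 iY (fun e _ => Bas.sw (c_Z3 e hx)) fun b hb => comm_YT b hb hx.2.1

theorem inj1 (hv : v ∈ Om p E ⊥) {d : K} (hd : tr (v.a * d) = ((1 : Fx K) : K)) (i j : Fx K)
    (k : ∀ w ∈ Om p E ⊥, tr (w.a * (i * d - j * d)) = 0) : i = j := by
  have := k v hv
  rw [show v.a * (i * d - j * d) = (i - j : Fx K) * (v.a * d) by push_cast; ring, tr_smul, hd] at this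
  exact sub_eq_zero.1 (Subtype.ext (by simpa using this))

theorem fib1 {d : K} (e : trF (v.a * d) = trF (w.a * d)) (i : Fx K) : tr ((v⁻¹ * w).a * (i * d)) = 0 := by
  have e' : tr (v.a * d) = tr (w.a * d) := congrArg Subtype.val e
  rw [show (v⁻¹ * w).a * (i * d) = i * (w.a * d - v.a * d) by simp; ring, tr_smul, tr_sub, e', sub_self, mul_zero]

theorem gen1 (h : Pr p u E L) (hT : E ≤ sT) (hv : v ∈ Om p E ⊥) {d : K} (hd : tr (v.a * d) = ((1 : Fx K) : K))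
    {lam : DU K → Fx K} (b : Be p u E L ⊥ (Om p E ⊥) (fun i : Fx K => XD (i * d)) lam)
    (hw : w ∈ (sZ3 : Subgroup (DU K))) (k : tr (v.a * w.d) = 0) : w ∈ E := by
  obtain ⟨t, e, he, rfl⟩ := b.gen w (nm3 h hT hw)
  have e3 : e ∈ (sZ3 : Subgroup (DU K)) := (mul_mem_cancel_left (XD3 _)).1 hw
  rw [show v.a * (XD (t * d) * e).d = t * (v.a * d) + v.a * e.d by simp; ring, tr_add, tr_smul, hd,
    (cz hT hv e3 he).1] at k
  have t0 : (t : K) = 0 := by simpa using k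
  convert he using 1
  ext <;> simp [t0]

theorem step1 (h : Pr p u E L) (hT : E ≤ sT) (hv : v ∈ Om p E ⊥) (ha : v.a ≠ 0) : ∃ t : Fx K, v.c = t * v.a := by
  have vb : v.b = 0 := hT hv.1
  by_cases hp : p = 2
  · subst hp
    have := congrArg DU.d (Subgroup.mem_bot.1 hv.2.1)
    rw [pow_two, DU.mul_d, vb, zero_mul, add_zero, DU.one_d] at this
    exact (cr_eq_zero ha (by linear_combination this - CharTwo.add_self_eq_zero v.d)).imp fun _ => And.left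
  by_contra! hc
  have z3 : ∀ w ∈ Om p E ⊥, w.a = 0 → w.c = 0 := fun w hw k => by_contra fun c =>
    ha (L0 ⟨k, hT hw.1⟩ (Subgroup.mem_bot.1 hw.2.1) c (cm hv hw.1))
  by_cases hl : ∀ w ∈ Om p E ⊥, ∃ s : Fx K, w.a = s * v.a
  · obtain ⟨d, hd⟩ := tr_surj ha 1
    have b := be h hT hv ha (δ := fun i : Fx K => i * d) (lam := fun w => trF (w.a * d)) (inj1 hv hd)
      ⟨0, 1, zero_ne_one⟩ fun w hw w' hw' e i => ⟨fib1 e i, by
        have m := mul_mem (inv_mem hw) hw'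
        obtain ⟨s, hs⟩ := hl _ m
        have := fib1 e 1
        rw [hs, OneMemClass.coe_one, one_mul, mul_assoc, tr_smul, hd] at this
        rw [z3 _ m (by rw [hs]; simpa using Or.inl this), zero_mul, tr_zero]⟩
    obtain ⟨t, ht⟩ := perp1 (x := v.c) ha fun d k => (cz hT hv (XD3 d) (gen1 h hT hv hd b (XD3 d) k)).2
    exact hc t ht
  push Not at hl
  obtain ⟨v₁, hv₁, hl⟩ := hl
  let W : AddSubgroup K :=
    { carrier := {a | ∃ w ∈ Om p E ⊥, w.a = a}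
      zero_mem' := ⟨1, one_mem _, rfl⟩
      add_mem' := fun ⟨x, hx, e⟩ ⟨y, hy, e'⟩ => ⟨_, mul_mem hx hy, by rw [DU.mul_a, e, e']⟩
      neg_mem' := fun ⟨x, hx, e⟩ => ⟨_, inv_mem hx, by rw [DU.inv_a, e]⟩ }
  obtain ⟨δ, hδ⟩ := exists_dual W
  classical
  have b := be h hT hv ha (δ := δ) (lam := fun w => if k : w.a ∈ W then ⟨w.a, k⟩ else 0)
    (fun i j k => hδ i j fun _ ⟨w, hw, e⟩ => e ▸ k w hw)
    ⟨⟨v.a, v, hv, rfl⟩, 0, fun e => ha (congrArg Subtype.val e)⟩ fun w hw w' hw' e i => by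
      rw [dif_pos ⟨w, hw, rfl⟩, dif_pos ⟨w', hw', rfl⟩] at e
      have a0 : (w⁻¹ * w').a = 0 := by simp [show w.a = w'.a from congrArg Subtype.val e]
      rw [z3 _ (mul_mem (inv_mem hw) hw') a0, a0, zero_mul, tr_zero]
      exact ⟨rfl, rfl⟩
  obtain ⟨d, d0, d1, d2⟩ := perp2 v.a v.c
  have dE : XD d ∈ E := by_contra fun k => ha (tr_nondeg fun d' => ((comm_Z3_iff (XD3 d')).1
    (commutatorElement_eq_one_iff_mul_comm.1 (b.ti _ (nm3 h hT (XD3 d)) k v hv (c1 (hT hv.1) (XD3 d) d1 d2) _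
      (nm3 h hT (XD3 d')))).symm).1)
  obtain ⟨k1, k2⟩ := cz hT hv₁ (XD3 d) dE
  obtain ⟨s, t, e1⟩ := perp_span ha hc d0 d1 d2 k1
  obtain ⟨s', t', e2⟩ := perp_span ha hc d0 d1 d2 k2
  have e := congrArg DU.d (Subgroup.mem_bot.1 (hv.2.2 v₁ hv₁.1))
  rw [DU.comm_d, vb, mem_sT.1 (hT hv₁.1), e1, e2, DU.one_d] at e
  have s2 : σ (2 : K) = 2 := map_ofNat _ 2
  have := (indep3 ha hc (x := 2 * s') (y := t' - s) (z := -(2 * t)) (by simp [s2]) (by simp) (by simp [s2]) (by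
    simp only [cr, sh, map_mul, map_add, σ_Fx] at e ⊢
    linear_combination e)).2.2
  have t0 : (t : K) = 0 := by simpa [two_ne hp] using this
  exact hl s (by rw [e1, t0, zero_mul, add_zero])

theorem step2 (h : Pr p u E L) (hT : E ≤ sT) (hv : v ∈ Om p E ⊥) (ha : v.a ≠ 0) (hc : v.c = 0) : False := by
  have hR : ∀ g ∈ E, g.c = 0 := fun g hg =>
    L0' ⟨hT hv.1, hc⟩ (Subgroup.mem_bot.1 hv.2.1) ha (hT hg) (cm hv hg).symm
  obtain ⟨d, hd⟩ := tr_surj ha 1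
  have b := be h hT hv ha (δ := fun i : Fx K => i * d) (lam := fun w => trF (w.a * d)) (inj1 hv hd)
    ⟨0, 1, zero_ne_one⟩ fun w hw w' hw' e i =>
      ⟨fib1 e i, by rw [hR _ (mul_mem (inv_mem hw.1) hw'.1), zero_mul, tr_zero]⟩
  by_cases hl : ∀ g ∈ E, ∃ s : Fx K, g.a = s * v.a
  · obtain ⟨c, c0, c1, -⟩ := perp2 (sh v.a) (sh v.a)
    obtain ⟨t, e, he, k⟩ := b.gen (XC c) (.of_comm fun g hg => gen1 h hT hv hd b (c_T rfl (hT hg)) (by
      obtain ⟨s, hs⟩ := hl g hg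
      rw [DU.comm_d, hs, mem_sT.1 (hT hg)]
      simp only [tr, sh, cr, XC_a, XC_b, XC_c, map_mul, map_sub, map_add, map_zero, σ_Fx, cube] at c1 ⊢
      linear_combination (2 * (s : K)) * c1))
    exact c0 (by simpa [hR e he] using congrArg DU.c k)
  push Not at hl
  obtain ⟨g, hg, hl⟩ := hl
  obtain ⟨d', d1, d2⟩ : ∃ d', tr (v.a * d') = 0 ∧ tr (g.a * d') ≠ 0 := by
    by_contra! c
    obtain ⟨t, ht⟩ := perp1 ha c
    exact hl t ht
  refine no3 hT hv ha fun x hx => h.chain1 (h.iv_comm h.iv_top h.iv_top) (fun e he => Bas.sw ?_) fun y hy =>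
    comm_YT y (Subgroup.commutator_le (H₃ := sY).2 (fun a ha b hb => ?_) hy) hx.2.1
  · obtain ⟨s, hs⟩ : ∃ s : Fx K, (s : K) = tr (e.a * x.d) / tr (g.a * d') :=
      ⟨trF (e.a * x.d) / trF (g.a * d'), by simp⟩
    have m : XD (s * d') ∈ E := gen1 h hT hv hd b (XD3 _) (by rw [XD_d, mul_left_comm, tr_smul, d1, mul_zero])
    obtain ⟨a1, a2, a3, a4⟩ := c_Z3 e hx
    obtain ⟨b1, b2, b3, b4⟩ := c_Z3 g (XD3 (s * d'))
    obtain ⟨a5, a6⟩ := comm_Z3 hx e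
    obtain ⟨b5, b6⟩ := comm_Z3 (XD3 (s * d')) g
    rw [XD_d, mul_left_comm, tr_smul, show s * tr (g.a * d') = tr (e.a * x.d) by
      rw [hs, div_mul_cancel₀ _ d2]] at b5
    rw [hR e he, mem_sT.1 (hT he)] at a6
    rw [hR g hg, mem_sT.1 (hT hg)] at b6
    rw [show ⁅e, x⁆ = ⁅g, XD (s * d')⁆ from DU.ext (a1.trans b1.symm) (a2.trans b2.symm) (a3.trans b3.symm)
      (a4.trans b4.symm) (a5.trans b5.symm) (by rw [a6, b6]; simp)]
    exact Subgroup.commutator_mem_commutator hg m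
  · simp [hR a ha, hR b hb, mem_sT.1 (hT ha), mem_sT.1 (hT hb)]

end IC

open IC in
theorem T_V (h : Pr p u E L) (hT : E ≤ sT) (hQ : ¬ E ≤ sQ) : Om p E ⊥ ≤ sZ3 := by
  intro v hv
  obtain ⟨g, hg, g0⟩ := SetLike.not_le_iff_exists.1 hQ
  have vb : v.b = 0 := hT hv.1
  by_cases ha : v.a = 0
  · exact ⟨ha, vb, by_contra fun c => g0 (L0 ⟨ha, vb⟩ (Subgroup.mem_bot.1 hv.2.1) c (cm hv hg).symm)⟩
  obtain ⟨t, ht⟩ := step1 h hT hv ha
  obtain ⟨u', E', h', hE', -⟩ := h.conj (XB (-t))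
  have bk : ∀ e ∈ E', (XB (-t))⁻¹ * e * XB (-t) ∈ E := fun e he => (hE' _).1 (by simpa [mul_assoc] using he)
  refine (step2 h' (v := XB (-t) * v * (XB (-t))⁻¹) (fun e he => by simpa using hT (bk e he))
    (mem_Om.2 ⟨(hE' v).2 hv.1, ?_, fun e he => ?_⟩) (by simpa using ha) (by simp [ht, vb])).elim
  · rw [conj_pow, Subgroup.mem_bot.1 hv.2.1]; simp
  · have h2 := (cm hv (bk e he)).symm
    rw [Subgroup.mem_bot, commutatorElement_eq_one_iff_mul_comm]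
    generalize XB (-t) = s at h2 ⊢
    calc e * (s * v * s⁻¹) = s * (s⁻¹ * e * s * v) * s⁻¹ := by group
      _ = _ := by rw [h2]; group

end Cfsg.Agent.TDF
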