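import Cfsg.Agent.TDF.Bas
import Cfsg.Agent.FK.FF

/-! Project TDF: the generic case: the second centre.  See `notes/TDF.md`. -/

set_option autoImplicit false
set_option linter.unusedSectionVars false

namespace Cfsg.Agent.TDF

open FK RFS
open scoped commutatorElement

variable {K : Type*} [Field K] [Tri K] [Finite K] {p : ℕ} [Fact p.Prime] [CharP K p] {G : Type*} [Group G]
  [Finite G] {u : DU K →* G} {E : Subgroup (DU K)} {L : Subgroup G}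

namespace IG

theorem symm {H : Type*} [Group H] {V : Subgroup H} {a b : H} (h : ⁅a, b⁆ ∈ V) : ⁅b, a⁆ ∈ V :=
  commutatorElement_inv a b ▸ inv_mem h

theorem Y_Om (hY : sY ≤ E) : sY ≤ Om p E sZ := fun y hy =>
  ⟨hY hy, by rw [pow_Z3 ⟨hy.1, hy.2.1, hy.2.2.1⟩]; exact one_mem _, fun e _ => c_Y e hy⟩

theorem ZY : (sZ : Subgroup (DU K)) ≤ sY := fun _ h => ⟨h.1, h.2.1, h.2.2.1, h.2.2.2.1⟩

theorem exists_reg (hT : ¬ E ≤ sT) (hQ : ¬ E ≤ sQ) : ∃ g ∈ E, g.a ≠ 0 ∧ g.b ≠ 0 := by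
  obtain ⟨g, hg, hb⟩ := SetLike.not_le_iff_exists.1 hT
  obtain ⟨k, hk, ha⟩ := SetLike.not_le_iff_exists.1 hQ
  rw [mem_sT] at hb
  rw [mem_sQ] at ha
  by_cases h1 : g.a = 0
  · by_cases h2 : k.b = 0
    · exact ⟨g * k, mul_mem hg hk, by simpa [h1] using ha, by simpa [h2] using hb⟩
    · exact ⟨k, hk, ha, h2⟩
  · exact ⟨g, hg, h1, hb⟩

theorem tr_cr (a c : K) : tr (a * cr a c) = 2 * tr (sh a * c) := by
  simp [tr, sh, cr]; ring

theorem cr_smul (t : Fx K) (a c : K) : cr (t * a) c = t * cr a c := by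
  simp [cr]; ring

variable {v : DU K}

theorem line (hv : v ∈ Om p E sZ) (hb : v.b ≠ 0) {g : DU K} (hg : g ∈ E) :
    ∃ t : Fx K, g.a = t * v.a ∧ (g.b = 0 → t = 0) := by
  have h := (hv.2.2 g hg).2.2.1
  rw [DU.comm_c] at h
  refine ⟨⟨g.b / v.b, by rw [mem_Fx, map_div₀, g.hb, v.hb]⟩, ?_, fun e => Subtype.ext (by simp [e])⟩
  show g.a = g.b / v.b * v.a
  field_simp
  linear_combination -h

theorem inZ4 (h2 : (2 : K) ≠ 0) (hv : v ∈ Om p E sZ) (ha : v.a ≠ 0) {w : DU K} (hw : w ∈ E)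
    (h4 : w ∈ (sZ4 : Subgroup (DU K))) : w.c = 0 ∧ tr (v.a * w.d) = 0 := by
  have h := hv.2.2 w hw
  have hd := h.2.2.2.1
  rw [DU.comm_d] at hd
  have hc : w.c = 0 := cr_inj h2 ha (by simpa [h4.1, h4.2] using hd)
  have he := (symm h).2.2.2.2
  rw [comm_Z4 h4] at he
  exact ⟨hc, by simpa [hc] using he⟩

theorem no_reg (h : Pr p u E L) (hY : sY ≤ E) (hZ : Iv u E L sZ) (hv : v ∈ Om p E sZ) (ha : v.a ≠ 0)
    (hb : v.b ≠ 0) : False := by
  have h2 : (2 : K) ≠ 0 := two_ne (reg_odd ha hb hv.2.1.2.2.1)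
  obtain ⟨d₁, hd₁⟩ := tr_surj ha 1
  have m3 : ∀ x : K, XD x ∈ (sZ3 : Subgroup (DU K)) := fun x => by simp
  have out : XD (((1 : Fx K) : K) * d₁) ∉ E := fun k => by
    have := (inZ4 h2 hv ha k (by simp)).2
    simp [hd₁] at this
  have o : Off p E sZ (Om p E sZ) (fun t : Fx K => XD (t * d₁)) fun g => (⟨g.b, g.hb⟩ : Fx K) := by
    refine ⟨fun i => .of_comm fun e _ => hY (symm (c_Z3 e (m3 _))), fun i j => hY (c_Z3 _ (m3 _)),
      fun i => by rw [pow_Z3 (m3 _)]; exact one_mem _, fun i j k => ?_, ⟨1, out⟩, fun x hx y hy e i => ?_⟩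
    · have := (inZ4 h2 hv ha k (by simp)).2
      have e : v.a * ((XD (i * d₁))⁻¹ * XD (j * d₁)).d = ((j - i : Fx K) : K) * (v.a * d₁) := by
        simp; ring
      rw [e, tr_smul, hd₁] at this
      have k2 : j - i = 0 := Subtype.ext (by simpa using this)
      exact (sub_eq_zero.1 k2).symm
    · have hb0 : (x⁻¹ * y).b = 0 := by
        have : x.b = y.b := congrArg Subtype.val e
        simp [this]
      obtain ⟨t, ht, ht'⟩ := line hv hb (mul_mem (inv_mem hx.1) hy.1)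
      rw [ht' hb0] at ht
      exact c_Q (by simp) (by simpa using ht)
  rcases h.ff (h.sec_om hZ) o with al | be
  · obtain ⟨L', -, h', hi⟩ := al.normal sY ZY (Y_Om hY)
    exact out (h'.chain1 hi (fun e _ => symm (c_Z3 e (m3 _))) fun b hb => comm_YT b hb (by simp))
  · have hD : ∀ w ∈ (sZ3 : Subgroup (DU K)), tr (v.a * w.d) = 0 → w ∈ E := fun w hw k =>
      h.chain1 hZ (fun e he => symm (by
        obtain ⟨t, ht, -⟩ := line hv hb he
        obtain ⟨k1, k2, k3, k4⟩ := c_Z3 e hw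
        refine ⟨k1, k2, k3, k4, ?_⟩
        rw [(comm_Z3 hw e).1, ht, mul_assoc, tr_smul, k, mul_zero, neg_zero])) fun z hz => comm_Z z hz w
    obtain ⟨c, hc, hc', -⟩ := perp2 (sh v.a) (sh v.a)
    have hn : Nm E (XC c) := .of_comm fun e he => symm (hD _ (c_Z4 e (by simp)) (by
      obtain ⟨t, ht, -⟩ := line hv hb he
      have e1 : v.a * ⁅e, XC c⁆.d = ((-t : Fx K) : K) * (v.a * cr v.a c) := by
        rw [DU.comm_d]; simp [ht, cr_smul]; ring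
      rw [e1, tr_smul, tr_cr, hc', mul_zero, mul_zero]))
    obtain ⟨t, e, he, k⟩ := be.gen _ hn
    have k1 := congrArg DU.a k
    have k2 := congrArg DU.b k
    have k3 := congrArg DU.c k
    simp only [XC_a, XC_b, XC_c, DU.mul_a, DU.mul_b, DU.mul_c, XD_a, XD_b, XD_c, zero_add, zero_mul] at k1 k2 k3
    exact hc (k3.trans (inZ4 h2 hv ha he ⟨k1.symm, k2.symm⟩).1)

end IG

theorem gen_V2 (h : Pr p u E L) (hY : sY ≤ E) (hT : ¬ E ≤ sT) (hQ : ¬ E ≤ sQ) (hZ : Iv u E L sZ) :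
    Om p E sZ ≤ sZ4 := by
  intro v hv
  obtain ⟨g, hg, ha, hb⟩ := IG.exists_reg hT hQ
  have k := (hv.2.2 g hg).2.2.1
  rw [DU.comm_c] at k
  by_cases h1 : v.a = 0
  · exact ⟨h1, by simpa [h1, ha] using k⟩
  · exact (IG.no_reg h hY hZ hv h1 fun h2 => h1 (by simpa [h2, hb] using k)).elim

theorem gen_red (h : Pr p u E L) (hY : sY ≤ E) (hT : ¬ E ≤ sT) (hQ : ¬ E ≤ sQ) (hZ : Iv u E L sZ) :
    sZ3 ≤ E ∧ (sQ ≤ E ∨ ∃ L' ≤ L, Pr p u E L' ∧ Iv u E L' sY) := by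
  have h4 := gen_V2 h hY hT hQ hZ
  have h3 : sZ3 ≤ E := fun x hx => h.chain2 (h.iv_om hZ) hZ (fun e _ => IG.Y_Om hY (IG.symm (c_Z3 e hx)))
    (fun b hb => c_Q hx.1 (h4 hb).1) fun c hc => comm_Z c hc x
  refine ⟨h3, or_iff_not_imp_left.2 fun hn => ?_⟩
  obtain ⟨x, hx, hx', hnm⟩ : ∃ x ∈ (sQ : Subgroup (DU K)), x ∉ E ∧ Nm E x := by
    by_cases k : sZ4 ≤ E
    · obtain ⟨x, hx, hx'⟩ := SetLike.not_le_iff_exists.1 hn
      exact ⟨x, hx, hx', .of_comm fun e _ => k (c_S x e)⟩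
    · obtain ⟨x, hx, hx'⟩ := SetLike.not_le_iff_exists.1 k
      exact ⟨x, hx.1, hx', .of_comm fun e _ => h3 (IG.symm (c_Z4 e hx))⟩
  exact (h.red hZ (h.iv_om hZ) hnm hx' fun v hv => c_Q hx (h4 hv).1).normal sY IG.ZY (IG.Y_Om hY)

end Cfsg.Agent.TDF
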