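import Cfsg.Agent.TDF.Defs2
import Cfsg.Agent.TDF.Fld2

/-! Project TDF: the orbit of `y`: generalities and characteristic two.  See `notes/TDF.md`. -/

set_option autoImplicit false
set_option linter.unusedSectionVars false

namespace Cfsg.Agent.TDF

open FK RFS
open scoped commutatorElement

variable {K : Type*} [Field K] [Tri K] [Finite K] {𝓛 : Subgroup (GV K)} {ν : GV K}

theorem Ob.map {v : VV K} (h : Ob 𝓛 v) {g : GV K} (hg : g ∈ 𝓛) : Ob 𝓛 (g v) := by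
  obtain ⟨g', hg', s, hs, rfl⟩ := h
  exact ⟨g * g', mul_mem hg hg', s, hs, map_smul g s _⟩

theorem Ob.has {v : VV K} (h : Ob 𝓛 v) {f : VV K → VV K} (hf : Has 𝓛 f) : Ob 𝓛 (f v) := by
  obtain ⟨g, hg, e⟩ := hf
  exact e v ▸ h.map hg

theorem Ob.smul {v : VV K} (h : Ob 𝓛 v) {s : Fx K} (hs : s ≠ 0) : Ob 𝓛 (s • v) := by
  obtain ⟨g, hg, t, ht, rfl⟩ := h
  exact ⟨g, hg, s * t, mul_ne_zero hs ht, (mul_smul s t _).symm⟩

theorem Ob.ne_zero {v : VV K} (h : Ob 𝓛 v) : v ≠ 0 := by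
  obtain ⟨g, -, t, ht, rfl⟩ := h
  exact smul_ne_zero ht (g.map_ne_zero_iff.2 fun e => one_ne_zero (congrArg (fun x : VV K => x.2.2.2) e))

theorem ob_e0 : Ob 𝓛 e0 := ⟨1, one_mem _, 1, one_ne_zero, (one_smul _ _).symm⟩

theorem om_e0 (v : VV K) : om v e0 = v.1 := by simp [om, e0]

theorem om_b0 (v : VV K) : om v b0 = -v.2.2.2 := by simp [om, b0]

theorem om_smul (s t : Fx K) (v w : VV K) : om (s • v) (t • w) = s * t * om v w := by
  simp [om, tr, Subfield.smul_def]; ring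

theorem Lin.om_iff (h : Lin 𝓛) {g : GV K} (hg : g ∈ 𝓛) (v w : VV K) : om (g v) (g w) = 0 ↔ om v w = 0 := by
  obtain ⟨m, hm, e⟩ := h.sim g hg
  simp [e, hm]

theorem Lin.obD (h : Lin 𝓛) {v : VV K} (hv : Ob 𝓛 v) (h1 : v.1 = 0) (h2 : v.2.1 = 0) : v.2.2.1 = 0 := by
  obtain ⟨g, hg, s, hs, rfl⟩ := hv
  replace h1 : (g e0).1 = 0 := (smul_eq_zero.1 h1).resolve_left hs
  replace h2 : (g e0).2.1 = 0 := (smul_eq_zero.1 h2).resolve_left hs
  obtain ⟨t, ht, h3, -⟩ := perp2 (g e0).2.2.1 0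
  obtain ⟨r, e⟩ := h.ti g hg t ht ⟨1, by
    rw [one_smul]
    ext <;> simp [xv, h1, h2, mul_comm t, h3]⟩
  rw [e]
  simp [e0]

/-- the stabilizer of `y` preserves `D` -/
theorem Lin.stab_D (h : Lin 𝓛) {g : GV K} (hg : g ∈ 𝓛) (hy : Fy g) {v : VV K} (h1 : v.1 = 0) (h2 : v.2.1 = 0) :
    (g v).1 = 0 ∧ (g v).2.1 = 0 := by
  obtain ⟨t, k, φ, -, e⟩ := h.std g hg hy
  simp [e, xv, torV, galV, h1, h2]

namespace LinA

/-- move the first vector to `e0` -/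
theorem move (h : Lin 𝓛) {g : GV K} (hg : g ∈ 𝓛) {s : Fx K} (hs : s ≠ 0) {w : VV K} (hw : Ob 𝓛 w)
    (e : om (s • g e0) w = 0) : ∃ x, Ob 𝓛 x ∧ w = g x ∧ x.1 = 0 ∧ (x.2.1 = 0 → ∃ r : Fx K, w = r • s • g e0) := by
  obtain ⟨x, rfl⟩ := g.surjective w
  have hx : Ob 𝓛 x := by simpa using hw.map (inv_mem hg)
  rw [← one_smul (Fx K) (g x), om_smul, mul_eq_zero, h.om_iff hg] at e
  have h1 : x.1 = 0 := by simpa [om, e0, hs] using e
  refine ⟨x, hx, rfl, h1, fun h2 => ⟨x.2.2.2 / s, ?_⟩⟩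
  rw [smul_smul, div_mul_cancel₀ _ hs, ← map_smul]
  congr 1
  ext <;> simp [e0, h1, h2, h.obD hx h1 h2]

theorem line (h : Lin 𝓛) (h2 : (2 : K) = 0) {v w : VV K} (hv : Ob 𝓛 v) (hw : Ob 𝓛 w) (e : om v w = 0)
    (hn : ∀ r : Fx K, w ≠ r • v) (r : Fx K) : Ob 𝓛 (w + r • v) := by
  obtain ⟨g, hg, s, hs, rfl⟩ := hv
  obtain ⟨x, hx, rfl, h1, k⟩ := move h hg hs hw e
  have hc : x.2.1 ≠ 0 := fun c => (k c).elim hn
  have hk : tr (x.2.1 * x.2.2.1) = 0 := by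
    obtain ⟨g', hg', s', -, e'⟩ := hx
    have h3 := h.sing h2 g' hg'
    have h4 : ka x = (s' : K) ^ 2 * ka (g' e0) := by
      rw [e']; simp [ka, tr, Subfield.smul_def]; ring
    rw [h3] at h4
    simpa [ka, h1] using h4
  obtain ⟨t, ht⟩ := sq_surj h2 (r * s / nrF x.2.1)
  have hn0 : nrF x.2.1 ≠ 0 := fun c => hc (nr_eq_zero.1 (congrArg Subtype.val c))
  have ht' : (t : K) ^ 2 * nr x.2.1 = r * s := by
    have := congrArg Subtype.val ((eq_div_iff hn0).1 ht)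
    simpa using this
  have e2 : xv (t * x.2.1) x = x + (r * s) • e0 := by
    simp only [tr, nr, map_mul] at hk ht'
    ext <;> simp [xv, e0, h1, cr, sh, tr]
    · linear_combination (t * σ x.2.1 * σ (σ x.2.1)) * h2
    · linear_combination (t : K) * hk + ht' + ((t : K) ^ 2 * x.2.1 * σ x.2.1 * σ (σ x.2.1)) * h2
  have := (hx.has (h.x (t * x.2.1))).map hg
  rwa [e2, map_add, map_smul, mul_smul] at this

end LinA

theorem NP.perp (np : NP 𝓛) (h : Lin 𝓛) {v w : VV K} (hv : Ob 𝓛 v) (hw : Ob 𝓛 w) (e : om v w = 0) :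
    ∃ s : Fx K, w = s • v := by
  obtain ⟨g, hg, s, hs, rfl⟩ := hv
  obtain ⟨x, hx, -, h1, k⟩ := LinA.move h hg hs hw e
  exact k (np x hx h1)

theorem Lin.np_two (h : Lin 𝓛) (h2 : (2 : K) = 0) : NP 𝓛 := by
  intro y hy h1
  by_contra hc
  obtain ⟨u, hu⟩ := not_line y.2.1
  have hcr : cr u y.2.1 ≠ 0 := fun c => by
    obtain ⟨t, ht, -⟩ := cr_eq_zero (c := u) hc (by rw [← c, cr, cr]; ring)
    exact hu t ht
  have := LinA.line h h2 hy (hy.has (h.x u)) (by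
      simp [om, xv, h1, tr, cr]
      linear_combination (-(y.2.1 * σ u * σ (σ y.2.1) + y.2.1 * σ (σ u) * σ y.2.1 + u * σ y.2.1 * σ (σ y.2.1))) * h2)
    (fun r e => by
      have e1 := congrArg (fun x : VV K => x.2.1) e
      have e2 := congrArg (fun x : VV K => x.2.2.1) e
      simp [xv, h1, Subfield.smul_def] at e1 e2
      have : (r : K) = 1 := mul_right_cancel₀ hc (e1.symm.trans (one_mul _).symm)
      exact hcr (by simpa [this] using e2)) (-1)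
  exact hcr (by simpa [xv, h1] using h.obD this (by simp [xv]) (by simp [xv, h1]))

end Cfsg.Agent.TDF
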