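import Cfsg.Agent.TDF.LinA

/-! Project TDF: the reflection interchanges the short root spaces.  See `notes/TDF.md`. -/

set_option autoImplicit false
set_option linter.unusedSectionVars false

namespace Cfsg.Agent.TDF

open FK RFS
open scoped commutatorElement

variable {K : Type*} [Field K] [Tri K] [Finite K] {𝓛 : Subgroup (GV K)} {ν : GV K}

namespace LinE

theorem e_ne (s : Sw 𝓛 ν) : ∃ t : Fx K, t ≠ 0 ∧ ν e0 = t • b0 := by
  obtain ⟨t, ht⟩ := s.e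
  refine ⟨t, fun e => ?_, ht⟩
  rw [e, zero_smul, ν.map_eq_zero_iff] at ht
  simpa [e0] using congrArg (·.2.2.2) ht

theorem b_ne (s : Sw 𝓛 ν) : ∃ t : Fx K, t ≠ 0 ∧ ν b0 = t • e0 := by
  obtain ⟨t, ht⟩ := s.b
  refine ⟨t, fun e => ?_, ht⟩
  rw [e, zero_smul, ν.map_eq_zero_iff] at ht
  simpa [b0] using congrArg (·.1) ht

theorem sw_inv (s : Sw 𝓛 ν) : Sw 𝓛 ν⁻¹ := by
  obtain ⟨t, t0, ht⟩ := e_ne s
  obtain ⟨r, r0, hr⟩ := b_ne s
  refine ⟨𝓛.inv_mem s.mem, ⟨r⁻¹, ν.injective ?_⟩, ⟨t⁻¹, ν.injective ?_⟩⟩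
  · rw [map_smul, hr, smul_smul, inv_mul_cancel₀ r0, one_smul]
    exact ν.apply_symm_apply _
  · rw [map_smul, ht, smul_smul, inv_mul_cancel₀ t0, one_smul]
    exact ν.apply_symm_apply _

theorem last_iff (h : Lin 𝓛) (s : Sw 𝓛 ν) (v : VV K) : (ν v).2.2.2 = 0 ↔ v.1 = 0 := by
  obtain ⟨t, t0, ht⟩ := e_ne s
  have := h.om_iff s.mem v e0
  rw [ht, ← one_smul (Fx K) (ν v), om_smul, om_b0, om_e0] at this
  simpa [t0] using this

theorem first_iff (h : Lin 𝓛) (s : Sw 𝓛 ν) (v : VV K) : (ν v).1 = 0 ↔ v.2.2.2 = 0 := by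
  obtain ⟨t, t0, ht⟩ := b_ne s
  have := h.om_iff s.mem v b0
  rw [ht, ← one_smul (Fx K) (ν v), om_smul, om_b0, om_e0] at this
  simpa [t0] using this

theorem exists_CD (h : Lin 𝓛) (s : Sw 𝓛 ν) :
    ∃ C D : K →ₗ[Fx K] K, ∀ d, ν (0, 0, d, 0) = (0, C d, D d, 0) := by
  let ι : K →ₗ[Fx K] VV K := (0 : K →ₗ[Fx K] Fx K).prod ((0 : K →ₗ[Fx K] K).prod (LinearMap.id.prod 0))
  refine ⟨(LinearMap.fst _ _ _ ∘ₗ LinearMap.snd _ _ _) ∘ₗ ν.toLinearMap ∘ₗ ι,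
    (LinearMap.fst _ _ _ ∘ₗ LinearMap.snd _ _ _ ∘ₗ LinearMap.snd _ _ _) ∘ₗ ν.toLinearMap ∘ₗ ι, fun d => ?_⟩
  exact Prod.ext ((first_iff h s _).2 rfl) (Prod.ext rfl (Prod.ext rfl ((last_iff h s _).2 rfl)))

variable {C D : K →ₗ[Fx K] K}

theorem inj (e : ∀ d, ν (0, 0, d, 0) = (0, C d, D d, 0)) {d : K} (h1 : C d = 0) (h2 : D d = 0) : d = 0 := by
  have := e d
  rw [h1, h2] at this
  exact congrArg (·.2.2.1) (ν.map_eq_zero_iff.1 this)

theorem conj (h : Lin 𝓛) (s : Sw 𝓛 ν) (e : ∀ d, ν (0, 0, d, 0) = (0, C d, D d, 0)) {k : Tor K}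
    (hk : Has 𝓛 (torV k)) : ∃ (β : K) (φ : RingAut K), β ≠ 0 ∧ Gal φ ∧
      ∀ d, C (β * φ d) = k.μ * k.α * C d ∧ D (β * φ d) = k.μ * sh k.α * D d := by
  obtain ⟨H, hH, eH⟩ := hk
  obtain ⟨t, -, ht⟩ := e_ne s
  have g1 : ∀ v, ν ((ν⁻¹ * H * ν) v) = torV k (ν v) := fun v => (ν.apply_symm_apply _).trans (eH _)
  obtain ⟨x, k', φ, hφ, e'⟩ := h.std (ν⁻¹ * H * ν) (mul_mem (mul_mem (inv_mem s.mem) hH) s.mem)
    ⟨k.2, ν.injective (by rw [g1, map_smul, ht]; ext <;> simp [torV, b0])⟩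
  refine ⟨k'.μ * sh k'.α, φ, mul_ne_zero k'.μ_ne (by simpa using k'.α_ne), hφ, fun d => ?_⟩
  have g2 := g1 (0, 0, d, 0)
  have g3 : ((ν⁻¹ * H * ν) (0, 0, d, 0)).2.2.2 = 0 := (first_iff h s _).1 (by rw [g2, e]; simp [torV])
  have g4 : (ν⁻¹ * H * ν) (0, 0, d, 0) = (0, 0, k'.μ * sh k'.α * φ d, 0) :=
    Prod.ext (by rw [e']; simp [xv, torV, galV]) (Prod.ext (by rw [e']; simp [xv, torV, galV])
      (Prod.ext (by rw [e']; simp [xv, torV, galV]) g3))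
  rw [g4, e, e] at g2
  exact ⟨congrArg (·.2.1) g2, congrArg (·.2.2.1) g2⟩

theorem C_ne (h : Lin 𝓛) (o : Orb 𝓛) (s : Sw 𝓛 ν) (e : ∀ d, ν (0, 0, d, 0) = (0, C d, D d, 0))
    (hC : ∀ d, C d = 0) : False := by
  obtain ⟨r, r0, hr⟩ := e_ne s
  have sur : Function.Surjective D :=
    Finite.surjective_of_injective ((injective_iff_map_eq_zero D).2 fun d => inj e (hC d))
  have e2 : ∀ w : VV K, w.1 = 0 → w.2.1 = 0 → ν w = (r * w.2.2.2, 0, D w.2.2.1, 0) := fun w h1 h2 => by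
    have : w = (0, 0, w.2.2.1, 0) + w.2.2.2 • e0 := by ext <;> simp [e0, h1, h2]
    rw [this, map_add, map_smul, e, hr, hC]
    ext <;> simp [b0, e0, mul_comm]
  obtain ⟨X, hX, eX⟩ := h.x 1
  have ob : Ob 𝓛 (ν⁻¹ (X (ν e0))) := (((ob_e0).map s.mem).map hX).map (inv_mem s.mem)
  have k0 : ν (ν⁻¹ (X (ν e0))) = X (ν e0) := ν.apply_symm_apply _
  rcases o _ ob with ⟨c, hc⟩ | ⟨t, c, hc⟩
  · rw [hc, map_smul, hr, eX] at k0
    exact r0 (by simpa [xv, b0] using (congrArg (·.2.1) k0).symm)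
  obtain ⟨T, hT, eT⟩ := h.x (-t)
  have c0 : c ≠ 0 := fun c0 => ob.ne_zero (by
    rw [← xv_zero (ν⁻¹ _), ← neg_add_cancel t, ← xv_xv, hc, c0, zero_smul, ← eT, map_zero])
  have k1 : c • ν (T b0) = X (ν e0) := by
    rw [← map_smul, ← map_smul, ← hc, eT, xv_xv, neg_add_cancel, xv_zero, k0]
  have g1 : ∀ v, X (ν ((ν⁻¹ * X⁻¹ * ν * T * ν) v)) = ν (T (ν v)) := fun v =>
    (congrArg X (ν.apply_symm_apply _)).trans (X.apply_symm_apply _)
  have fy : Fy (ν⁻¹ * X⁻¹ * ν * T * ν) := ⟨r * c⁻¹, ν.injective (X.injective (by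
    rw [g1, map_smul, map_smul, ← k1, smul_smul, mul_assoc, inv_mul_cancel₀ c0, mul_one, hr, map_smul, map_smul]))⟩
  refine one_ne_zero (tr_nondeg (a := (1 : K)) fun x => ?_)
  obtain ⟨d, rfl⟩ := sur x
  obtain ⟨d', rfl⟩ := sur d
  obtain ⟨w1, w2⟩ := h.stab_D (mul_mem (mul_mem (mul_mem (mul_mem (inv_mem s.mem) (inv_mem hX)) s.mem) hT) s.mem)
    fy (v := (0, 0, d', 0)) rfl rfl
  have g2 := g1 (0, 0, d', 0)
  rw [e2 _ w1 w2, e, hC, eX, eT, e2 (xv (-t) _) (by simp [xv]) (by simp [xv])] at g2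
  generalize (ν⁻¹ * X⁻¹ * ν * T * ν) (0, 0, d', 0) = w at g2
  have q1 : r * w.2.2.2 = 0 := Subtype.ext (by simpa [xv, -mul_eq_zero] using congrArg (·.2.1) g2)
  rw [q1] at g2
  have q2 : D w.2.2.1 = D (D d') := by simpa [xv] using congrArg (·.2.2.1) g2
  rw [q2] at g2
  simpa [xv] using congrArg (fun v : VV K => (v.2.2.2 : K)) g2

theorem big (h : Lin 𝓛) (o : Orb 𝓛) (s : Sw 𝓛 ν) (e : ∀ d, ν (0, 0, d, 0) = (0, C d, D d, 0)) (hb : Big K)
    (d : K) : D d = 0 := by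
  obtain ⟨l, l0, l1⟩ := hb
  have l0' : (l : K) ≠ 0 := by simpa using l0
  have l1' : (l : K) - 1 ≠ 0 := sub_ne_zero.2 (by simpa using l1)
  obtain ⟨β, φ, β0, hφ, k⟩ := conj h s e (h.hb (Units.mk0 l l0))
  have kC : ∀ d, C (β * φ d) = l * C d := fun d => by
    rw [(k d).1]; simp only [hb_μ, hb_α, Units.val_mk0]; field_simp
  have kD : ∀ d, D (β * φ d) = D d := fun d => by
    rw [(k d).2]; simp only [hb_μ, hb_α, Units.val_mk0, sh, map_inv₀, σ_Fx]; field_simp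
  have sC : ∀ (t : Fx K) x, C (t * x) = t * C x := fun t x => C.map_smul t x
  have sD : ∀ (t : Fx K) x, D (t * x) = t * D x := fun t x => D.map_smul t x
  have q : ∀ d, β * φ (β * φ d) + ((-(l + 1) : Fx K) : K) * (β * φ d) + l * d = 0 := fun d => inj e
    (by rw [map_add, map_add, sC, sC, kC, kC]; push_cast; ring)
    (by rw [map_add, map_add, sD, sD, kD, kD]; push_cast; ring)
  have p := gal_quad hφ β0 l0' q
  have q1 : (β - 1) * (β - l) = 0 := by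
    have := q 1
    rw [p, p] at this
    push_cast at this
    linear_combination this
  rcases mul_eq_zero.1 q1 with c | c
  · exact (C_ne h o s e fun d => mul_left_cancel₀ l1' (by
      have := kC d
      rw [p, sub_eq_zero.1 c, one_mul] at this
      linear_combination -this)).elim
  · have := kD d
    rw [p, sub_eq_zero.1 c, sD] at this
    exact mul_left_cancel₀ l1' (by linear_combination this)

theorem small (h : Lin 𝓛) (o : Orb 𝓛) (s : Sw 𝓛 ν) (e : ∀ d, ν (0, 0, d, 0) = (0, C d, D d, 0)) (hb : ¬ Big K)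
    (d : K) : D d = 0 := by
  have k : ∀ α : K, α ≠ 0 → ∀ d, ∃ d', C d' = α * C d ∧ D d' = sh α * D d := fun α hα d => by
    obtain ⟨β, φ, -, -, k⟩ := conj h s e (h.tau hb (Units.mk0 α hα))
    exact ⟨_, by simpa using k d⟩
  have hs : ∀ α : K, α ≠ 0 → sh α⁻¹ = α := fun α hα => by
    have := (not_big hb (nrF α⁻¹)).resolve_left fun c => hα (by simpa using congrArg Subtype.val c)
    have e1 : α⁻¹ * sh α⁻¹ = 1 := (mul_sh _).trans (congrArg Subtype.val this)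
    rw [← mul_inv_cancel_left₀ hα (sh α⁻¹), e1, mul_one]
  have iC : Function.Injective C := (injective_iff_map_eq_zero C).2 fun d₀ h0 => by_contra fun c => by
    have D0 : D d₀ ≠ 0 := fun c' => c (inj e h0 c')
    have : ∀ x, ∃ d, C d = 0 ∧ D d = x := fun x => by
      by_cases hx : x = 0
      · exact ⟨0, map_zero _, by rw [hx, map_zero]⟩
      obtain ⟨d', a1, a2⟩ := k (x / D d₀)⁻¹ (by simp [hx, D0]) d₀
      exact ⟨d', by rw [a1, h0, mul_zero], by rw [a2, hs _ (by simp [hx, D0]), div_mul_cancel₀ _ D0]⟩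
    choose f f1 f2 using this
    refine C_ne h o s e fun d => ?_
    obtain ⟨x, rfl⟩ := Finite.surjective_of_injective (Function.LeftInverse.injective f2) d
    exact f1 x
  obtain ⟨d₁, h1⟩ := Finite.surjective_of_injective iC 1
  obtain ⟨r, hr⟩ := Tri.ne (K := K)
  have h2 := two_zero hb
  have D1 : D d₁ = 0 := by
    obtain ⟨x, x1, x2⟩ := k r (fun c => hr (by simp [c])) d₁
    obtain ⟨y, y1, y2⟩ := k (r + 1) (fun c => hr (by rw [eq_neg_of_add_eq_zero_left c]; simp)) d₁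
    obtain rfl : y = x + d₁ := iC (by rw [map_add, x1, y1]; ring)
    rw [map_add, x2, sh, sh, map_add, map_add, map_one, map_one] at y2
    refine mul_left_cancel₀ (sub_ne_zero.2 (vdm hr).2) ?_
    linear_combination -y2 - σ r * D d₁ * h2
  by_cases c : d = 0
  · rw [c, map_zero]
  obtain ⟨x, x1, x2⟩ := k (C d) (fun c' => c (iC (c'.trans (map_zero _).symm))) d₁
  obtain rfl : x = d := iC (by rw [x1, h1, mul_one])
  rw [x2, D1, mul_zero]

theorem first (h : Lin 𝓛) (o : Orb 𝓛) (s : Sw 𝓛 ν) (d : K) : ∃ c : K, ν (0, 0, d, 0) = (0, c, 0, 0) := by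
  obtain ⟨C, D, e⟩ := exists_CD h s
  refine ⟨C d, ?_⟩
  by_cases hb : Big K
  · rw [e, big h o s e hb]
  · rw [e, small h o s e hb]

end LinE

theorem Lin.sw_c (h : Lin 𝓛) (o : Orb 𝓛) (s : Sw 𝓛 ν) :
    (∀ d : K, ∃ c : K, ν (0, 0, d, 0) = (0, c, 0, 0)) ∧ ∀ c : K, ∃ d : K, ν (0, c, 0, 0) = (0, 0, d, 0) := by
  refine ⟨LinE.first h o s, fun c => ?_⟩
  choose f hf using LinE.first h o (LinE.sw_inv s)
  obtain ⟨d, rfl⟩ := Finite.surjective_of_injective (f := f) (fun x y e => by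
    have := hf x
    rw [e, ← hf y] at this
    exact congrArg (·.2.2.1) ((ν⁻¹).injective this)) c
  exact ⟨d, by rw [← hf]; exact ν.apply_symm_apply _⟩

end Cfsg.Agent.TDF
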