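import Cfsg.Agent.TDF.Defs2
import Cfsg.Agent.H40.D4a

/-! Project TDF: the root elements of the triality group.  See `notes/TDF.md`. -/

set_option autoImplicit false
set_option linter.unusedSectionVars false

namespace Cfsg.Agent.TDF.MD

open Cfsg.Lie Cfsg.Agent.H37 Cfsg.Agent.H40 PE

variable {K : Type*} [Field K] [Tri K]

local notation "W" => gword (StRel.x (matRel isChev_D4 _))

/-- the Frobenius map on expressions -/
def fr : PE → PE
  | var i => var ([1, 2, 0, 4, 5, 3].getD i i)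
  | add a b => add (fr a) (fr b)
  | neg a => neg (fr a)
  | mul a b => mul (fr a) (fr b)
  | e => e
/-- trace -/
def ptr (e : PE) : PE := add (add e (fr e)) (fr (fr e))
/-- norm -/
def pnr (e : PE) : PE := mul (mul e (fr e)) (fr (fr e))
/-- adjoint -/
def psh (e : PE) : PE := mul (fr e) (fr (fr e))
/-- cross product -/
def pcr (x y : PE) : PE := add (mul (fr x) (fr (fr y))) (mul (fr (fr x)) (fr y))
/-- root words -/
def wa (e : PE) : List (ℕ × PE) := [(18, e), (13, fr e), (12, fr (fr e))]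
/-- root words -/
def wb (e : PE) : List (ℕ × PE) := [(14, e)]
/-- root words -/
def wc (e : PE) : List (ℕ × PE) := [(19, e), (16, neg (fr e)), (15, neg (fr (fr e)))]
/-- root words -/
def wd (e : PE) : List (ℕ × PE) := [(17, e), (20, neg (fr e)), (21, neg (fr (fr e)))]
/-- root words -/
def we (e : PE) : List (ℕ × PE) := [(22, e)]
/-- root words -/
def wz (e : PE) : List (ℕ × PE) := [(23, e)]

/-- root elements -/
noncomputable def xa (t : K) : GL chevD4.Idx K := W [(18, t), (13, σ t), (12, σ (σ t))]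
/-- root elements -/
noncomputable def xb (t : Fx K) : GL chevD4.Idx K := W [(14, (t : K))]
/-- root elements -/
noncomputable def xc (t : K) : GL chevD4.Idx K := W [(19, t), (16, -σ t), (15, -σ (σ t))]
/-- root elements -/
noncomputable def xd (t : K) : GL chevD4.Idx K := W [(17, t), (20, -σ t), (21, -σ (σ t))]
/-- root elements -/
noncomputable def xe (t : Fx K) : GL chevD4.Idx K := W [(22, (t : K))]
/-- root elements -/
noncomputable def xz (t : Fx K) : GL chevD4.Idx K := W [(23, (t : K))]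

theorem chk (w w' : List (ℕ × PE)) (e : wcheck chevD4 0 w w' = true) (a b c d : K) :
    W (evW [a, σ a, σ (σ a), b, σ b, σ (σ b), c, d] w) = W (evW [a, σ a, σ (σ a), b, σ b, σ (σ b), c, d] w') :=
  gword_eq_of_check isChev_D4 Int.cast_zero e _

theorem rl : Rl (K := K) xa xc xd xb xe xz := by
  refine ⟨?_, ?_, ?_, ?_, ?_, ?_, ?_, ?_, ?_, ?_, ?_, ?_, ?_, ?_, ?_, ?_, ?_, ?_, ?_, ?_, ?_⟩ <;> intro s t <;>
    simp only [xa, xb, xc, xd, xe, xz, ← gword_append, map_mul, map_add, cube, σ_Fx, tr, nr, sh, cr, trF_coe, nrF_coe,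
      Subfield.coe_add, Subfield.coe_mul, Subfield.coe_neg, SubmonoidClass.coe_pow]
  · exact chk (wa (add (var 0) (var 3))) (wa (var 0) ++ wa (var 3)) (by decide +kernel) _ _ 0 0
  · exact chk (wb (add (var 6) (var 7))) (wb (var 6) ++ wb (var 7)) (by decide +kernel) 0 0 _ _
  · exact chk (wc (add (var 0) (var 3))) (wc (var 0) ++ wc (var 3)) (by decide +kernel) _ _ 0 0
  · exact chk (wd (add (var 0) (var 3))) (wd (var 0) ++ wd (var 3)) (by decide +kernel) _ _ 0 0
  · exact chk (we (add (var 6) (var 7))) (we (var 6) ++ we (var 7)) (by decide +kernel) 0 0 _ _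
  · exact chk (wz (add (var 6) (var 7))) (wz (var 6) ++ wz (var 7)) (by decide +kernel) 0 0 _ _
  · exact chk (wb (var 6) ++ wa (var 0)) (wa (var 0) ++ wb (var 6) ++ wc (mul (var 6) (var 0)) ++
      wd (mul (var 6) (psh (var 0))) ++ we (mul (var 6) (pnr (var 0))) ++ wz (mul (pow (var 6) 2) (pnr (var 0))))
      (by decide +kernel) _ 0 _ 0
  · exact chk (wc (var 3) ++ wa (var 0)) (wa (var 0) ++ wc (var 3) ++ wd (pcr (var 0) (var 3)) ++
      we (ptr (mul (psh (var 0)) (var 3))) ++ wz (ptr (mul (var 0) (psh (var 3))))) (by decide +kernel) _ _ 0 0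
  · exact chk (wd (var 3) ++ wa (var 0)) (wa (var 0) ++ wd (var 3) ++ we (ptr (mul (var 0) (var 3))))
      (by decide +kernel) _ _ 0 0
  · exact chk (we (var 6) ++ wa (var 0)) (wa (var 0) ++ we (var 6)) (by decide +kernel) _ 0 _ 0
  · exact chk (wz (var 6) ++ wa (var 0)) (wa (var 0) ++ wz (var 6)) (by decide +kernel) _ 0 _ 0
  · exact chk (wc (var 0) ++ wb (var 6)) (wb (var 6) ++ wc (var 0)) (by decide +kernel) _ 0 _ 0
  · exact chk (wd (var 0) ++ wb (var 6)) (wb (var 6) ++ wd (var 0)) (by decide +kernel) _ 0 _ 0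
  · exact chk (we (var 6) ++ wb (var 7)) (wb (var 7) ++ we (var 6) ++ wz (neg (mul (var 6) (var 7))))
      (by decide +kernel) 0 0 _ _
  · exact chk (wz (var 6) ++ wb (var 7)) (wb (var 7) ++ wz (var 6)) (by decide +kernel) 0 0 _ _
  · exact chk (wd (var 0) ++ wc (var 3)) (wc (var 3) ++ wd (var 0) ++ wz (ptr (mul (var 0) (var 3))))
      (by decide +kernel) _ _ 0 0
  · exact chk (we (var 6) ++ wc (var 0)) (wc (var 0) ++ we (var 6)) (by decide +kernel) _ 0 _ 0
  · exact chk (wz (var 6) ++ wc (var 0)) (wc (var 0) ++ wz (var 6)) (by decide +kernel) _ 0 _ 0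
  · exact chk (we (var 6) ++ wd (var 0)) (wd (var 0) ++ we (var 6)) (by decide +kernel) _ 0 _ 0
  · exact chk (wz (var 6) ++ wd (var 0)) (wd (var 0) ++ wz (var 6)) (by decide +kernel) _ 0 _ 0
  · exact chk (wz (var 6) ++ we (var 7)) (we (var 7) ++ wz (var 6)) (by decide +kernel) 0 0 _ _

/-- the reflection in `a` -/
def wn : List (ℕ × PE) :=
  wa (neg one) ++ [(5, one), (10, one), (11, one)] ++ wa (neg one)
/-- the reflection in `b` -/
def wm : List (ℕ × PE) := wb one ++ [(9, neg one)] ++ wb one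

/-- the reflection in `a` -/
noncomputable def na (K : Type*) [Field K] : GL chevD4.Idx K := W (evW [] wn)
/-- the reflection in `b` -/
noncomputable def nb (K : Type*) [Field K] : GL chevD4.Idx K := W (evW [] wm)

theorem na_rel : (∀ t, na K * xb t = xe t * na K) ∧ (∀ t, na K * xc t = xd (-t) * na K) ∧
    (∀ t, na K * xd t = xc t * na K) ∧ (∀ t, na K * xe t = xb (-t) * na K) ∧ ∀ t, na K * xz t = xz t * na K := by
  refine ⟨?_, ?_, ?_, ?_, ?_⟩ <;> intro t <;>
    simp only [na, xb, xc, xd, xe, xz, ← gword_append, map_neg, Subfield.coe_neg]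
  · exact chk (wn ++ wb (var 6)) (we (var 6) ++ wn) (by decide +kernel) 0 0 _ 0
  · exact chk (wn ++ wc (var 0)) (wd (neg (var 0)) ++ wn) (by decide +kernel) _ 0 0 0
  · exact chk (wn ++ wd (var 0)) (wc (var 0) ++ wn) (by decide +kernel) _ 0 0 0
  · exact chk (wn ++ we (var 6)) (wb (neg (var 6)) ++ wn) (by decide +kernel) 0 0 _ 0
  · exact chk (wn ++ wz (var 6)) (wz (var 6) ++ wn) (by decide +kernel) 0 0 _ 0

theorem nb_rel : (∀ t, nb K * xa t = xc t * nb K) ∧ (∀ t, nb K * xc t = xa (-t) * nb K) ∧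
    (∀ t, nb K * xd t = xd t * nb K) ∧ (∀ t, nb K * xe t = xz t * nb K) ∧ ∀ t, nb K * xz t = xe (-t) * nb K := by
  refine ⟨?_, ?_, ?_, ?_, ?_⟩ <;> intro t <;>
    simp only [nb, xa, xc, xd, xe, xz, ← gword_append, map_neg, Subfield.coe_neg]
  · exact chk (wm ++ wa (var 0)) (wc (var 0) ++ wm) (by decide +kernel) _ 0 0 0
  · exact chk (wm ++ wc (var 0)) (wa (neg (var 0)) ++ wm) (by decide +kernel) _ 0 0 0
  · exact chk (wm ++ wd (var 0)) (wd (var 0) ++ wm) (by decide +kernel) _ 0 0 0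
  · exact chk (wm ++ we (var 6)) (wz (var 6) ++ wm) (by decide +kernel) 0 0 _ 0
  · exact chk (wm ++ wz (var 6)) (we (neg (var 6)) ++ wm) (by decide +kernel) 0 0 _ 0

end Cfsg.Agent.TDF.MD
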