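import Cfsg.Agent.FK.Defs

/-! Project TDF (fusion systems on a Sylow `p`-subgroup of `³D₄(q)`): the group in coordinates.
See `notes/TDF.md`. -/

set_option autoImplicit false
set_option linter.unusedSectionVars false

namespace Cfsg.Agent.TDF

open scoped commutatorElement

/-- a field with an automorphism of order three -/
class Tri (K : Type*) [Field K] where
  σ : K →+* K
  cube : ∀ x, σ (σ (σ x)) = x
  frob : ∃ q : ℕ, ∀ x, σ x = x ^ q
  ne : ∃ r, σ r ≠ r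

export Tri (σ)

variable {K : Type*} [Field K] [Tri K]

@[simp] theorem cube (x : K) : σ (σ (σ x)) = x := Tri.cube x

theorem σ_inj : Function.Injective (σ : K → K) := (σ : K →+* K).injective

theorem map_σ (φ : RingAut K) (x : K) : φ (σ x) = σ (φ x) := by
  obtain ⟨q, h⟩ := Tri.frob (K := K)
  rw [h, h, map_pow]

/-- trace -/
def tr (x : K) : K := x + σ x + σ (σ x)
/-- norm -/
def nr (x : K) : K := x * σ x * σ (σ x)
/-- adjoint -/
def sh (x : K) : K := σ x * σ (σ x)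
/-- the polarisation of the adjoint -/
def cr (x y : K) : K := σ x * σ (σ y) + σ (σ x) * σ y

@[simp] theorem σ_tr (x : K) : σ (tr x) = tr x := by simp [tr]; ring
@[simp] theorem σ_nr (x : K) : σ (nr x) = nr x := by simp [nr]; ring
@[simp] theorem tr_zero : tr (0 : K) = 0 := by simp [tr]
@[simp] theorem nr_zero : nr (0 : K) = 0 := by simp [nr]
@[simp] theorem sh_zero : sh (0 : K) = 0 := by simp [sh]
@[simp] theorem nr_one : nr (1 : K) = 1 := by simp [nr]
@[simp] theorem sh_one : sh (1 : K) = 1 := by simp [sh]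
@[simp] theorem cr_zero (x : K) : cr x 0 = 0 := by simp [cr]
@[simp] theorem zero_cr (x : K) : cr 0 x = 0 := by simp [cr]
@[simp] theorem nr_eq_zero {x : K} : nr x = 0 ↔ x = 0 := by simp [nr]
@[simp] theorem sh_eq_zero {x : K} : sh x = 0 ↔ x = 0 := by simp [sh]

/-- the fixed field -/
def Fx (K : Type*) [Field K] [Tri K] : Subfield K := RingHom.eqLocusField σ (RingHom.id K)

theorem mem_Fx {x : K} : x ∈ Fx K ↔ σ x = x := Iff.rfl

@[simp] theorem σ_Fx (t : Fx K) : σ (t : K) = t := t.2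

/-- the trace as an element of the fixed field -/
@[simps] def trF (x : K) : Fx K := ⟨tr x, σ_tr x⟩
/-- the norm as an element of the fixed field -/
@[simps] def nrF (x : K) : Fx K := ⟨nr x, σ_nr x⟩

/-- `x_a(a) x_b(b) x_{a+b}(c) x_{2a+b}(d) x_{3a+b}(e) x_{3a+2b}(z)` -/
@[ext] structure DU (K : Type*) [Field K] [Tri K] where
  a : K
  b : K
  c : K
  d : K
  e : K
  z : K
  hb : σ b = b
  he : σ e = e
  hz : σ z = z

namespace DU

attribute [simp] hb he hz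

instance : Mul (DU K) := ⟨fun g h => ⟨g.a + h.a, g.b + h.b, g.c + g.b * h.a + h.c,
  g.d + cr h.a g.c + g.b * sh h.a + h.d, g.e + tr (h.a * g.d) + tr (sh h.a * g.c) + g.b * nr h.a + h.e,
  g.z + h.z + g.b ^ 2 * nr h.a + tr (h.a * sh g.c) + g.b * tr (sh h.a * g.c)
    - (g.e + tr (h.a * g.d) + tr (sh h.a * g.c) + g.b * nr h.a) * h.b
    + tr ((g.d + cr h.a g.c + g.b * sh h.a) * h.c), by simp, by simp, by simp⟩⟩
instance : One (DU K) := ⟨⟨0, 0, 0, 0, 0, 0, by simp, by simp, by simp⟩⟩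
instance : Inv (DU K) := ⟨fun g => ⟨-g.a, -g.b, -g.c + g.b * g.a, -g.d + cr g.a g.c - g.b * sh g.a,
  -g.e + tr (g.a * g.d) - tr (sh g.a * g.c) + g.b * nr g.a,
  -g.z - g.e * g.b + tr (g.d * g.c) - g.b ^ 2 * nr g.a - tr (g.a * sh g.c) + g.b * tr (sh g.a * g.c),
  by simp, by simp, by simp⟩⟩

variable (g h : DU K)

@[simp] theorem mul_a : (g * h).a = g.a + h.a := rfl
@[simp] theorem mul_b : (g * h).b = g.b + h.b := rfl
@[simp] theorem mul_c : (g * h).c = g.c + g.b * h.a + h.c := rfl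
@[simp] theorem mul_d : (g * h).d = g.d + cr h.a g.c + g.b * sh h.a + h.d := rfl
@[simp] theorem mul_e : (g * h).e = g.e + tr (h.a * g.d) + tr (sh h.a * g.c) + g.b * nr h.a + h.e := rfl
@[simp] theorem mul_z : (g * h).z = g.z + h.z + g.b ^ 2 * nr h.a + tr (h.a * sh g.c) + g.b * tr (sh h.a * g.c)
    - (g.e + tr (h.a * g.d) + tr (sh h.a * g.c) + g.b * nr h.a) * h.b
    + tr ((g.d + cr h.a g.c + g.b * sh h.a) * h.c) := rfl
@[simp] theorem one_a : (1 : DU K).a = 0 := rfl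
@[simp] theorem one_b : (1 : DU K).b = 0 := rfl
@[simp] theorem one_c : (1 : DU K).c = 0 := rfl
@[simp] theorem one_d : (1 : DU K).d = 0 := rfl
@[simp] theorem one_e : (1 : DU K).e = 0 := rfl
@[simp] theorem one_z : (1 : DU K).z = 0 := rfl
@[simp] theorem inv_a : g⁻¹.a = -g.a := rfl
@[simp] theorem inv_b : g⁻¹.b = -g.b := rfl
@[simp] theorem inv_c : g⁻¹.c = -g.c + g.b * g.a := rfl
@[simp] theorem inv_d : g⁻¹.d = -g.d + cr g.a g.c - g.b * sh g.a := rfl
@[simp] theorem inv_e : g⁻¹.e = -g.e + tr (g.a * g.d) - tr (sh g.a * g.c) + g.b * nr g.a := rfl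
@[simp] theorem inv_z : g⁻¹.z = -g.z - g.e * g.b + tr (g.d * g.c) - g.b ^ 2 * nr g.a - tr (g.a * sh g.c)
    + g.b * tr (sh g.a * g.c) := rfl

instance : Group (DU K) := Group.ofLeftAxioms
  (fun g h k => by ext <;> simp [tr, nr, sh, cr] <;> ring)
  (fun g => by ext <;> simp) fun g => by ext <;> simp [tr, nr, sh, cr] <;> ring

/-- coordinates -/
def equiv (K : Type*) [Field K] [Tri K] : DU K ≃ K × Fx K × K × K × Fx K × Fx K :=
  ⟨fun g => (g.a, ⟨g.b, g.hb⟩, g.c, g.d, ⟨g.e, g.he⟩, ⟨g.z, g.hz⟩),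
    fun x => ⟨x.1, x.2.1, x.2.2.1, x.2.2.2.1, x.2.2.2.2.1, x.2.2.2.2.2, x.2.1.2, x.2.2.2.2.1.2, x.2.2.2.2.2.2⟩,
    fun _ => rfl, fun _ => rfl⟩

instance [Finite K] : Finite (DU K) := .of_equiv _ (equiv K).symm

@[simp] theorem comm_a : ⁅g, h⁆.a = 0 := by simp [commutatorElement_def]
@[simp] theorem comm_b : ⁅g, h⁆.b = 0 := by simp [commutatorElement_def]
@[simp] theorem comm_c : ⁅g, h⁆.c = g.b * h.a - h.b * g.a := by simp [commutatorElement_def]; ring
@[simp] theorem comm_d : ⁅g, h⁆.d = cr h.a g.c - cr g.a h.c - g.b * sh h.a + h.b * sh g.a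
    - (g.b - h.b) * cr g.a h.a := by simp [commutatorElement_def, sh, cr]; ring

end DU

/-- root elements -/
@[simps] def XA (t : K) : DU K := ⟨t, 0, 0, 0, 0, 0, by simp, by simp, by simp⟩
/-- root elements -/
@[simps] def XB (t : Fx K) : DU K := ⟨0, t, 0, 0, 0, 0, by simp, by simp, by simp⟩
/-- root elements -/
@[simps] def XC (t : K) : DU K := ⟨0, 0, t, 0, 0, 0, by simp, by simp, by simp⟩
/-- root elements -/
@[simps] def XD (t : K) : DU K := ⟨0, 0, 0, t, 0, 0, by simp, by simp, by simp⟩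
/-- root elements -/
@[simps] def XE (t : Fx K) : DU K := ⟨0, 0, 0, 0, t, 0, by simp, by simp, by simp⟩
/-- root elements -/
@[simps] def XZ (t : Fx K) : DU K := ⟨0, 0, 0, 0, 0, t, by simp, by simp, by simp⟩

theorem nf (g : DU K) :
    g = XA g.a * XB ⟨g.b, g.hb⟩ * XC g.c * XD g.d * XE ⟨g.e, g.he⟩ * XZ ⟨g.z, g.hz⟩ := by ext <;> simp

/-- `Q` -/
def sQ : Subgroup (DU K) where
  carrier := {g | g.a = 0}
  one_mem' := rfl
  mul_mem' := fun h k => by simp_all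
  inv_mem' := fun h => by simp_all
/-- `T` -/
def sT : Subgroup (DU K) where
  carrier := {g | g.b = 0}
  one_mem' := rfl
  mul_mem' := fun h k => by simp_all
  inv_mem' := fun h => by simp_all
/-- the fourth centre -/
def sZ4 : Subgroup (DU K) where
  carrier := {g | g.a = 0 ∧ g.b = 0}
  one_mem' := by simp
  mul_mem' := fun h k => by simp_all
  inv_mem' := fun h => by simp_all
/-- the third centre -/
def sZ3 : Subgroup (DU K) where
  carrier := {g | g.a = 0 ∧ g.b = 0 ∧ g.c = 0}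
  one_mem' := by simp
  mul_mem' := fun h k => by simp_all
  inv_mem' := fun h => by simp_all
/-- the second centre -/
def sY : Subgroup (DU K) where
  carrier := {g | g.a = 0 ∧ g.b = 0 ∧ g.c = 0 ∧ g.d = 0}
  one_mem' := by simp
  mul_mem' := fun h k => by simp_all
  inv_mem' := fun h => by simp_all
/-- the centre -/
def sZ : Subgroup (DU K) where
  carrier := {g | g.a = 0 ∧ g.b = 0 ∧ g.c = 0 ∧ g.d = 0 ∧ g.e = 0}
  one_mem' := by simp
  mul_mem' := fun h k => by simp_all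
  inv_mem' := fun h => by simp_all
/-- `X_b Z` -/
def sY0 : Subgroup (DU K) where
  carrier := {g | g.a = 0 ∧ g.c = 0 ∧ g.d = 0 ∧ g.e = 0}
  one_mem' := by simp
  mul_mem' := fun h k => by simp_all
  inv_mem' := fun h => by simp_all
/-- `X_{3a+b}` -/
def sXe : Subgroup (DU K) where
  carrier := {g | g.a = 0 ∧ g.b = 0 ∧ g.c = 0 ∧ g.d = 0 ∧ g.z = 0}
  one_mem' := by simp
  mul_mem' := fun h k => by simp_all
  inv_mem' := fun h => by simp_all
/-- `X_a Z₃` -/
def sRa : Subgroup (DU K) where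
  carrier := {g | g.b = 0 ∧ g.c = 0}
  one_mem' := by simp
  mul_mem' := fun h k => by simp_all
  inv_mem' := fun h => by simp_all

variable {g : DU K}

@[simp] theorem mem_sQ : g ∈ (sQ : Subgroup (DU K)) ↔ g.a = 0 := Iff.rfl
@[simp] theorem mem_sT : g ∈ (sT : Subgroup (DU K)) ↔ g.b = 0 := Iff.rfl
@[simp] theorem mem_sZ4 : g ∈ (sZ4 : Subgroup (DU K)) ↔ g.a = 0 ∧ g.b = 0 := Iff.rfl
@[simp] theorem mem_sZ3 : g ∈ (sZ3 : Subgroup (DU K)) ↔ g.a = 0 ∧ g.b = 0 ∧ g.c = 0 := Iff.rfl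
@[simp] theorem mem_sY : g ∈ (sY : Subgroup (DU K)) ↔ g.a = 0 ∧ g.b = 0 ∧ g.c = 0 ∧ g.d = 0 := Iff.rfl
@[simp] theorem mem_sZ : g ∈ (sZ : Subgroup (DU K)) ↔ g.a = 0 ∧ g.b = 0 ∧ g.c = 0 ∧ g.d = 0 ∧ g.e = 0 := Iff.rfl
@[simp] theorem mem_sY0 : g ∈ (sY0 : Subgroup (DU K)) ↔ g.a = 0 ∧ g.c = 0 ∧ g.d = 0 ∧ g.e = 0 := Iff.rfl
@[simp] theorem mem_sXe : g ∈ (sXe : Subgroup (DU K)) ↔ g.a = 0 ∧ g.b = 0 ∧ g.c = 0 ∧ g.d = 0 ∧ g.z = 0 := Iff.rfl
@[simp] theorem mem_sRa : g ∈ (sRa : Subgroup (DU K)) ↔ g.b = 0 ∧ g.c = 0 := Iff.rfl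

instance : (sQ : Subgroup (DU K)).Normal := ⟨fun n h s => by simp_all⟩
instance : (sT : Subgroup (DU K)).Normal := ⟨fun n h s => by simp_all⟩
instance : (sZ4 : Subgroup (DU K)).Normal := ⟨fun n h s => by simp_all⟩
instance : (sZ3 : Subgroup (DU K)).Normal := ⟨fun n h s => by simp_all; ring⟩
instance : (sY : Subgroup (DU K)).Normal := ⟨fun n h s => by simp_all [sh, cr]; constructor <;> ring⟩
instance : (sZ : Subgroup (DU K)).Normal := ⟨fun n h s => by
  simp_all [tr, nr, sh, cr]; refine ⟨?_, ?_, ?_⟩ <;> ring⟩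

/-- commutators with the third centre -/
theorem comm_Z3 {w : DU K} (hw : w ∈ (sZ3 : Subgroup (DU K))) (g : DU K) :
    ⁅g, w⁆.e = -tr (g.a * w.d) ∧ ⁅g, w⁆.z = g.b * w.e - tr (w.d * g.c) := by
  obtain ⟨h1, h2, h3⟩ := hw
  constructor <;> simp [commutatorElement_def, h1, h2, h3, tr, nr, sh, cr] <;> ring

/-- commutators with the fourth centre -/
theorem comm_Z4 {w : DU K} (hw : w ∈ (sZ4 : Subgroup (DU K))) (g : DU K) :
    ⁅g, w⁆.e = -tr (g.a * w.d) + tr (sh g.a * w.c) := by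
  obtain ⟨h1, h2⟩ := hw
  simp [commutatorElement_def, h1, h2, tr, nr, sh, cr]; ring

/-- commutators in `Q` -/
theorem comm_Q {h : DU K} (hg : g ∈ (sQ : Subgroup (DU K))) (hh : h ∈ (sQ : Subgroup (DU K))) :
    ⁅g, h⁆.e = 0 ∧ ⁅g, h⁆.z = g.b * h.e - g.e * h.b - tr (g.c * h.d) + tr (g.d * h.c) := by
  rw [mem_sQ] at hg hh
  constructor <;> simp [commutatorElement_def, hg, hh, tr, nr, sh, cr]
  ring

end Cfsg.Agent.TDF
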